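import Cfsg.Agent.MQ.Co.Two
import Cfsg.Agent.MQ.UD.Two
import Cfsg.Agent.LV.Cl.Conj_m3
import Cfsg.Agent.MQ.Z.LV.W.E8b
import Cfsg.Agent.LV.W.M6
import Cfsg.Agent.Characters.Core
import Cfsg.Agent.Characters.Central
import Cfsg.Agent.Lib.ListFast
import Cfsg.Agent.Lib.NodupNat
import Cfsg.Agent.Prune
set_option linter.all false
prune_inst 0x7fbdfdf8bba8ebffdfff7e3ffed3fffd91a08fffe6dff973ffe16bbf0b1f03218be5ff8769e010fe9ed7e03c10387853fb7eaffee829dc7ffffdfff41ffbee4ff5f7340971d48c3e0fbc0ff613e277ae7f3ffffffffffffffffffff7ffffffffffbff7ffffff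
open scoped Cfsg.Agent.FastGrp

-- part: MO/UD/Defs
section
/-!
# MO/UD: Lusztig's labelling for classical blocks, definitions and statements (helper38)

* `Om κ ε T` the coset (`Om κ 1 T` the Weyl group), `bo` the box element, `gf` the graph automorphism;
* `Lq` the labels up to the exchange of the rows, `LB` the labels of the characters (a degenerate label counts twice), `cv` covering;
* `De` the antisymmetric functions, `Z` the function of a label, `Aq`, `al` two functionals;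
* `St κ ε M T' T` one step; the boxes for one block;
* `Bc` a block with its chain of coordinate sets, `BSy` a system of characters, `JOut` the labelling, `BoxJ`.
-/

set_option autoImplicit false
set_option linter.unusedSectionVars false

namespace Cfsg.Agent.MO.UD

open Finset Classical Cfsg.Agent.MO.J
open Cfsg.Agent.LV.Cl (SG On Stab cyc sw tt sgn)

section One

variable {n : ℕ}

/-- the size of a box -/
def st : Kn → ℕ
  | .U => 2
  | _ => 1

/-- the coset of the block; `Om κ 1 T` is the Weyl group -/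
noncomputable def Om (κ : Kn) (ε : ℤˣ) (T : Finset (Fin n)) : Finset (SG n) := {g | g ∈ Gp κ T ∧ (κ = .D → sgn g = ε)}

/-- the box element: a transposition for `U` -/
noncomputable def bo (κ : Kn) (C : Finset (Fin n)) : SG n :=
  if h : κ = .U ∧ C.Nonempty then sw (C.min' h.2) (C.max' h.2) 1 else 1

/-- the graph automorphism for `D` -/
noncomputable def gf (κ : Kn) (T : Finset (Fin n)) (g : SG n) : SG n :=
  if h : κ = .D ∧ T.Nonempty then tt (T.min' h.2) * g * tt (T.min' h.2) else g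

/-- invariant functions -/
def Iv (κ : Kn) (ε : ℤˣ) (T : Finset (Fin n)) (φ : SG n → ℂ) : Prop := ∀ g ∈ Om κ ε T, ∀ h ∈ Om κ 1 T, φ (h * g * h⁻¹) = φ g

/-- `g` has no cycle which moves a bead inside its row -/
def El (κ : Kn) (T : Finset (Fin n)) (g : SG n) : Prop :=
  ∀ c ∈ sty T g, κ ≠ .A ∧ (κ = .U → c.1 % 2 = 1) ∧ (κ ≠ .U → c.2 = -1)

/-- labels with a sign -/
abbrev Lb : Type := Finset Pt × Bool

/-- a key for the order of the rows -/
def k2 (S : Finset ℕ) : ℕ ×ₗ ℕ := toLex (#S, ∑ x ∈ S, 2 ^ x)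

/-- the chosen order of the rows -/
def Can (κ : Kn) (u : Finset Pt) : Prop := κ = .B ∨ κ = .D → k2 (row u true) ≤ k2 (row u false)

/-- degenerate labels -/
def Dg (κ : Kn) (k : ℕ) (u : Finset Pt) : Prop := κ = .D ∧ 0 < k ∧ sw' u = u

/-- the labels up to the exchange of the rows -/
noncomputable def Lq (κ : Kn) (ε : ℤˣ) (M k : ℕ) : Finset (Finset Pt) :=
  {u ∈ Lab κ M k | Can κ u ∧ (κ = .D → (ε : ℤ) = (-1) ^ (#(row u true) + M / 2))}

/-- the labels of the characters -/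
noncomputable def LB (κ : Kn) (ε : ℤˣ) (M k : ℕ) : Finset Lb := {a ∈ Lq κ ε M k ×ˢ univ | a.2 = true → Dg κ k a.1}

/-- `v` arises from `u` by the removal of a box -/
def cv (κ : Kn) (v u : Finset Pt) : Prop := ∃ x ∈ rem u, bx u x = v ∨ ((κ = .B ∨ κ = .D) ∧ bx u x = sw' v)

/-- the multiset of the boxes (it determines the family) -/
noncomputable def zz (κ : Kn) (u : Finset Pt) : Multiset Pt := ∑ a ∈ u, (range a.1).val.map fun x => (x, if κ = .U then a.2 else false)

/-- the Harish-Chandra series -/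
def cl (u : Finset Pt) : ℕ := #(row u true)

/-- the eigenvalue of the sum of the reflections -/
noncomputable def lv (κ : Kn) (M k : ℕ) (u : Finset Pt) : ℂ := ((lev κ u - cst κ M k : ℤ) : ℂ) / (wc κ : ℤ)

/-- `± 2 ^ (number of cycles)` on the classes which split in type `D` -/
noncomputable def dl (T : Finset (Fin n)) (g : SG n) : ℤ :=
  ∑ h : SG n with h ∈ On T ∧ h.π = 1 ∧ ∀ j ∈ T, (h * g * h⁻¹).s j = 1, (sgn h : ℤ)

/-- the antisymmetric function of a degenerate label -/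
noncomputable def De (M : ℕ) (T : Finset (Fin n)) (u : Finset Pt) (g : SG n) : ℤ :=
  dl T g * YK .A (M / 2) ((sty T g).map fun c => (c.1 / 2, 1)) {a ∈ u | a.2 = false}

/-- **the function of a label** -/
noncomputable def Z (κ : Kn) (M : ℕ) (T : Finset (Fin n)) (a : Lb) (g : SG n) : ℂ :=
  if Dg κ #T a.1 then (Y κ M T a.1 g + (if a.2 then 1 else -1) * De M T a.1 g) / 2 else Y κ M T a.1 g

/-- the coefficient of `De u` -/
noncomputable def Aq (ε : ℤˣ) (M : ℕ) (T : Finset (Fin n)) (u : Finset Pt) (φ : SG n → ℂ) : ℂ :=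
  (#(Om .D 1 T) : ℂ)⁻¹ * ∑ g ∈ Om .D ε T, φ g * De M T u g

/-- the component in the direction of `Y c` -/
noncomputable def al (κ : Kn) (ε : ℤˣ) (M : ℕ) (T : Finset (Fin n)) (c : Finset Pt) (φ : SG n → ℂ) : ℂ :=
  (∑ g ∈ Om κ ε T, φ g * Y κ M T c g) / ∑ g ∈ Om κ ε T, (Y κ M T c g : ℂ) * Y κ M T c g

/-- an admissible rank -/
def Rk (κ : Kn) (ε : ℤˣ) (M k : ℕ) : Prop := Ok κ M k ∧ (κ = .D → k = 0 → ε = 1)

/-- one step -/
structure St (κ : Kn) (ε : ℤˣ) (M : ℕ) (T' T : Finset (Fin n)) : Prop where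
  sub : T' ⊆ T
  card : #T = #T' + st κ
  ok : Ok κ M #T
  tw : κ = .D → #T' = 0 → ε = 1

/-- the smallest rank -/
def Bas (κ : Kn) (ε : ℤˣ) (k : ℕ) : Prop := k < st κ ∨ (κ = .D ∧ ε ≠ 1 ∧ k = 1)

/-- the number of double cosets which normalise the box Levi subgroup, minus one -/
def c1 (κ : Kn) (k : ℕ) : ℕ := if κ = .A ∨ (κ = .D ∧ k = 0) then 0 else 1

/-- the number of the other double cosets -/
def c2 (κ : Kn) (ε : ℤˣ) (k : ℕ) : ℕ := if κ = .D ∧ ε = 1 ∧ k = 1 then 2 else 1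

/-- the character of degree eight of `W(D4)` -/
noncomputable def ph8 (T : Finset (Fin n)) (g : SG n) : ℤ :=
  (∑ x ∈ T with g.π x = x, (g.s x : ℤ)) * (#{x ∈ T | g.π x = x} - 2)

/-- the data of `OB` for one block -/
def po1 {Λ X C : Type} (lo up : Finset Λ) (cov : Λ → Λ → Prop) (z : Λ → Multiset X) (c : Λ → C) (l : Λ → ℂ) : Po lo up X Unit C where
  cov v a := cov v a
  zl v := z v
  zu a := z a
  bl _ := ()
  bx _ := ()
  cl v := c v
  cu a := c a
  κ a := l a

/-- the partially ordered set of one step; a degenerate lower label counts once -/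
noncomputable def po (κ : Kn) (ε : ℤˣ) (M k : ℕ) :=
  po1 {v ∈ LB κ ε M k | v.2 = false} (LB κ ε M (k + st κ)) (fun v a => cv κ v.1 a.1) (fun a => zz κ a.1) (fun a => cl a.1)
    fun a => (lev κ a.1 : ℂ)

/-! ### the boxes for one block -/

/-- (P) the combinatorial axioms of `OB` -/
structure BPo : Prop where
  ok : ∀ κ ε M k, Ok κ M (k + st κ) → (po κ ε M k).Ok
  levz : ∀ κ (u v : Finset Pt), zz κ u = zz κ v → cl u = cl v → lev κ u = lev κ v
  lev : ∀ κ (u v : Finset Pt) s x x', zz κ u = x ::ₘ s → zz κ v = x' ::ₘ s → cl u = cl v → lev κ u = lev κ v → x = x'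
  /-- a label with a box has a lower neighbour -/
  down : ∀ κ ε M k u, Ok κ M (k + st κ) → u ∈ Lq κ ε M (k + st κ) → (rem u ≠ ∅ ↔ ∃ v ∈ Lq κ ε M k, cv κ v u)
  base : ∀ κ ε M k u, Ok κ M k → Bas κ ε k → u ∈ Lq κ ε M k → rem u = ∅

/-- (G) common upper and common lower neighbours -/
def BDf : Prop := ∀ κ ε M k, Ok κ M (k + st κ) → (κ = .D → k = 0 → ε = 1) → ∀ v ∈ Lq κ ε M k, ∀ v' ∈ Lq κ ε M k,
  #{a ∈ LB κ ε M (k + st κ) | cv κ v a.1 ∧ cv κ v' a.1} = (if v = v' then 1 else 0) +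
    c1 κ k * (if v = v' ∧ ¬ Dg κ k v then 1 else 0) + c2 κ ε k * #{w ∈ LB κ ε M (k - st κ) | cv κ w.1 v ∧ cv κ w.1 v'}

/-- (Z) invariance, restriction, Parseval, integrality -/
structure BZ : Prop where
  inv : ∀ κ ε M {n : ℕ} (T : Finset (Fin n)) a, Iv κ ε T (Z κ M T a)
  flip : ∀ κ ε M {n : ℕ} (T : Finset (Fin n)) (a : Lb), ∀ g ∈ Om κ ε T,
    Z κ M T a (gf κ T g) = Z κ M T (if Dg κ #T a.1 then (a.1, !a.2) else a) g
  mem : ∀ κ ε {n : ℕ} (T : Finset (Fin n)), ∀ g ∈ Om κ ε T, gf κ T g ∈ Om κ ε T ∧ ∀ h ∈ Om κ 1 T, h * g * h⁻¹ ∈ Om κ ε T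
  up : ∀ κ ε M {n : ℕ} (T' T : Finset (Fin n)), St κ ε M T' T → ∀ g ∈ Om κ ε T', bo κ (T \ T') * g ∈ Om κ ε T
  res : ∀ κ ε M {n : ℕ} (T' T : Finset (Fin n)), St κ ε M T' T → ∀ a ∈ LB κ ε M #T, ∀ g ∈ Om κ ε T',
    Z κ M T a (bo κ (T \ T') * g) = ∑ v ∈ Lq κ ε M #T' with cv κ v a.1, (Y κ M T' v g : ℂ)
  par : ∀ κ ε M {n : ℕ} (T : Finset (Fin n)), Rk κ ε M #T → ∀ g ∈ Om κ ε T, ∀ g' ∈ Om κ ε T,
    ∑ a ∈ LB κ ε M #T, Z κ M T a g * Z κ M T a g' = #{h ∈ Om κ 1 T | h * g * h⁻¹ = g'}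
  int : ∀ κ M {n : ℕ} (T : Finset (Fin n)) (a : Lb) (g : SG n), #a.1 = M → Stab T g.π → ∃ z : ℤ, Z κ M T a g = z

/-- (I) induction -/
def BZI : Prop := ∀ κ ε M {n : ℕ} (T' T : Finset (Fin n)), St κ ε M T' T → ∀ a' ∈ LB κ ε M #T', ∀ g ∈ Om κ ε T,
  ∑ h ∈ Om κ 1 T, ∑ g' ∈ Om κ ε T' with bo κ (T \ T') * g' = h * g * h⁻¹, Z κ M T' a' g' =
    #(Om κ 1 T') * ∑ a ∈ LB κ ε M #T with cv κ a'.1 a.1, Z κ M T a g

/-- (A) the antisymmetric functions -/
structure BAn : Prop where
  anti : ∀ M {n : ℕ} (T : Finset (Fin n)) u (g h : SG n), Stab T g.π → h ∈ On T → De M T u (h * g * h⁻¹) = sgn h * De M T u g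
  /-- Parseval -/
  par : ∀ M {n : ℕ} (T : Finset (Fin n)), Ok .D M #T → ∀ g ∈ On T, ∀ g' ∈ On T,
    ∑ u ∈ Lab .D M #T with sw' u = u, De M T u g * De M T u g' = ∑ h : SG n with h ∈ On T ∧ h * g * h⁻¹ = g', (sgn h : ℤ)
  /-- orthonormal -/
  on : ∀ M {n : ℕ} (T : Finset (Fin n)), Ok .D M #T → ∀ u ∈ Lab .D M #T, ∀ v ∈ Lab .D M #T, sw' u = u → sw' v = v →
    ∑ g : SG n with g ∈ On T, De M T u g * De M T v g = if u = v then (Nat.card (On T) : ℤ) else 0
  cas : ∀ M {n : ℕ} (T : Finset (Fin n)), Ok .D M #T → ∀ u ∈ Lab .D M #T, sw' u = u → ∀ g : SG n, Stab T g.π →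
    cas .D T (De M T u) g = (lev .D u - cst .D M #T) * De M T u g
  /-- a positive transposition -/
  two : ∀ M {n : ℕ} (T'' T : Finset (Fin n)), T'' ⊆ T → #T = #T'' + 2 → M % 2 = 0 → ∀ u, #u = M → sw' u = u → ∀ g ∈ On T'',
    De M T u (bo .U (T \ T'') * g) = 2 * ∑ x ∈ rem u with x.2 = false, De M T'' (bx (bx u x) (x.1, true)) g

/-- (C) the sum of the reflections, the functional `Aq` -/
structure BZC : Prop where
  cas : ∀ κ ε M {n : ℕ} (T : Finset (Fin n)), Ok κ M #T → ∀ a ∈ LB κ ε M #T, ∀ g ∈ Om κ ε T,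
    cas κ T (Z κ M T a) g = lv κ M #T a.1 * Z κ M T a g
  /-- `cas` only uses the values on the coset -/
  loc : ∀ κ ε {n : ℕ} (T : Finset (Fin n)) (φ ψ : SG n → ℂ), (∀ g ∈ Om κ ε T, φ g = ψ g) → ∀ g ∈ Om κ ε T,
    J.cas κ T φ g = J.cas κ T ψ g
  iv : ∀ κ ε {n : ℕ} (T : Finset (Fin n)) (φ : SG n → ℂ), Iv κ ε T φ → Iv κ ε T (J.cas κ T φ) ∧ Iv κ ε T (fun g => φ (gf κ T g)) ∧
    ∀ g ∈ Om κ ε T, J.cas κ T (fun g => φ (gf κ T g)) g = J.cas κ T φ (gf κ T g) ∧ φ (gf κ T (gf κ T g)) = φ g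
  adj : ∀ ε M {n : ℕ} (T : Finset (Fin n)), Ok .D M #T → ∀ u ∈ Lq .D ε M #T, Dg .D #T u → ∀ φ : SG n → ℂ,
    Aq ε M T u (J.cas .D T φ) = lv .D M #T u * Aq ε M T u φ
  val : ∀ ε M {n : ℕ} (T : Finset (Fin n)), Ok .D M #T → ∀ u ∈ Lq .D ε M #T, Dg .D #T u → ∀ a ∈ LB .D ε M #T,
    Aq ε M T u (Z .D M T a) = if a.1 = u then if a.2 then 1 else -1 else 0
  exp : ∀ ε M {n : ℕ} (T : Finset (Fin n)), Rk .D ε M #T → ∀ φ : SG n → ℂ, Iv .D ε T φ → ∀ g ∈ Om .D ε T,
    φ g - φ (gf .D T g) = ∑ u ∈ Lq .D ε M #T with Dg .D #T u, Aq ε M T u φ * De M T u g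

/-- (F) families -/
structure BFm : Prop where
  orth : ∀ κ ε M {n : ℕ} (T : Finset (Fin n)), Rk κ ε M #T → ∀ a ∈ LB κ ε M #T, ∀ a' ∈ LB κ ε M #T, zz κ a.1 ≠ zz κ a'.1 →
    ∑ g ∈ Om κ ε T, Z κ M T a g * Z κ M T a' g = 0
  inj : ∀ κ ε M {n : ℕ} (T : Finset (Fin n)), Rk κ ε M #T → ∀ a ∈ LB κ ε M #T, ∀ a' ∈ LB κ ε M #T, ∀ c : ℂ,
    (∀ g ∈ Om κ ε T, Z κ M T a g = c * Z κ M T a' g) → a = a'
  /-- a functional which counts the members of a family in a series -/
  cnt : ∀ κ ε M {n : ℕ} (T : Finset (Fin n)), Rk κ ε M #T → ∀ u ∈ Lq κ ε M #T, ∃ σ : SG n → ℂ,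
    ∀ a ∈ LB κ ε M #T, cl a.1 = cl u → ∑ g ∈ Om κ ε T, Z κ M T a g * σ g =
      if zz κ a.1 = zz κ u then if Dg κ #T u then 1 / 2 else 1 else 0
  /-- the restriction does not vanish -/
  resne : ∀ κ ε M {n : ℕ} (T' T : Finset (Fin n)), St κ ε M T' T → ∀ a ∈ LB κ ε M #T, rem a.1 ≠ ∅ →
    ∃ g ∈ Om κ ε T', Z κ M T a (bo κ (T \ T') * g) ≠ 0
  dg : ∀ κ ε M k, ∀ u ∈ Lq κ ε M k, ∀ v ∈ Lq κ ε M k, zz κ u = zz κ v → Dg κ k u → u = v

/-- (K) the kernel and the labels without boxes -/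
structure BKq : Prop where
  ker : ∀ κ ε M {n : ℕ} (T : Finset (Fin n)), Rk κ ε M #T → ∀ φ : SG n → ℂ, Iv κ ε T φ →
    (Bas κ ε #T ∨ ∃ T', St κ ε M T' T ∧ ∀ i, ∀ g ∈ Om κ ε T', (cas κ T)^[i] φ (bo κ (T \ T') * g) = 0) →
    (∀ g ∈ Om κ ε T, φ g + φ (gf κ T g) = 0) ∨
      ∃ c ∈ Lq κ ε M #T, rem c = ∅ ∧ ∃ t : ℂ, ∀ g ∈ Om κ ε T, φ g + φ (gf κ T g) = t * Y κ M T c g
  uniq : ∀ κ ε M k, Ok κ M k → ∀ c ∈ Lq κ ε M k, ∀ c' ∈ Lq κ ε M k, rem c = ∅ → rem c' = ∅ → c = c'
  ndg : ∀ κ ε M k, Ok κ M k → ∀ c ∈ Lq κ ε M k, rem c = ∅ → ¬ Dg κ k c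
  /-- the series determines the label without boxes -/
  cls : ∀ κ ε M k k', ∀ c ∈ Lq κ ε M k, ∀ c' ∈ Lq κ ε M k', rem c = ∅ → rem c' = ∅ → cl c = cl c' → c = c' ∧ k = k'
  unit : ∀ κ ε M {n : ℕ} (T : Finset (Fin n)), Ok κ M #T → ∀ c ∈ Lq κ ε M #T, rem c = ∅ →
    ∃ g ∈ Om κ ε T, Y κ M T c g = 1 ∨ Y κ M T c g = -1
  /-- a positive transposition in type `D` -/
  two : ∀ {n : ℕ} (T'' T : Finset (Fin n)), T'' ⊆ T → #T = #T'' + 2 → ∀ g ∈ Om .D 1 T'',
    bo .U (T \ T'') * g ∈ Om .D 1 T ∧ ¬ El .D T (bo .U (T \ T'') * g)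
  ell : ∀ κ M {n : ℕ} (T : Finset (Fin n)) c (g : SG n), c ∈ Lab κ M #T → rem c = ∅ → Stab T g.π → Y κ M T c g ≠ 0 → El κ T g

/-- (V) the inequality at the cuspidal level -/
structure BPV : Prop where
  half : ∀ κ ε M {n : ℕ} (T : Finset (Fin n)), Ok κ M #T → ∀ c ∈ Lq κ ε M #T, rem c = ∅ → ∀ a ∈ LB κ ε M #T, a.1 ≠ c →
    ∃ x : ℝ, al κ ε M T c (Z κ M T a) = x ∧ |x| ≤ 1 / 2
  main : ∀ κ ε M {n : ℕ} (T : Finset (Fin n)) (k : ℕ), #T = k + st κ → Ok κ M #T → ∀ c ∈ Lq κ ε M #T, rem c = ∅ →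
    ∀ N ⊆ LB κ ε M #T, N.Nonempty →
    (∀ a ∈ N, rem a.1 ≠ ∅ ∧ ∀ v ∈ Lq κ ε M k, cv κ v a.1 → ∃ a' ∈ N, a' ≠ a ∧ cv κ v a'.1 ∧ lev κ a'.1 = lev κ a.1) →
    1 < ∑ a ∈ N, (1 - 2 * ‖al κ ε M T c (Z κ M T a)‖) ∨
    (1 ≤ ∑ a ∈ N, (1 - 2 * ‖al κ ε M T c (Z κ M T a)‖) ∧ ∃ a ∈ N, ‖al κ ε M T c (Z κ M T a)‖ = 1 / 3 ∧ ∃ σ : ℤ,
      (κ = .B ∧ #T = 2 ∧ (∃! v, v ∈ Lq κ ε M 1 ∧ cv κ v a.1) ∧ ∀ g ∈ Om κ ε T,
        Z κ M T a g - 3 * al κ ε M T c (Z κ M T a) * Y κ M T c g = σ * (sgn g : ℤ)) ∨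
      (κ = .D ∧ ε = 1 ∧ #T = 4 ∧ ∀ g ∈ Om κ ε T,
        Z κ M T a g - 3 * al κ ε M T c (Z κ M T a) * Y κ M T c g = σ * ph8 T g))
  /-- rank one in type `B` -/
  one : ∀ ε M, Ok .B M 1 → ∀ v ∈ Lq .B ε M 1, ∃! w, w ∈ Lq .B ε M 0 ∧ cv .B w v

/-- (T) the antisymmetric part of a degenerate label -/
def BTw : Prop := ∀ M {n : ℕ} (T'' T : Finset (Fin n)), T'' ⊆ T → #T = #T'' + 2 → Ok .D M #T → ∀ u ∈ Lq .D 1 M #T, Dg .D #T u →
  ∀ e : Lb → ℤ, (∀ w ∈ LB .D 1 M #T'', |e w| ≤ #{v ∈ LB .D 1 M (#T'' + 1) | cv .D w.1 v.1 ∧ cv .D v.1 u} ∧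
    e w ≡ #{v ∈ LB .D 1 M (#T'' + 1) | cv .D w.1 v.1 ∧ cv .D v.1 u} [ZMOD 2]) →
  ∃ R ⊆ Lq .D 1 M #T, u ∈ R ∧ (∀ v ∈ R, Dg .D #T v) ∧ Set.InjOn (lev .D) R ∧ ∃ σ : ℤˣ, ∀ (φ : SG n → ℂ) (c : ℂ), Iv .D 1 T φ →
    (∀ g ∈ Om .D 1 T'', φ (bo .U (T \ T'') * g) = c * ∑ w ∈ LB .D 1 M #T'', e w * Z .D M T'' w g) →
    (∀ g ∈ Om .D 1 T'', φ (bo .U (T \ T'') * g) + φ (gf .D T (bo .U (T \ T'') * g)) = c * Y .D M T u (bo .U (T \ T'') * g)) →
    ∑ v ∈ R, Aq 1 M T v φ = (σ : ℤ) * c

end One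

/-! ### systems of characters -/

/-- a block with the coordinates of its box Levi subgroups; `T j` has `j` boxes more than `T 0` -/
structure Bc where
  n : ℕ
  κ : Kn
  ε : ℤˣ
  wt : ℕ
  N : ℕ
  T : ℕ → Finset (Fin n)
  pos : 0 < wt
  bas : Bas κ ε #(T 0)
  tw : κ = .D → #(T 0) = 0 → ε = 1
  sub : ∀ j < N, T j ⊆ T (j + 1)
  card : ∀ j < N, #(T (j + 1)) = #(T j) + st κ

section Sys

variable {β : Type} [Fintype β] [DecidableEq β] (B : β → Bc)

/-- tuples of signed permutations -/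
abbrev Tu : Type := ∀ b, SG (B b).n

/-- the coset of the Levi subgroup `k` -/
noncomputable def OmS (k : β → ℕ) : Finset (Tu B) := Fintype.piFinset fun b => Om (B b).κ (B b).ε ((B b).T (k b))

/-- one box more in the block `b` -/
abbrev up (k : β → ℕ) (b : β) : β → ℕ := Function.update k b (k b + 1)

/-- the box element of the step from `j` to `j + 1` -/
noncomputable def Bc.bo (C : Bc) (j : ℕ) : SG C.n := UD.bo C.κ (C.T (j + 1) \ C.T j)

/-- the data of a system: `rk χ` says to which Levi subgroup `χ` belongs -/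
structure Sd (E : Type) where
  rk : E → β → ℕ
  y : E → Tu B → ℤ
  m : E → E → ℕ

variable {B} {E : Type} [Fintype E]

/-- the multiplicity functions separate the characters of all Levi subgroups below `k` -/
def Sd.Inj (S : Sd B E) (k : β → ℕ) : Prop :=
  ∀ η η', S.rk η = S.rk η' → S.rk η < k → (∀ g ∈ OmS B (S.rk η), S.y η g = S.y η' g) → η = η'

/-- `η` is the only constituent of the restriction of `χ` -/
def Sd.Lin (S : Sd B E) (χ η : E) : Prop := ∀ η', S.rk η' = S.rk η → S.m χ η' = if η' = η then 1 else 0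

/-- **the axioms of a system** -/
structure BSy (S : Sd B E) : Prop where
  le : ∀ χ b, S.rk χ b ≤ (B b).N
  ne : ∀ χ, ∃ g ∈ OmS B (S.rk χ), S.y χ g ≠ 0
  inv : ∀ χ, ∀ g ∈ OmS B (S.rk χ), ∀ b, ∀ h ∈ Om (B b).κ 1 ((B b).T (S.rk χ b)),
    S.y χ (Function.update g b (h * g b * h⁻¹)) = S.y χ g
  par : ∀ k, (∀ b, k b ≤ (B b).N) → ∀ g ∈ OmS B k, ∀ g' ∈ OmS B k,
    ∑ χ with S.rk χ = k, S.y χ g * S.y χ g' = ∏ b, (#{h ∈ Om (B b).κ 1 ((B b).T (k b)) | h * g b * h⁻¹ = g' b} : ℤ)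
  cas : ∀ χ, ∃ e : ℂ, ∀ g ∈ OmS B (S.rk χ),
    ∑ b, (B b).wt * cas (B b).κ ((B b).T (S.rk χ b)) (fun x => (S.y χ (Function.update g b x) : ℂ)) (g b) = e * S.y χ g
  res : ∀ χ k b, S.rk χ = up k b → ∀ g ∈ OmS B k,
    S.y χ (Function.update g b ((B b).bo (k b) * g b)) = ∑ η with S.rk η = k, S.m χ η * S.y η g
  ind : ∀ η b, S.rk η b < (B b).N → ∀ g ∈ OmS B (up (S.rk η) b),
    ∑ h ∈ Om (B b).κ 1 ((B b).T (S.rk η b + 1)), ∑ g' ∈ Om (B b).κ (B b).ε ((B b).T (S.rk η b)) with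
      (B b).bo (S.rk η b) * g' = h * g b * h⁻¹, S.y η (Function.update g b g') =
    #(Om (B b).κ 1 ((B b).T (S.rk η b))) * ∑ χ with S.rk χ = up (S.rk η) b, S.m χ η * S.y χ g
  /-- Mackey, two different blocks -/
  mk_ne : ∀ η η' b b' k, b ≠ b' → S.rk η = up k b' → S.rk η' = up k b → k b < (B b).N → S.Inj (up (S.rk η) b) →
    ∑ χ with S.rk χ = up (S.rk η) b, S.m χ η * S.m χ η' = ∑ ζ with S.rk ζ = k, S.m η ζ * S.m η' ζ
  /-- Mackey, one block -/
  mk_eq : ∀ η η' b, S.rk η = S.rk η' → S.rk η b < (B b).N → S.Inj (up (S.rk η) b) →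
    ∑ χ with S.rk χ = up (S.rk η) b, S.m χ η * S.m χ η' = (if η = η' then 1 else 0) +
      c1 (B b).κ #((B b).T (S.rk η b)) * (if ∀ g ∈ OmS B (S.rk η),
        S.y η' g = S.y η (Function.update g b (gf (B b).κ ((B b).T (S.rk η b)) (g b))) then 1 else 0) +
      c2 (B b).κ (B b).ε #((B b).T (S.rk η b)) * ∑ ζ with up (S.rk ζ) b = S.rk η, S.m η ζ * S.m η' ζ
  /-- the Levi subgroup `A1 × D(n-2)`, see `two_of` -/
  two : ∀ χ k b, (B b).κ = .D → (B b).ε = 1 → S.rk χ = up (up k b) b → S.Inj (S.rk χ) → ∃ e : E → ℤ,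
    (∀ ζ, S.rk ζ = k → |e ζ| ≤ (∑ η with S.rk η = up k b, S.m χ η * S.m η ζ : ℕ) ∧
      e ζ ≡ (∑ η with S.rk η = up k b, S.m χ η * S.m η ζ : ℕ) [ZMOD 2]) ∧ ∀ g ∈ OmS B k,
    S.y χ (Function.update g b (bo .U ((B b).T (k b + 2) \ (B b).T (k b)) * g b)) = ∑ ζ with S.rk ζ = k, e ζ * S.y ζ g
  /-- the false solution in type `B2` -/
  fkB : ∀ χ η ζ b (σ : ℤ), (B b).κ = .B → S.rk ζ b = 0 → S.rk η = up (S.rk ζ) b → S.rk χ = up (S.rk η) b → S.Inj (S.rk χ) →
    S.Lin χ η → S.Lin η ζ → (∀ g ∈ OmS B (S.rk ζ), S.y ζ g ≠ 0 → ∀ b', El (B b').κ ((B b').T (S.rk ζ b')) (g b')) →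
    ¬ ∀ g ∈ OmS B (S.rk χ), S.y χ g = σ * (sgn (g b) : ℤ) * S.y ζ (Function.update g b 1)
  /-- the false solution in type `D4` -/
  fkD : ∀ χ b (ψ : Tu B → ℂ), (B b).κ = .D → (B b).ε = 1 → S.rk χ b = 4 →
    ¬ ∀ g ∈ OmS B (S.rk χ), (S.y χ g : ℂ) = ph8 ((B b).T 4) (g b) * ψ (Function.update g b 1)

/-- the labels of the Levi subgroup `k` -/
noncomputable def LBs (B : β → Bc) (M k : β → ℕ) : Finset (β → Lb) :=
  Fintype.piFinset fun b => LB (B b).κ (B b).ε (M b) #((B b).T (k b))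

/-- the function of a tuple of labels -/
noncomputable def Zs (B : β → Bc) (M k : β → ℕ) (a : β → Lb) (g : Tu B) : ℂ := ∏ b, Z (B b).κ (M b) ((B b).T (k b)) (a b) (g b)

/-- covering in the block `b` -/
def Cv (B : β → Bc) (b : β) (v a : β → Lb) : Prop := cv (B b).κ (v b).1 (a b).1 ∧ ∀ b', b' ≠ b → v b' = a b'

/-- **Lusztig's labelling** -/
structure JOut (S : Sd B E) (M : β → ℕ) (lab : E → β → Lb) (ε : (β → ℕ) → ℤˣ) : Prop where
  mem : ∀ χ, lab χ ∈ LBs B M (S.rk χ)
  inj : ∀ χ χ', S.rk χ = S.rk χ' → lab χ = lab χ' → χ = χ'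
  sur : ∀ k, (∀ b, k b ≤ (B b).N) → ∀ a ∈ LBs B M k, ∃ χ, S.rk χ = k ∧ lab χ = a
  val : ∀ χ, ∀ g ∈ OmS B (S.rk χ), (S.y χ g : ℂ) = (ε fun b => cl (lab χ b).1 : ℤ) * Zs B M (S.rk χ) (lab χ) g
  box : ∀ χ η b, S.rk χ = up (S.rk η) b → S.m χ η = if Cv B b (lab η) (lab χ) then 1 else 0

end Sys

/-- **J and J+ for classical blocks** -/
def BoxJ : Prop := ∀ {β : Type} [Fintype β] [DecidableEq β] (B : β → Bc) {E : Type} [Fintype E] (S : Sd B E), BSy S →
  ∀ M : β → ℕ, (∀ b, Ok (B b).κ (M b) #((B b).T (B b).N)) → ∃ lab ε, JOut S M lab ε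

example := And.intro @st.eq_def (And.intro @st.eq_1 @st.eq_2)

end Cfsg.Agent.MO.UD

/-- The equation lemmas are written here once, not again in each file that cites them. -/
theorem Cfsg.Agent.MO.UD.eqns_here : True := by
  have := @Cfsg.Agent.MO.UD.st.eq_1
  have := @Cfsg.Agent.MO.UD.st.eq_2
  trivial
end

-- part: MO/U/Defs
section
/-!
# MO / U : families of multiplicity functions on a twisted coset, statements (helper48)

`W_J w` is a coset of a finite Coxeter system, `ψ` the twist.  A family `y i : W → ℤ` stands for the multiplicities of the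
members of one series in the characters of the tori of type `x w`, `x ∈ W_J`, with the common sign which makes the degrees
positive.

* `Tor` : a reflection representation with a Frobenius matrix; `Tor.T u x = det (x • τ u * B - 1)`;
* `Pt` : the properties of one member; `Fam` : the family (Parseval);
* `Td`, `TI` : the orders of the tori of a node; `Dist` : the representatives are not conjugate;
* `Cd`, `CF` : members and families in the coordinates of a node;
* `Tb` : an explicit list with multiplicities; `Tb.Core`, `Tb.Cl`, `Tb.Cl2` : every family is the list.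
-/

set_option autoImplicit false
set_option linter.unusedSectionVars false

namespace Cfsg.Agent.MO.U

open CoxeterSystem Cfsg.Agent.Tits.Exchange Cfsg.Agent.Tits.Core Cfsg.Agent.Tits.Roots
  Cfsg.Agent.ChevalleyStructure.CoxeterGeom Cfsg.Agent.LV.T Cfsg.Agent.LV.W Cfsg.Agent.LV.Enum Finset Matrix

section

variable {I W : Type} [Fintype I] [DecidableEq I] [Group W] [Fintype W] {M : CoxeterMatrix I}
  (cs : CoxeterSystem M W) (A : I → I → ℤ) (ψ : MulAut W) (J : Set I) (w : W)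

/-- A reflection representation `τ` with a Frobenius matrix `B` (for a datum: `Wm`, `Mx`, roots `a`, coroots `b`). -/
structure Tor where
  p : ℕ
  hp : p.Prime
  R : Type
  [fR : Fintype R]
  [dR : DecidableEq R]
  τ : W → Matrix R R ℤ
  B : Matrix R R ℤ
  a : I → R → ℤ
  b : I → R → ℤ
  ex : I → ℕ
  one : τ 1 = 1
  mul : ∀ u v, τ (u * v) = τ u * τ v
  tw : ∀ g, B * τ g = τ (ψ g) * B
  rf : ∀ i ∈ J, τ (cs.simple i) = 1 - vecMulVec (b i) (a i)
  car : ∀ i ∈ J, ∀ j ∈ J, a i ⬝ᵥ b j = A j i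
  fb : ∀ i ∈ J, ∀ j ∈ J, w * ψ (cs.simple i) = cs.simple j * w →
    (τ w * B) *ᵥ b i = ((p : ℤ) ^ ex i) • b j ∧ 0 < ex i + ex j

attribute [instance] Tor.fR Tor.dR

variable {cs A ψ J w}

namespace Tor

variable (t : Tor cs A ψ J w)

/-- the order of the torus of type `u` at the scale `x`, with a sign -/
def T (u : W) (x : ℤ) : ℤ := (x • (t.τ u * t.B) - 1).det

open Classical in
/-- the degree, up to a factor -/
noncomputable def rho (m : W → ℤ) (x : ℤ) : ℚ := ∑ v : WJ cs J, (m (v * w) : ℚ) / t.T (v * w) x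

/-- The degree times the order of some torus divides the order of the group, up to powers of `p` and a bounded factor,
at infinitely many scales. -/
def Deg (m : W → ℤ) : Prop :=
  ∃ v ∈ WJ cs J, ∃ D : ℤ, D ≠ 0 ∧ ∀ n : ℕ, ∃ (j e : ℕ) (z : ℤ), n < j ∧
    t.rho m ((t.p : ℤ) ^ j) * t.T (v * w) ((t.p : ℤ) ^ j) * z = D * (t.p : ℚ) ^ e

end Tor

/-- one member -/
structure Pt (t : Tor cs A ψ J w) (m : W → ℤ) : Prop where
  lv : Lv cs ψ J w fun u => (m u : ℂ)
  inv : ∀ g ∈ WJ cs J, ∀ u, m (g * u) = m (u * ψ g)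
  cas : ∃ κ : ℂ, ∀ x ∈ WJ cs J, ∑ s ∈ rf cs J, (m (s * (x * w)) : ℂ) = κ * m (x * w)
  deg : t.Deg m
  pos : 0 < t.rho m 1 * t.T w 1

variable (cs ψ J w) in
/-- the identity of Parseval -/
def Par {ι : Type} [Fintype ι] (y : ι → W → ℤ) : Prop :=
  ∀ x ∈ WJ cs J, ∀ x' ∈ WJ cs J,
    ∑ i, y i (x * w) * y i (x' * w) = Nat.card {v : WJ cs J // x' * w * ψ v = v * (x * w)}

/-- a family -/
structure Fam (t : Tor cs A ψ J w) {ι : Type} [Fintype ι] (y : ι → W → ℤ) : Prop where
  pt : ∀ i, Pt t (y i)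
  par : Par cs ψ J w y

end

/-! ### the tori of a node -/

/-- the value of a list of coefficients -/
def pz (l : List ℤ) (x : ℤ) : ℤ := List.rec 0 (fun c _ ih => Int.add c (Int.mul x ih)) l

/-- `∏ cy_j (x) ^ e_j` -/
def pr (cy : List (List ℤ)) (x : ℤ) : List ℕ → ℤ :=
  List.rec (fun _ => 1) (fun c _ ih e => Int.mul (pz c x ^ e.headD 0) (ih e.tail)) cy

/-- factors, exponents of the order of the group, exponents and signs of the tori, weights of the nodes, least scale -/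
structure Td where
  cy : List (List ℤ)
  am : List ℕ
  ex : List (List ℕ)
  sg : List ℤ
  wt : List ℕ
  x0 : ℕ

/-- the order of the torus of the class `k` -/
def Td.tt (d : Td) (k : ℕ) (x : ℤ) : ℤ := nth 0 d.sg k * pr d.cy x (nth [] d.ex k)

/-- the order of the group divided by the order of the torus of the class `k` -/
def Td.co (d : Td) (k : ℕ) (x : ℤ) : ℤ := nth 0 d.sg k * pr d.cy x (List.zipWith (· - ·) d.am (nth [] d.ex k))

/-- **the orders of the tori** of a coset which fits the node -/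
def TI (nd : Nd) (d : Td) : Prop :=
  ∀ {I W : Type} [Fintype I] [DecidableEq I] [Group W] [Fintype W] {M : CoxeterMatrix I} {cs : CoxeterSystem M W}
    {A : I → I → ℤ} {h : IsCartan M A} {ψ : MulAut W} {em : ℕ → I} {J : Set I} {w : W} (t : Tor cs A ψ J w),
    Fit cs h ψ nd.toTy em J w → ∃ e : ℕ, d.x0 ≤ t.p ^ e ∧ (∀ i < nd.r, t.p ^ t.ex (em i) = nth 0 d.wt i * t.p ^ e) ∧
      ∀ k < nd.K, ∀ x : ℤ, t.T (el cs nd em w k) x * d.tt 0 (x * t.p ^ e) = t.T w x * d.tt k (x * t.p ^ e)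

/-- **the representatives are not conjugate** -/
def Dist (nd : Nd) : Prop :=
  ∀ {I W : Type} [Fintype I] [DecidableEq I] [Group W] [Fintype W] {M : CoxeterMatrix I} {cs : CoxeterSystem M W}
    {A : I → I → ℤ} {h : IsCartan M A} {ψ : MulAut W} {em : ℕ → I} {J : Set I} {w : W},
    Fit cs h ψ nd.toTy em J w → ∀ k < nd.K, ∀ k' < nd.K, ∀ g ∈ WJ cs J,
      el cs nd em w k * ψ g = g * el cs nd em w k' → k = k'

/-! ### coordinates -/

/-- the value at the class `k` of the vector with the coordinates `a` -/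
def vl (nd : Nd) (a : ℕ → ℚ) (k : ℕ) : ℚ := ∑ φ ∈ range nd.K, a φ * nd.X φ k

/-- the degree, up to the factor `ν 0` -/
def dgr (nd : Nd) (d : Td) (a : ℕ → ℚ) (x : ℤ) : ℚ := ∑ k ∈ range nd.K, nd.n k * vl nd a k * d.co k x

/-- `a` is the part of level `κ` of a vector of the dual lattice -/
def InL (L : LV.W.Lat) (κ : ℤ) (a : ℕ → ℚ) : Prop :=
  ∃ z : ℕ → ℤ, ∀ φ < L.nd.K, a φ = if L.nd.lv 0 φ = κ then L.a z φ else 0

/-- one member in coordinates; `sl` are the exponents of a multiple of the order of the group -/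
structure Cd (L : LV.W.Lat) (d : Td) (sl : List ℕ) (a : ℕ → ℚ) : Prop where
  lat : ∃ κ, InL L κ a
  deg : ∃ p e : ℕ, p.Prime ∧ d.x0 ≤ p ^ e ∧ 0 < dgr L.nd d a (p ^ e) ∧ ∃ D : ℤ, D ≠ 0 ∧ ∀ n : ℕ, ∃ (j f : ℕ) (z : ℤ),
    n < j ∧ dgr L.nd d a (p ^ j) * z = D * (p : ℚ) ^ f * pr d.cy (p ^ j) sl

/-- Parseval in coordinates -/
def PC (nd : Nd) {ι : Type} [Fintype ι] (a : ι → ℕ → ℚ) : Prop :=
  ∀ φ < nd.K, ∀ φ' < nd.K, (∑ i, a i φ * a i φ') * nd.ν φ = if φ = φ' then (nd.ν 0 : ℚ) else 0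

/-- a family in coordinates -/
structure CF (L : LV.W.Lat) (d : Td) (sl : List ℕ) {ι : Type} [Fintype ι] (a : ι → ℕ → ℚ) : Prop where
  cd : ∀ i, Cd L d sl (a i)
  par : PC L.nd a

/-! ### tables -/

/-- An explicit list: `V u` are the coordinates times `N`, `mu u` is the multiplicity.  The extra condition: the test
`tst` on the values at the words `ws` (classes `cl % 256`) holds for at most `bx` members. -/
structure Tb where
  L : LV.W.Lat
  d : Td
  sl : List ℕ
  N : ℕ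
  V : List (List ℤ)
  mu : List ℕ
  ws : List (List ℕ)
  cl : List ℕ
  tst : List ℤ → Bool
  bx : ℕ

namespace Tb

variable (tb : Tb)

/-- the number of vectors -/
def nu : ℕ := tb.V.length

/-- the value of the vector `u` at the class `k` -/
def Y (u k : ℕ) : ℤ := dot (nth [] tb.V u) (tb.L.col k) / tb.N

/-- the multiplicity -/
def m (u : ℕ) : ℕ := nth 0 tb.mu u

/-- every family in coordinates is the list -/
def Core : Prop := ∀ {ι : Type} [Fintype ι] {a : ι → ℕ → ℚ}, CF tb.L tb.d tb.sl a →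
  Nat.card {i // tb.tst (tb.cl.map fun c => ⌊vl tb.L.nd (a i) (c % 256)⌋) = true} ≤ tb.bx →
  ∃ lab : ι → ℕ, (∀ i, lab i < tb.nu ∧ ∀ φ < tb.L.nd.K, tb.N * a i φ = nth 0 (nth [] tb.V (lab i)) φ) ∧
    ∀ u < tb.nu, Nat.card {i // lab i = u} = tb.m u

/-- the extra condition -/
def Ex {I W : Type} [Group W] {M : CoxeterMatrix I} (cs : CoxeterSystem M W) (em : ℕ → I) (w : W)
    {ι : Type} (y : ι → W → ℤ) : Prop :=
  Nat.card {i // tb.tst (tb.ws.map fun l => y i (cs.wordProd (l.map em) * w)) = true} ≤ tb.bx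

/-- the family `y` is the list -/
def Is {I W : Type} [Group W] {M : CoxeterMatrix I} (cs : CoxeterSystem M W) (em : ℕ → I) (w : W)
    {ι : Type} (y : ι → W → ℤ) : Prop :=
  ∃ lab : ι → ℕ, (∀ i, lab i < tb.nu ∧ ∀ k < tb.L.nd.K, y i (el cs tb.L.nd em w k) = tb.Y (lab i) k) ∧
    ∀ u < tb.nu, Nat.card {i // lab i = u} = tb.m u

/-- **every family on a coset of the type is the list** -/
def Cl : Prop :=
  ∀ {I W : Type} [Fintype I] [DecidableEq I] [Group W] [Fintype W] {M : CoxeterMatrix I} {cs : CoxeterSystem M W}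
    {A : I → I → ℤ} {h : IsCartan M A} {ψ : MulAut W} {em : ℕ → I} {J : Set I} {w : W} {t : Tor cs A ψ J w}
    {ι : Type} [Fintype ι] {y : ι → W → ℤ}, Fit cs h ψ tb.L.nd.toTy em J w → Fam t y → tb.Ex cs em w y → tb.Is cs em w y

/-- the family `y` is the product of the lists -/
def Is2 (tb' : Tb) {I W : Type} [Group W] {M : CoxeterMatrix I} (cs : CoxeterSystem M W) (em em' : ℕ → I) (w : W)
    {ι : Type} (y : ι → W → ℤ) : Prop :=
  ∃ lab : ι → ℕ × ℕ, (∀ i, (lab i).1 < tb.nu ∧ (lab i).2 < tb'.nu ∧ ∀ k < tb.L.nd.K, ∀ l < tb'.L.nd.K,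
      y i (el cs tb.L.nd em (el cs tb'.L.nd em' w l) k) = tb.Y (lab i).1 k * tb'.Y (lab i).2 l) ∧
    ∀ u < tb.nu, ∀ v < tb'.nu, Nat.card {i // lab i = (u, v)} = tb.m u * tb'.m v

/-- **two commuting blocks** -/
def Cl2 (tb' : Tb) : Prop :=
  ∀ {I W : Type} [Fintype I] [DecidableEq I] [Group W] [Fintype W] {M : CoxeterMatrix I} {cs : CoxeterSystem M W}
    {A : I → I → ℤ} {h : IsCartan M A} {ψ : MulAut W} {em em' : ℕ → I} {J J' : Set I} {w : W}
    {t : Tor cs A ψ (J ∪ J') w} {ι : Type} [Fintype ι] {y : ι → W → ℤ},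
    Fit cs h ψ tb.L.nd.toTy em J w → Fit cs h ψ tb'.L.nd.toTy em' J' w → LV.T.Min cs (J ∪ J') w →
    (∀ i ∈ J, ∀ j ∈ J', A i j = 0 ∧ A j i = 0 ∧ t.ex i = t.ex j) → Fam t y → tb.Is2 tb' cs em em' w y

end Tb

example := And.intro @Tor.T.eq_1 (And.intro @Tor.rho.eq_1 @Tor.Deg.eq_1)
example := And.intro @Par.eq_1 (And.intro @pz.eq_1 @pr.eq_1)
example := And.intro @Td.tt.eq_1 (And.intro @Td.co.eq_1 @vl.eq_1)
example := And.intro @dgr.eq_1 (And.intro @InL.eq_1 @PC.eq_1)
example := And.intro @Tb.nu.eq_1 (And.intro @Tb.Y.eq_1 @Tb.m.eq_1)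
example := And.intro @Tb.Ex.eq_1 (And.intro @Tb.Is.eq_1 @Tb.Is2.eq_1)

end Cfsg.Agent.MO.U
end

-- part: LV/W/Comb
section
/-!
# LV/W: sequential forms of the checks `derOK`, `invOK` (for large nodes) (helper25)
-/

set_option autoImplicit false

namespace Cfsg.Agent.LV.W

open Finset Cfsg.Agent.LV.Enum

theorem nth_addL (a b : List ℤ) (i : ℕ) : nth 0 (addL Int.add a b) i = nth 0 a i + nth 0 b i := by
  induction a generalizing b i with
  | nil => cases b <;> simp [addL, nth_nil]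
  | cons x a ih =>
    cases b with
    | nil => simp [addL, nth_nil]
    | cons y b =>
      cases i with
      | zero => rfl
      | succ i => exact ih b i

/-- the linear combination of the forms -/
def lc (L : List (List ℤ × ℤ)) (cf : List (ℤ × ℕ)) : List ℤ :=
  List.rec [] (fun p _ ih => addL Int.add ((nth ([], 0) L p.2).1.map fun x => p.1 * x) ih) cf

theorem nth_lc (L : List (List ℤ × ℤ)) (cf : List (ℤ × ℕ)) (φ : ℕ) : nth 0 (lc L cf) φ =
    List.rec 0 (fun p _ ih => p.1 * nth 0 p.2 φ + ih) (cf.map fun p => (p.1, (nth ([], 0) L p.2).1)) := by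
  induction cf with
  | nil => rfl
  | cons p cf ih =>
    show nth 0 (addL Int.add _ (lc L cf)) φ = _
    rw [nth_addL, nth_map_mul, ih]
    rfl

/-- comparison of two lists under a mask -/
def cmpM (m : ℤ) (mk : List Bool) : List ℤ → List ℤ → Bool :=
  List.rec (fun _ _ => true) (fun b _ ih l l' =>
    cond b (decide (m * l.headD 0 = l'.headD 0)) (decide (l.headD 0 = 0)) && ih l.tail l'.tail) mk

theorem cmpM_spec {m : ℤ} {mk : List Bool} {l l' : List ℤ} (h : cmpM m mk l l' = true) {i : ℕ} (hi : i < mk.length) :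
    cond (nth false mk i) (decide (m * nth 0 l i = nth 0 l' i)) (decide (nth 0 l i = 0)) = true := by
  induction mk generalizing l l' i with
  | nil => exact absurd hi (Nat.not_lt_zero i)
  | cons b mk ih =>
    have h1 : (cond b (decide (m * l.headD 0 = l'.headD 0)) (decide (l.headD 0 = 0)) && cmpM m mk l.tail l'.tail) = true := h
    rw [Bool.and_eq_true] at h1
    cases i with
    | zero => cases l <;> cases l' <;> exact h1.1
    | succ i =>
      have h2 := ih h1.2 (Nat.lt_of_succ_lt_succ hi)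
      cases l <;> cases l' <;> exact h2

theorem nth_range_map {α : Type} (d : α) (f : ℕ → α) {n i : ℕ} (hi : i < n) : nth d ((List.range n).map f) i = f i := by
  rw [nth_eq, List.getD_eq_getElem _ _ (by simpa using hi)]; simp

def mskL (nd : Nd) (msk : List (ℕ × ℤ)) : List Bool :=
  List.rec (List.replicate nd.K true) (fun p _ ih =>
    List.zipWith (fun a b => decide (a = p.2) && b) (nth ⟨[], [], [], []⟩ nd.cas p.1).lev ih) msk

theorem mskL_spec {nd : Nd} {msk : List (ℕ × ℤ)} {i : ℕ} (hi : i < (mskL nd msk).length) :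
    nth false (mskL nd msk) i = nd.inm msk i := by
  induction msk with
  | nil =>
    rw [nth_eq, List.getD_eq_getElem _ _ hi]; exact List.getElem_replicate ..
  | cons p msk ih =>
    have e : mskL nd (p :: msk) = List.zipWith (fun a b => decide (a = p.2) && b)
      (nth ⟨[], [], [], []⟩ nd.cas p.1).lev (mskL nd msk) := rfl
    have h1 := hi
    rw [e, List.length_zipWith, lt_min_iff] at h1
    show _ = (decide (nd.lv p.1 i = p.2) && nd.inm msk i)
    rw [← ih h1.2, Nd.lv, nth_eq false, nth_eq false, nth_eq 0, List.getD_eq_getElem _ _ hi,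
      List.getD_eq_getElem _ _ h1.1, List.getD_eq_getElem _ _ h1.2]
    exact List.getElem_zipWith ..

def derOK' (nd : Nd) (L : List (List ℤ × ℤ)) (d : Der) (q : List ℤ × ℤ) : Bool :=
  decide (d.m ≠ 0) && d.msk.all (fun p => Nat.blt p.1 nd.cas.length) &&
  d.cf.all (fun p => Nat.blt p.2 L.length && decide (p.1 * (nth ([], 0) L p.2).2 % (d.m * q.2) = 0)) &&
  (Nat.beq (mskL nd d.msk).length nd.K && cmpM d.m (mskL nd d.msk) q.1 (lc L d.cf))

theorem derOK_of {nd : Nd} {L : List (List ℤ × ℤ)} {d : Der} {q : List ℤ × ℤ} (h : derOK' nd L d q = true) :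
    derOK nd L d q = true := by
  rw [derOK', Bool.and_eq_true, Bool.and_eq_true (Nat.beq _ _), Nat.beq_eq] at h
  rw [derOK, Bool.and_eq_true]
  refine ⟨h.1, allLt_iff.2 fun φ hφ => ?_⟩
  have h1 := cmpM_spec h.2.2 (h.2.1 ▸ hφ)
  rwa [mskL_spec (h.2.1 ▸ hφ), nth_lc] at h1

theorem FX.comb' {nd : Nd} (G : nd.Good) {L : List (List ℤ × ℤ)} (hL : FX nd L) (ds : List Der) (L' : List (List ℤ × ℤ))
    (hc : all2 (derOK' nd L) ds L' = true) : FX nd L' :=
  FX.comb G hL ds L' (all2_iff.2 ((all2_iff.1 hc).imp fun _ _ => derOK_of))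

def invOK' (nd : Nd) (L : List (List ℤ × ℤ)) (R : List (ℤ × List (ℤ × ℕ))) : Bool :=
  allLt nd.K fun φ => (fun q : ℤ × List (ℤ × ℕ) => decide (q.1 ≠ 0) && q.2.all (fun p => Nat.blt p.2 L.length) &&
    cmpM 1 (List.replicate nd.K true) (lc L q.2) (Nd.unit φ q.1)) (nth (0, []) R φ)

theorem invOK_of {nd : Nd} {L : List (List ℤ × ℤ)} {R : List (ℤ × List (ℤ × ℕ))} (h : invOK' nd L R = true) :
    invOK nd L R = true := by
  refine allLt_iff.2 fun φ hφ => ?_
  have h1 := allLt_iff.1 h φ hφ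
  rw [Bool.and_eq_true] at h1 ⊢
  refine ⟨h1.1, allLt_iff.2 fun φ' hφ' => ?_⟩
  have h2 := cmpM_spec h1.2 (i := φ') (by simpa using hφ')
  rw [nth_eq false, List.getD_eq_getElem _ _ (by simpa using hφ'), List.getElem_replicate, cond_true, one_mul,
    nth_lc, Nd.nth_unit] at h2
  exact h2

end Cfsg.Agent.LV.W
end

-- part: LV/W/N8
section
/-! LV/W: generated data (helper25) -/

set_option autoImplicit false
set_option maxRecDepth 100000
set_option Elab.async false

namespace Cfsg.Agent.LV.W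

noncomputable def E8_bas : List (List ℤ × ℤ) :=
    (List.map (fun l => (l, 1)) (List.map (fun n => unz 2 (Nat.shiftRight n 32))
    [0x49249249249249249249249249249249249249249249249249249249249249249249249249249249249a9f767c45,
    0x4924924924924924924924924924924924924924924924924924924924924924924924924924924924d14164d839,
    0x492492492492492492492492492492492492492492492492492492492492492492492492492492492689bde5c099,
    0x4924924924924924924924924924924924924924924924924924924924924924924924924924924934495bc8fbbc,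
    0x9249249249249249249249249249249249249249249249249249249249249249249249268d1249249249cb91ce37,
    0x49249249249249249249249249249249249249249249249249249249249249249249249349249249a249b0c11fde,
    0x92492492492492492492492492492492492492492492492492492492492492492492492689249249a249f1446bea,
    0x924924924924924924924924924924924924924924924924924924924924924924924934689249249249d76d4330,
    0x49249249249249249249249249249249249249249249249249249249249249249249249a4924924d1249bd69fe29,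
    0x9249249249249249249249249249249249249249249249249249249249249249249249344924924d1249a6eb8c9e,
    0x492492492492492492492492492492492492492492492492492492492492492492492492492492689249ec1d7da0,
    0x49249249249249249249249249249249249249249249249249249249249249249249249249249344924987b0b125,
    0x4924924924924924924924924924924924924924924924924924924924924924924924d249249a249249076ce2ef,
    0x49249249249249249249249249249249249249249249249249249249249249249269249249249a249249d7210dff,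
    0x924924924924924924924924924924924924924924924924924924924924924924d124d124924924924977330bdb,
    0x4924924924924924924924924924924924924924924924924924924924924924924926924924d1249249c6a53877,
    0x4924924924924924924924924924924924924924924924924924924924924924934924924924d1249249f17fd374,
    0x9249249249249249249249249249249249249249249249249249249249249249268926892492492492493fc1ea36,
    0x49249249249249249249249249249249249249a492492492492492492492492492492492492689249249a6233255,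
    0x4924924924924924924924924924924924924924924926924924924924934492492492492492492492490d464138,
    0x12492492492492492492492492492492492492689a2492492492492492493449249249249249249249249e6a16a3b,
    0x9249249249249249249249249249249249249344d24926892492492492492492492492492492492492492827688d,
    0x9249249249249249249249249249249249249344924924924924924924934924924924924926892492491cfb10f6,
    0x4924924924924924924924924924924926924924924924924924924924924924924924924934492492495f2dd97f,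
    0x4924924924924924924924924924924924924924924934924924924924d12492492492492492492492497814e8a2,
    0x9249249249249249249249249249249249249269249249249249249249a2492492492492493449249249de527100,
    0x124924924924924924924924924924924924924d1249249249249249249a24924924924924934492492493f1f65a8,
    0x924924924924924924924924924924924d124924924924924924924924d2492492492492493449249249617959ce,
    0x924924924d124924924924924924924d24924924924924924924924924926924924934492492492492498b33e968,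
    0x29249249249249249249249349249249249249249249249249249249249344924924934492492492492491a1afe87,
    0x289249249249249249249249a49249249249249249249249249249249249a49249249344924924924924992edcf45,
    0x9349249249249249249a249249249249249249249269249249249249249249249249249249a2492492493fd42359,
    0x1249a49249249249249344924924924d1249249249249249249249249249269249249249249a249249249035b7399,
    0x1249a249249249249249a249249249269249249249249249249249249249269249249249249a249249249bb2edb20,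
    0x249249a3449249249249a249a4924924d2492492492692492492492492492492492493449249249249249377b9aa2,
    0x1249249344d1249249249249a4924924d2493449249249249249249249249249249249249249249249249687c966c,
    0x249249a249249249249249249249249a24924924d24d24924924924924934492492493449249249249249478c281d,
    0x124924d124924924924924924924924d24924924d1269249249249249249a4924924934492492492492492e9c82b1,
    0x1249249344d249249249249344924924d2493449249249249249249249249249249249249249249249249ea959c21,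
    0x51249249a26892492492689249249249a24924924d12492492492492492492689249249249249249249249de11cc9d,
    0xa492492689a249249249a2492492492692492492692492492492492492492689249249249249249249249c4069545,
    0xa249a4934492492492492492492492492492692492492492492492492493449249249249249a24924924963b229f1,
    0x49a4934689249249249349269249249349249249249a2492492492492492492492492689249a24924924928dbd25e,
    0x289a69344924924924926924d249249269249a249249a24924924924924934492492493449249249249249c30d8b76,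
    0x24d124d1a49249249249249349249249a4924924924924924924924924924d1249249349249a249249249cc11d357,
    0x49249249249249249249249249249a249249249249249249249249249249249249249249249249249249126a1e48,
    0x49249249249249249249249249249249349249249249249249249249249249249249a249249249249249238642ea,
    0x4924924924924924924924924924924924924d24924924924924924924924926892492492492492492499e30691c,
    0x1249249249249249249249249249249249249249249268924924924924924924d1249a2492492492492499e115e4b,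
    0x924924924924924924924924924924924924924924934924924924924924924d1249a24924924924924971e0c07e,
    0x4924924924924924924924924924924924924d249249249249249249249249269249a249249249249249206f5c66,
    0x49249249249249249249249249249249249249249249249249249249268924924924924924924924924921da8978,
    0x4924924924924924924924924924924924d249249249249249249249249249344924924924924924924900745130,
    0x49249249249249249249249249249249a4924924924924924924924924924924924d1249249249249249f8eb18b9,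
    0x12492492492492492492492492492492492492492493449249249249249249268924d1249249249249249df1461aa,
    0x9249249249249249249249249249249249249249249a49249249249249249268924d1249249249249249015c33b2,
    0x4924924924924924924924924924924924d24924924924924924924924924934924d1249249249249249359eeefb,
    0x492492492492492492492492492492492492492492492492492492493449249249249249249249249249c60a3cab,
    0x49249249249249249249249249249249249249249249249249249249249249a49a2492492492492492493729c619,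
    0x49249249249249249249249249249249249249249249249249249a49249249a249249249249249249249f5cae3bf,
    0x92492492492492492492492492492492492492492492492492493449249249a249249249249249249249fb7ff337,
    0x4924924924924924924924924924924924924924924924924924924924924d24d12492492492492492492a759159,
    0x4924924924924924924924924924924924924924924924924934924924924d1249249249249249249249df561d80,
    0x9249249249249249249249249249249249249249249249249268924924924d12492492492492492492492a9eba0c,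
    0x49249249249249249249249249249249249249249249249249249249a2492492492492492492492492494a0fe75d,
    0x4924924924924924924924924924924924924924924924924924924d1249249249249249249249249249504b74ba,
    0x492492492492492492492492492492492492492492492492492492689249249249249249249249249249f6236bf2,
    0x49249249249249249249249249249249249249249249249249249344924924924924924924924924924932ea6928,
    0x4924924924924926924924924924924924924924924924924d12492492492492492492492492492492498a0a8c96,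
    0x924924924934492689249249249249249249249249249249249249249249249249249249249249249249e049548e,
    0x49249249249a4924924924924924924924924924924924924d1249249249249249249249249249249249ad864c44,
    0x9249249249249249249249a24924924924924924924924924924d1249249249249249249249249249249a02fdaa1,
    0x4924924924924924924924d2492493449249249249249249249249249249249249249249249249249249346c6e2b,
    0x4924924924924924924924924924934924924924924924924924d12492492492492492492492492492492e81d66d,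
    0x492492492492493492492492492492492492492492492492689249249249249249249249249249249249f0e3cd97,
    0x924924934492493449249249249249249249249249249249249249249249249249249249249249249249f7f35634,
    0x49249249a492492492492492492492492492492492492492689249249249249249249249249249249249b0cde917,
    0x924924924924924924924d124924924924924924924924924926892492492492492492492492492492493266aa3b,
    0x4924924924924924924926924924d1249249249249249249249249249249249249249249249249249249f770c226,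
    0x4924924924924924924924924924d2492492492492492492492689249249249249249249249249249249f7108e96,
    0x924924924924924924924924924924924924d1249249249249a249249249249249249249249249249249e4cc4132,
    0x492492492492492492492492492692492492689249249249249249249249249249249249249249249249621aef57,
    0x924924924924924924924924924d124924926892492492492492492492492492492492492492492492494c7d6df0,
    0x9249249249249249249249249249249249344924924924934492492492492492492492492492492492490585a01c,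
    0x49249249249249249249249249349249249a2492492492492492492492492492492492492492492492495c76f18a,
    0x92492492492492492492492492689249249a2492492492492492492492492492492492492492492492496a375391,
    0x49249249249249249249249249249249249249249349249a2492492492492492492492492492492492492a7c1880,
    0x49249249249249249249249249a492492492492493449249249249249249249249249249249249249249ef901b93,
    0x924924924924924924924924934492492492492493449249249249249249249249249249249249249249254cb864,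
    0x49249249249249249249249249249249249249249a4924d124924924924924924924924924924924924943892dfc,
    0x4924924924924924924924924d249249249249249a24924924924924924924924924924924924924924910acff00,
    0x9249249249249249249249249a24924924924924924924d124924924924924924924924924924924924954f46a69,
    0x9249a24924924924926892492492492492492492492492492492492492492492492492492492492492494d25deb3,
    0x492492492492492492692492689249249249249249249249249249249249249249249249249249249249d1412584,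
    0x4924d24924924924924924926892492492492492492492492492492492492492492492492492492492499a656aaf,
    0x4924924924d1249249249249249249249249249249249249249249249249249249249249249249249249960d5a8f,
    0x49249249249249249349249344924924924924924924924924924924924924924924924924924924924900ddb74d,
    0x92689249249249249344924924924924924924924924924924924924924924924924924924924924924998921396,
    0x493492492492492493449249249249249249249249249249249249249249249249249249249249249249ad8d194a,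
    0x492492493449249249249249249249249249249249249249249249249249249249249249249249249249b52a43ab,
    0x492492492492492492493449249249249249249249249249249249249249249249249249249249249249568068b9,
    0x4d124924924924924924924924924924924924924924924924924924924924924924924924924924924910e6d8e6,
    0x49249249249249249249a2492492492492492492492492492492492492492492492492492492492492494f596727,
    0x6892492492492492492492492492492492492492492492492492492492492492492492492492492492495af84e6b,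
    0x49249249249249249a249249249249249249249249249249249249249249249249249249249249249249d18a669a,
    0x4924924924924924d12492492492492492492492492492492492492492492492492492492492492492494e5a3a26,
    0x9249249249249aa2492492492492492492492492492492492492492492492492492492492492492492497b121dc5,
    0x4924924924924da249249249249249249249249249249249249249249249249249249249249249249249b2489191,
    0x924924924926a8924924924924924924924924924924924924924924924924924924924924924924924950d7d13f,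
    0x4924924924936892492492492492492492492492492492492492492492492492492492492492492492492f4d4c86,
    0x4924926892492492492492492492492492492492492492492492492492492492492492492492492492497b3120df,
    0x49249a24924924924924924924924924924924924924924924924924924924924924924924924924924978f845f5]))

noncomputable def E8_inv : List (ℤ × List (ℤ × ℕ)) :=
    (List.zip (unz 4
    0x1858a2f1a1e2438b068bc221c5058a1c3870e1c3871450e1e2451438705870e1c3870e1c50f1286c78f13121e0d0f13121c243870f121c3c78e1c3870e1c3870e1c38a28a28a2c785c7490e1e26243870e1e3c705870e1c3870fc6c4c4870e28a1c38a28a2)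
    (List.map (fun n => unv 3 (Nat.shiftRight n 32)) [0x32b4653252, 0x1322d1634b4, 0x2520e979cf3, 0x352419521fe,
    0x339572f9a01fe8, 0x992892f06313ff, 0xa9205da8467, 0xb92f3001cee, 0xe92d92c92bff29101, 0x23650b2f925b8e8fb2,
    0xb58eb654b29d94ac4d84a1d3a, 0x3763d5966caf63677fd139,
    0x2cd92bd32ad529d528d29f4a6d925d524d523d122dfb0e890689fb93d7276e404a012e8, 0x19cd728e38c8f95ef,
    0x4c9892ee3c9a937a6, 0x19cab96b384309, 0x4c94495dbe4409, 0x7496c964960597bdc, 0x11b28597c99419cf4d,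
    0x14694fa5368e5d2934a3da8b6bd73edcf963d75b1e24, 0x65a58e961a57e90252f615, 0x71a5be96da5a6973ec28d0,
    0x7496c9c920bf64ef7, 0x11b2859f92b52fa53c, 0x79a5de975a32e50bd4e, 0x7fa5f697ba39faba827,
    0x196d63a58695fa3f486ab73, 0x1c6d6fa5b6969a3f453324e, 0xf34bbd2324f3e81, 0xff4bed21e782196,
    0x59a54694fa536947a62d30e9834fecbd65db2c177f113, 0xb59ad952ca7652b23eff8b3f,
    0x57a3ab6a9d1d1a67d2974c9a50e8e0daf5afb73edfde416, 0x37675659b2bd9d1ca4dc4, 0x33d2f129c8c6, 0x39d276531737,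
    0x40f258296818, 0x41f28332f05a, 0x42f25ad3ba32, 0x43f2e488b6c8, 0x79a5de98652dbd0, 0x127ca47947f2403a960a,
    0x13fca7794df2c68deb5d, 0x7fa5f69767d5274, 0xa5e68f9a1e31ba95a54, 0x11bca2f944f296fabb7b,
    0x133ca5f94af2bf9703c0, 0xabe6a79a7e3c7eec61b, 0x2c7957f2ade3cc170c31, 0x16fcad7959f25e0730b3,
    0xb59ad952ca7752b2dc14ed57, 0xdd9d5966cb16bbd94bbdbb01, 0x63a70d20960afe9, 0x6fa76d26ed78f5d,
    0x2bd2ab4a9d34694fa52e9934c7b50e941a5fbaf21ff5eb, 0x2c7957f2fa749692, 0xb7e56bcacf91757905e,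
    0x15b34b29d9355f2af4, 0x51a67d2974a4d3eb3db2573ac59a, 0x1ab2cd9834c1b69, 0x2d63ad952ca7652ba9c5f319e,
    0x196d63a58695fbb5cd5061c, 0x297951f2eb07c30d,
    0x57a255bba7774694fa536c92ea926a91ea58b4ec3a241a27ae7db9f2dc25f02628, 0x2af954f257079670,
    0x1c6d6fa5b6969bb4692ba03, 0x3763d5966caf7bec983704, 0x32d2c74b0d2bf4ddabb3de08f9,
    0x38d2df4b6d2d757a698b8e8f4e, 0x2cddd1a53e94dbb975493548f448b5c87448344fdefd65db2e59d17921e6c,
    0x15e9ab4a9d34699f4a5d326943a60d24ffcbf42, 0x93e647947f2af9b74f8, 0x2dd25119cdcc, 0x9fe67794df24e613a36,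
    0x14bca8f92d6f2efc, 0x157caa79cc7c6d81, 0x163cabf91404ab1e, 0x5bf2b5e6cf9a07657d6, 0x17bcaef95cf2261c374b,
    0x317961f2c1e3b89c4e56, 0x14694fa5368e5d2934a3da8b6bd67b67963b06dbee0, 0x49f323cc7f24f2e84fc,
    0x4ff33bccdf2ff297d0e, 0x64f27bd9e8a1, 0x66f22959fea3, 0x57a5569a74d1a53e94ba64d31ed45a3874a0d2b85a5cd2,
    0xbde577cdcf20c6dea3d, 0x317961f214b9adb5, 0x68f2fc985000, 0x69f299c4258b, 0x8de517ca2798895787f,
    0x99e52fca579ec717f15, 0x35f96af267e84707, 0x1afceaf20825c7cc, 0x36f96cf23cc21779, 0x1b7cecf2bd953dc2,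
    0x8de62f944f2980dc6ff, 0x5ff258056ed0, 0x14694fa536d4ba526947a38b6bd67b67963d3881a50, 0x63f2400db00d,
    0x99e65f94af274a677c6, 0x2cd7eaf4faad46a751a8d29f4a6d925d524d523d13c5b961d120d13f6fdeb1bdb1bcbdea6a5bc99,
    0x6ef26bf84914, 0x57a255a253bba34a7d29b5c975493548f6a2d921d120d13f7e7ac6f6c6f2dc2547f19c, 0x6ff20e42d43c,
    0xbde6ef95cf2faa30fac, 0x57a6ad2a74d1a67d2974c9a50e8e0daea83854a, 0x18bce1f2a36939ef,
    0x2cd92bd32ad329d528d29f4a6d925d524d523d122d721d120d13f777d7276e408606af8, 0x65f2cd39e158, 0x67f27e5a3930,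
    0x57a3ab6a9d1d1a67d2974c9a50e8e0daf5cfb6b558d2adb]))

noncomputable def E8_cf : List (List (ℤ × ℕ) × ℤ) :=
    (List.zip (List.map (fun n => unv 5 (Nat.shiftRight n 32))
    [0xde785b8f1803b69e4ea11d87ec40fd678c03751e37000b693c9d4016d07c4e005739f13802998f275002f94f068014c87af00258cf1803b11e370015c27a61d00c603c9d40062f9f138003178f89c000cdd3eebe00bdc3c9d400bdb3d898003368f1b8005ac9f1380019b0793a80066b9ef76000d563c9d400bd53d898001aa8784e4001ba67dd7c003548f6260006a89fc1140f0680149e7b1304671e4ea00b4d3eebe05261f75f0159679d802528f626000cc93c272001a907dd7c0178e793a8006631f75f00b453eebe003310f275002f0cf275001884793a801782793a8003500fbaf800cfe6c4e002df1a0d0029e9ac4c0031e1af76000d766a61d0067a358980033c9b75f0019e0d7bb0006b7349d4001ad8d4c3a0037a9b75f0019d0d09c8006b336ebe001ac8dd886e26c4e02581a4ea005ef3578012b8dbaf80ada6a61d00c586dd7c00c566a61d056a349d4016a4d27500ad06c4e00179cd626000ccc684e40066536ebe006243530e803319b13800b446dd7c006613627002b01b1380031f2c9d40063c593a8017e969874031c2c2720033b2deec001ad164ea11c964ea00b60b89c005ae593a813b1775f005ea5a61d017a1775f02932c9d4016916c4c003112c9d401681775f00b7924ea0031c4dd7c25a4c4e3709068014b249d402b44dd7c0564927508c131380971c6e002b8727508d1cec01283b1304717621b0a300d87c100c2d6a34d3e,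
    0xde785b8f1803b69e4ea11d87ec40fd678c03751e37000b693c9d4016d07c4e005739f13802998f275002f94f068014c87af00258cf1803b11e370015c27a61d00c603c9d40062f9f138003178f89c000cdd3eebe00bdc3c9d400bdb3d898003368f1b8005ac9f1380019b0793a80066b9ef76000d563c9d400bd53d898001aa8784e4001ba67dd7c003548f6260006a89fbd140f067ff49e7b12fc671e4e9ffb4d3eebdfd261f75eff59679d7fe528f625fffcc93c271fffa907dd7bff78e793a7ffe631f75effb453eebdfff310f274ffef0cf274fff884793a7ff782793a7fff500fbaf7ffcfe6c4dffedf1a0cffe9e9ac4bfff1e1af75fffd766a61cffe7a35897fff3c9b75efff9e0d7bafffeb7349d3fffad8d4c39fff7a9b75efff9d0d09c7ffeb336ebdfffac8dd886e26c4e02581a4ea005ef3578012b8dbaf80ada6a61d00c586dd7c00c566a61d056a349d4016a4d27500ad06c4e00179cd626000ccc684e40066536ebe006243530e803319b13800b446dd7c006613627002b01b1380031f2c9d40063c593a8017e969874031c2c2720033b2deec001ad164e9f1c964e9ffb60b89bffdae593a7f3b1775effdea5a61cff7a1775efe932c9d3ff6916c4bfff112c9d3ff681775effb7924e9fff1c4dd7c25a4c4e3709068014b249d402b44dd7c0564927508c131380971c6e002b87274f8d1cebff283b12fc717621b0a300d87bd00c23501e088,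
    0x1bcf0ee3c5fdbb4f274f0d67aef66a3c6dffd349e4e9fcf41e4e9fe998f274ffae53c19ff2c87af00fc678c03711f527fcf09e9873fb603c9d3feb7cf89bffdaf1f137ffb5c3c9d402b68f1b8014b27c4e002d5cf7baffef54f626002f48f625ffef44f668a07c4dfe53cf625f09c7dd7bfa4d3eebdf2967ec3f84a3d897ffbc93c271ffbc83eebdfd231f75efe914fbaf7fda21e4e9fe90cf274ffda11e4ea02900fbaf7fdbe3627012f4d625ffaf86bdd7ff7e8d626002fc9b75f00b706bdd8017d4dbaf805b43427200be46ec3662693a7c70349d3feb79abbfbee36ebdf9d86dd7bfd6a349d409d2693a7e531a138ffb4a6dd7c0561349d4052036270016f964ea015f164ea015e9698740b70b09c805b65bdd8017d164e9bf2593a7f3b1775f02942eebe129964ea04e45b13005625dd7c0a40bbaf814f249d4016c241a012b249d412a26ebe09c924ea210493a8478f52804f0e4ea3e8fb10210762610c5d88c855e0c86d100c2216d27a2,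
    0x1bcf0ee3c5fdbb4f274f0d67aef66a3c6dffd349e4e9fcf41e4e9fe998f274ffae53c19ff2c87af00fc678c03711f527fcf09e9873fb603c9d3feb7cf89bffdaf1f137ffb5c3c9d402b68f1b8014b27c4e002d5cf7baffef54f626002f48f625ffef44f688a07c4e0253cf626109c7dd7c0a4d3eebe12967ec4084a3d89800bc93c27200bc83eebe05231f75f02914fbaf805a21e4ea0290cf275005a11e4e9fe900fbaf805be3626ff2f4d62600af86bdd8017e8d625ffefc9b75effb706bdd7ff7d4dbaf7fdb434271ffbe46ec3662693a7c70349d3feb79abbfbee36ebdf9d86dd7bfd6a349d409d2693a7e531a138ffb4a6dd7c0561349d4052036270016f964ea015f164ea015e9698740b70b09c805b65bdd8017d164ea3f2593a813b1775efe942eebdf29964e9fce45b12ffd625dd7bfa40bbaf7f4f249d3ff6c241a012b249d412a26ebe09c924ea210493a8478f52804f0e4e9be8fb0fe107625f0c5d88c855e0c86cd00c2fb368220,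
    0xde78771e7f56d3d45eed878703759f1faf51e88011d27a8c025a0fc1ff0ce7e1008653caff7e43e3fdb8cf8fecc47f2ffc701ea2ffcef9f83ffcef1f84002970f517ff4b47f2ffe564fc1fff4b07a8c00a563d45ff9d53e53fff6a8797dffed44fdcf40f2bfdf3cf2fbdf38f517fca69ff482130ffa408cb3d9fee92797e005639ea3002918ffa3fca21ff4804e19ea2ffce11ea2ff9413d45ffeb00ffa3ff4fcdc2008fc6bb7fc7d3654009f66bdd8057a3653ffebc9bf47fe9b9aa30015d4dfa3ffae8697dffd7337e8ffeb91a1baf13707f7e06a8bfe579abc02161bf4802959af7609526a8c04683707ff29cd95000acc697dffa4668ca00a446fd200a426e0ff8406e10013f97f48029e2d45ff2e165f8029a2d461b82c650052e5d2f046c5fd2013a96f7604e85fd2084cb51804a4597e005625a8c013816f76029e4fd200a713f483f491946e120d009592a3004e89fa402724fd20f82627023c7bd8027877bb10a3e100460e92211c57343a14100e8748503c4bb4e5c11,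
    0x6f3d1371fc02f69ea3021b0f0e06eb3e681ba8f44008e93d46023a0f1940279cfc2010ca7bb804721fe803f19e300dc47ca8013c27bdd80a603d46009df3f080052e1ea300296cf950014b47ca8013b27e100056c1ea3002958f517fe754f95000ad43cbefff6a47ca7ffd689e585503f0804279e2ce119c793a80a4d3fe904261ff481196792404651f2a002920ffa404a39ea3002918ffa402714ffa3ff4887a8bfe50cffa4014847fd2013807fd1ffa7e6e10047e341a012e8d2fc005b937e8ffd373545fff6d4dfa4014d0d2fc005b337e8ffeb91bb10dc4d35608e06a8c02579a57fbee37e9012b0dfa3fe751bf4809526a8c08506e0ffe539b29ffe929bf4804e435eebfeb19b83ff188dfa3ff484d194027f2fe8ffd3c5a8c025d2deec0538597dffd745fd21d92d45fe382d45ff9dcb517df62fe8ff2a96f75fce85fd2084cbfa3fca45ca7ffa44b51808c0bfa3fe7e4a8bff3e27e8f7e9383561383fe164d2efe544fd1fe504c4df871d0fff2c3d2eefa3ca7f841fe8f7e2a8bb6168fb21b3a41a390656c8f,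
    0x6f3d1ee3c601bb0f0e06eb3e8fb351f2a004f49ff4809683c65009e73f0804331ea3002994fc1ff0c8795fefc67f00bc47a1ffe584f7bb014c07fd1ffa5e3f08002b6cf94fff4b47a20046c1ea3002958f517fe754f94fffad43cbefff6a47ca8005689ece9a078340253cffa3df38f51808cd3fe904261ff4811967ca7f84a3cbf001692797e002d20ffa3fca39ea3002918ffa3fe714ffa4014887fd2013867a8bff3847a8bfe504f517ffda01ff47fe9f9aa2ffcfe3708043d3653ffd3a36540053937e8ffd3537e8ffd3337e8ffeb91aa2edc4d89bf0c0d51804af37d007dc6fd1fe561bf4804ea354602349b4bbf9506e0ffe539b2a002931a5f7ff594dfa3fe721af75ff58cdc1ff8c46fd1ffa4268ca01380dc20014f96a3004fc5a8c025d2deec05345d2eefc97f47f960bc2008dcb517df62fe9012a96f75fce85fd2084cb517f8c4b275014817f4804fc9fa4014e27e8f7e93835612ee011b254604289fa404a4951810824d5823c795002787fa43a8e49011838b384717621b0b340d865850344f325ffbe,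
    0xde78771e7f56d3d45eed878703759f1faf51e88011d27a8c025a0fc1ff0ce7e1008653caff7e43e3fdb8cf8fecc47f2ffc701ea2ffcef9f83ffcef1f84002970f517ff4b47f2ffe564fc1fff4b07a8c00a563d45ff9d53e53fff6a8797dffed44fe0f40f2c01f3cf2fc1f38f51804a69ff47e130ffa3f8cb3da00e92797dffd639ea2ffe918ffa404a21ff47fce19ea3004e11ea3009413d46002b00ffa4014fcdc1ff8fc6bb8047d3653ff9f66bdd7fd7a3654002bc9bf48029b9aa2fff5d4dfa400ae8697e0057337e9002b91a1baf13707f7e06a8bfe579abc02161bf4802959af7609526a8c04683707ff29cd95000acc697dffa4668ca00a446fd200a426e0ff8406e10013f97f48029e2d45ff2e165f8029a2d45db82c64ffd2e5d2efc6c5fd1ff3a96f75fce85fd1f84cb517fca4597dffd625a8bff3816f75fe9e4fd1ffa713f483f491946e120d009592a3004e89fa402724fd20f82627023c7bd8027877baf0a3e0ffc60e921f1c57343a14100e8747503c421fdac3a,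
    0x6f3d1371fc02f69ea3021b0f0e06eb3e681ba8f44008e93d46023a0f1940279cfc2010ca7bb804721fe803f19e300dc47ca8013c27bdd80a603d46009df3f080052e1ea300296cf950014b47ca8013b27e100056c1ea3002958f517fe754f95000ad43cbefff6a47ca7ffd689e575503f07fc279e2cdf19c793a7fa4d3fe8fc261ff47f1967923fc651f29ffe920ffa3fca39ea2ffe918ffa3fe714ffa4014887a8c0250cffa3ff4847fd1ff3807fd200a7e6e0ffc7e3419ff2e8d2fbffdb937e90053735460016d4dfa3ff4d0d2fbffdb337e9002b91bb10dc4d35608e06a8c02579a57fbee37e9012b0dfa3fe751bf4809526a8c08506e0ffe539b29ffe929bf4804e435eebfeb19b83ff188dfa3ff484d194027f2fe8ffd3c5a8c025d2deec0538597dffd745fd1dd92d4602382d46009dcb5181f62fe9012a96f7604e85fd1f84cbfa404a45ca800a44b517f8c0bfa4027e4a8c013e27e8f7e9383561383fe164d2efe544fd1fe504c4df871d0fff2c3d2f0fa3ca80841fe907e2a8bb6168fb21b4241a3a161d909,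
    0x6f3d1ee3c601bb0f0e06eb3e8fb351f2a004f49ff4809683c65009e73f0804331ea3002994fc1ff0c8795fefc67f00bc47a1ffe584f7bb014c07fd1ffa5e3f08002b6cf94fff4b47a20046c1ea3002958f517fe754f94fffad43cbefff6a47ca8005689ed09a07833fe53cffa41f38f517f8cd3fe8fc261ff47f1967ca8084a3cbefff692797dffed20ffa404a39ea2ffe918ffa402714ffa3ff4887fd1ff3867a8c013847a8c02504f518005a01ff48029f9aa3004fe3707fc3d36540053a3653ffd3937e90053537e90053337e9002b91aa2edc4d89bf0c0d51804af37d007dc6fd1fe561bf4804ea354602349b4bbf9506e0ffe539b2a002931a5f7ff594dfa3fe721af75ff58cdc1ff8c46fd1ffa4268ca01380dc20014f96a3004fc5a8c025d2deec05345d2f0fc97f480960bc1ff8dcb5181f62fe8ff2a96f7604e85fd1f84cb51808c4b274ff4817f47fcfc9fa3ff4e27e8f7e93835612ee011b254604289fa404a4951810824d5823c795002787fa3ba8e48ff1838b37c717621b0b340d865750344e580c35e,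
    0x6f3c2dc7a00bda7ec41db0f0df6eb3f005e93c37ff2d078700259cf0dff8e63c38012ca7f000fc879ffb719e802f11e88009613cbf009e03c38009df3da00052f1ecfffe974f94ffcae1e1c0095b3d0fffd2c9ecfffe960f0dfffad63c38012a67ca7ffd689e41140f680109e7b640f9c78700139a7ca80f98797dfe52cfb001f28f440014927f2fffa473c37ffeb18f2fc02710f0dffca19e1c002908f0dffca01f2a0029f1ad0021e9a88004fb34beffd3a35100053936540053634befff6d0de5fff4c8d290cc4d0e010c0d0e002779a7fedb8d2fc04ad34beff9d6697df854686ffe549a1c0119cd43fff498de6002721a5f802909a1c009406b4000a7cb0e0027e2c38009f4b2fc027c2f98009e8b5183b2587002572c380ea965f80950b9501f32c3801291688004e258700138165f804fc90e0014e24bf07e921c5613c003ec90e008d125f809493b1074121c021c744004b0ea30751ec007c1db207e2948642e00b864100c2c9bafe62,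
    0x6f3c2dc7a00bda7ec41db0f0df6eb3f005e93c37ff2d078700259cf0dff8e63c38012ca7f000fc879ffb719e802f11e88009613cbf009e03c38009df3da00052f1ecfffe974f94ffcae1e1c0095b3d0fffd2c9ecfffe960f0dfffad63c38012a67ca7ffd689e3d140f67ff09e7b63ef9c786fff39a7ca7ef98797e0252cfaffdf28f43fff4927f3000a473c38002b18f2fbfe710f0e004a19e1bffe908f0e004a01f29ffe9f1acffe1e9a87ffcfb34bf0053a350fffd393653ffd3634bf0016d0de60014c8d290cc4d0e010c0d0e002779a7fedb8d2fc04ad34beff9d6697df854686ffe549a1c0119cd43fff498de6002721a5f802909a1c009406b4000a7cb0e0027e2c38009f4b2fc027c2f98009e8b517bb2586ffe572c37eea965f7f950b94fdf32c37ff291687ffce2586fff38165f7fcfc90dfff4e24bf07e921c5613c003ec90e008d125f809493b1074121c021c744004b0ea2f751ebff7c1db1f7e2948642e00b863d00c269f0441e,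
    0x379ea36e3d7807ed3e75c23b0fd881facf1101fa4fd87fcb41fb100299cfd87fcb31ec4c015ca79d802590fa3ff8e33e8feec478dc00a603f61fff6bc79d7fff7ba7b130056e1fb0ffced9e36fffb583f62002b58fd880274cf625ffef44ff81740f0680149e78dc02538f27500acc3d89805259e370094a3c6e0016927d49ffed20f6260148e7ec3ffd631ec4bfe914f626005a21fb0ffe90cfd88014847ec3ffa413f61fffbfe6ec3ffa7c69d7ff3f4d1b7ffaf8697dfffc76684e4017e8d1b7ffdb535898016d0da94005b33589800be469990fc4dd8810c0d62600ade68bff85c6b13013b4d09c805ac35897feb59b1d582951ac4c02949bb0ff1a0dd8800ace68dc002d31b527ff594d625ffac66ec400a446b12ffed09bb0ffe901a75fffb78bd87fe7c2ea5002bb2cbf0006345ec40fc97b100960b3b002772f62012b1775f00b4cbd8804a458dc005625ceb7fd605b12ffa793b10029c4b1308692c4c7612df004ec962602744b13013924271f2825897f2e38dbffa61f6207d1fe00e838dbfe58a36ed8595fba183eb06a51b4c24c2,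
    0x6f3c3b8f1817b4fd86cd67edd5a4fd87dfa0f3b01f9cf3afdf98fd8808e53e901b90f180cc678c0bc478dbf8603f61fe37cf3aff8de3cebff2ba7b1302570fd8808db3c6e012b279d7fe55cf2fc0274cf625ff4a27be7a07d200f9e78dbdd38fd87df2cff7ec9478dc02524fa93fca41ec4c118e7ec3fe518f625f8c53d89809c13f61ff2fcd3b010f8da401fe9a37011f0d2fbfe7d9a139029d1a3700970697dff3dcdd87fcb53589809e86d49fe591af35626c4ddd81bb102179a301959a13911a8dd87df49bb1075069d80467346e01298da93f8c669d802509a7603e034ebfe3f2f61fe3e2f6204385d49fc76597e013c167602172f6207d8b62608c8b1b808c4bd87df02d897e3a49d8bc26901b64ec41d24ec36413137771c6dfc28fefd9071b7bb15e6a85dbaa1be70612b37d817,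
    0x6f3d1371fd3fbf69e4e9f1d87ec40fd678c06693c9d402ba0f3afffae73cec02398f274ffdb29e0d004f21e2fff1c678c03701fb10015be79d7ffd6f1e76000b5d3d897feb70fd87fe764f3afffdac1fb10015ae797e0017ac7ec4013a67b130017a27f02681edeffe938f274ffacc3d89805259e760119478dbfff7927d4a001790784e402d1cfd8800ac63d89805229ec4bffb443f61ffd219fb1002908fd87ff4827ec4002df9a75ffcfe3690023e1a5f8005fb34271ffbf0697dfff7dcdd87ffdb535897ff6ccd626002f91bb10dc4d3b01f81ac4bff5bcd17ffcae3589809da684e402d61ac4bff5acd09c7e751bb1009526ec4046834ec00527346dfffbcc6d4a002d29ac4bff58cd89bffac46b12ffed09a76002901a760015f97b0fff5f17b1004f6597dfff7d17b103f25ec402582e26ffeb72f61ff2b16c4bfe932f6201291636fffb44b9d700ac0b626014f276200538962610d244e6ec2690042c9625fe744b1301392513612827ff812e38dc00570fb103e8f3300941c6e009e2f810f85ff01f0ef03019476f3f0240,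
    0x379ea36e3d7807ed3e75c23b0fd881facf1101fa4fd87fcb41fb100299cfd87fcb31ec4c015ca79d802590fa3ff8e33e8feec478dc00a603f61fff6bc79d7fff7ba7b130056e1fb0ffced9e36fffb583f62002b58fd880274cf625ffef44ff7d740f067ff49e78dbfe538f274ffacc3d897fd259e36ff94a3c6dfff6927d4a002d20f625ff48e7ec4005631ec4c02914f625ffda21fb100290cfd87ff4847ec400a413f62000bfe6ec400a7c69d8013f4d1b800af8697e000c76684e3ff7e8d1b8005b535897ff6d0da93ffdb335897ffbe469990fc4dd8810c0d62600ade68bff85c6b13013b4d09c805ac35897feb59b1d582951ac4c02949bb0ff1a0dd8800ace68dc002d31b527ff594d625ffac66ec400a446b12ffed09bb0ffe901a75fffb78bd87fe7c2ea5002bb2cbf0006345ec3efc97b0ff960b3affe772f61ff2b1775effb4cbd87fca458dbffd625ceb805605b1300a793b0ffe9c4b1308692c4c7612df004ec962602744b13013924271f2825897f2e38dbffa61f61f7d1fdfee838dc0258a36ed8595fba1840b06a55f7cc5d8,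
    0x6f3c3b8f1817b4fd86cd67edd5a4fd87dfa0f3b01f9cf3afdf98fd8808e53e901b90f180cc678c0bc478dbf8603f61fe37cf3aff8de3cebff2ba7b1302570fd8808db3c6e012b279d7fe55cf2fc0274cf625ff4a27c07a07d1fef9e78dc1d38fd881f2cff80c9478dbfe524fa9404a41ec4bf18e7ec402518f62608c53d897f9c13f62012fcd3aff0f8da3fdfe9a36ff1f0d2fc027d9a138fe9d1a36ff970697e013dcdd8804b535897f9e86d4a02591af35626c4ddd81bb102179a301959a13911a8dd87df49bb1075069d80467346e01298da93f8c669d802509a7603e034ebfe3f2f61fe3e2f6204385d49fc76597e013c1675fe172f61f7d8b625f8c8b1b7f8c4bd881f02d89823a49d8bc26901b64ec41d24ec36413137771c6dfc28ff019071b83b15e6a85dbaa1c070612634f16f,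
    0x6f3d1371fd3fbf69e4e9f1d87ec40fd678c06693c9d402ba0f3afffae73cec02398f274ffdb29e0d004f21e2fff1c678c03701fb10015be79d7ffd6f1e76000b5d3d897feb70fd87fe764f3afffdac1fb10015ae797e0017ac7ec4013a67b130017a27efa681edf002938f27500acc3d897fd259e75ff19478dc0017927d49fff790784e3fed1cfd87ffac63d897fd229ec4c00b443f62005219fb0ffe908fd88014827ec3ffedf9a76004fe368ffe3e1a5f7ffdfb3427200bf0697e0017dcdd88005b535898016ccd625ffef91bb10dc4d3b01f81ac4bff5bcd17ffcae3589809da684e402d61ac4bff5acd09c7e751bb1009526ec4046834ec00527346dfffbcc6d4a002d29ac4bff58cd89bffac46b12ffed09a76002901a760015f97b0fff5f17b1004f6597dfff7d17b0fbf25ec3fe582e27002b72f62012b16c4c02932f61ff291637000b44b9d6ffac0b625ff4f2761ffd38962610d244e6ec2690042c9625fe744b1301392513612827ff812e38dc00570fb0fbe8f32ff941c6dff9e2f810f85ff01f0eefb019470f0b9752,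
    0x1bcf0b71e811b4fc1ab59e309d47d7fb749f83edd07e0fb731f8407653cafb321f1f5633cfa311f5f5613fe8f7e03f080eb87e0fdd6cf0dfdf68fb006d53c37fc291e1c02144fe1a81e58193cf0e1738f517ba69ea2ed967b41528f0dfdf24f94fdf20f517ba31ea307453d4604221f840d867e0fdd08fc1f6c03d46043e34afb3d34380ee8d0e01fc9aa2fe1a9aa2fe1a1b2a03f235a1389b842f037081b79b205546e103693708327343807cc6ca81d09b840df9783f778bc1f6f4bfa41fc2e53eed1784564bc20cb16a30750b5186ccbc1ec9161bf744b5183a05a8bdde4e101d84960659383d924e11504e0ebe3d81587c1aa8ecf541c375e2b3a6145d30f66061d8407b1a,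
    0x6f3c2dc79fa769e1c2f59e505693c380ed0786fdd98f0dfdf94fe01790f17ecc67a02711e8807603c37f7df3d9ff7de3da0042e1e1c03ed9e87fe164f67ff0a27f0d40f2bf6cf3f983269f29ed9678feb947a1ff8493f9804221e1c07433c3804211e1bf7413c3802300f95010fcd67fdff1a580df4d94ff8f46a2008726ca7f86e686ffc743797fc3236b3e2687066068700fbcd180cb8d94fbac3653fc2a3437eea4dd87df39a8802131ad901194d9501084d0e03a035a007fcb0e01fe2c37f7f0b6c7f8e8bd86cc961c03f05b400fa172a0d9961bfbe45ca8047c90dff0c277f5d93b103e899503a490dd70486f671d0feec3ec4651c805c1f97b316c3c293d50f660616baf71d7,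
    0x1bcf47b8f3fecda7e10bd67b3d5a8fb001fa4fc203b41e57fbf39e57fe198fc1ff8e43caff7e23ec01b84ffa408e03f07fe370fc2008db3c37ff9da3d1002354f0e0014a27b34503caffc279e1bd938fc203a69ff483e59ecfd924f95004a41ea2fe11cfc1ffca31ea2fe114f517fca19f84011847e0ffc7f3707fe3e9a1bff1e8d0e0027a9aa3009686ca802591a75af135dbdb79b200db8d5181f61aa3011a8dc1fba93626fc2834affe331b2a01194d517f8c66960046134aff7fcbc2008f8bc1ff8f4bfa3f8f0b2fbfe7a2c64db92d4604305e10046e5e100fb17f47f1a17f47be65c4dfc645ca802512c64fe302d46043c9517fe7a4960661257fe164d2f04689517df24e0eb8279e0ee3a1fefc393a8fa3e101d072fc1f8b6d8d854506c31d160cc64b78dc3d,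
    0x379e151b8f900cda7a8bb759ea07bf51fcbff9693d45fc341e32809673f0802398f517fcb29eee011c87c806633c601b88f43ff0c27bdd813c07a8bfe57cfc2004af1f83ffcee1ea30095b3e54009da3d0ffe364fc2002748f94fffad13fd9b281eee0213cf7baf8ce3e978129a79e34252cfeefdf28f94ffe724f2fbffac83deec09c73d46005231ff47f18a7fd1ff3887fd20250cf518014847a8c04609ea2ffe900ffa3fe7f9b83ff1f8d06808fa6ca8013e8d94ffe7c9bf4804f735460053537e9009e469c16fc4d0b2f8e06a8c02579a2602171af7609586bdd80a546a8c08526a8befa0dc2004a73654009ca6bdd7fa466e0ffe509b83fbe03707ff2f96a300978b51804ba5bdd7f3e165f8029a2c9d37e4bfa408e0bc2008dcb517f8d8bfa408d0b3c67ca65a8c0848b94fff4896a2fe102fe9023a4e0fb7092c01f6493a7e544bdd7e524a8c360935610e3a200470ef75be8ecfd90762610c5518c85f906c31d160cc62425d75a,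
    0x6f3c3b8f3fab69e5756b3e3d3a8f1ff6e93cafdba0f2bfbb31e57fbf21f20198cf402b11f5fd980f2bfdf7cf2c010bc795ffc6e1e5803ed1e400db27960046a9ecfff1a47b4004689fb3503cafee9e786f64d3f083249e1bfe110fc1fdf08fc201f04fc1ff8c03f08043e34b00ef4d0e010e4dc1ff0dcdc2008e8687008646b3462695ebbcd8fecb8dc206d86e100fa8d2c06d26e103663437f7ca6e0fef84d2c03a034affc3e59600fe161c03f45e11542f07b24586ff859383eda2707db24961504960be3d80661f06a83870662b4442c8261f0c0c27401f5ce,
    0x1bcf0b71e811b4fc1ab59e309d47d7fb749f83edd07e0fb731f8407653cafb321f1f5633cfa311f5f5613fe8f7e03f080eb87e0fdd6cf0dfdf68fb006d53c37fc291e1c02144fd9a81e57d93cf0dd738f5183a69ea30d967b3d528f0e01f24f9501f20f5183a31ea2f7453d45fc221f83ed867e101d08fc206c03d45fc3e34b033d3437eee8d0dfdfc9aa3021a9aa3021a1b29fbf235a1389b842f037081b79b205546e103693708327343807cc6ca81d09b840df9783f778bc1f6f4bfa41fc2e53eed1783564bc1ecb16a2f750b5176ccbc20c9161c0744b517ba05a8c1de4e0fdd84960659383d924e11504e0ebe3d81587c22a8ed0541c385e2b3a6145d30f86061ec08693c,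
    0x6f3c2dc79fa769e1c2f59e505693c380ed0786fdd98f0dfdf94fe01790f17ecc67a02711e8807603c37f7df3d9ff7de3da0042e1e1c03ed9e87fe164f67ff0a27ecd40f2c06cf3f97b269f2a0d967900b947a2008493f97fc221e1bf7433c37fc211e1c07413c37fe300f94ff0fcd6801ff1a57edf4d95008f46a1ff8726ca8086e687004743798043236b3e2687066068700fbcd180cb8d94fbac3653fc2a3437eea4dd87df39a8802131ad901194d9501084d0e03a035a007fcb0e01fe2c37f7f0b6c7f8e8bd88cc961bfbf05b3fefa1729ed9961c03e45ca7fc7c90e010c277f5d93b103e899503a490dd70486f671d0feec3ec3651c7f5c1f983316c3c293d50f86061ffd21f09,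
    0x1bcf52ee3d005ed3d45dbacf71ecd4786ffe5a4f517f0d0795ff8673cb004329e5803f21f1ff7633d005e23ec00ec27fd1fc6d9e1bff95a3ec007d53c37ff9d23c37ff9d13d28aa0795fef9e7a8c1d38fc203a69ea3074b3c380e947ca8013927ca8013907a8bf8473f07ff28c7a8bf8453d45ff2887a8bfe50cfc1ffca11f8402100f517fe7f9b84011f8d2bfdfe9a1c00974686ffe5c9aa3004f53546012c8d02b6e2695ebc0d51804af364007dc6a8c0fb0d51808d46a8c085269aafc6834b002339b2a004e63654009ca6a8bfc6334affe309a58011f1783fe1d2fe9023c2e53ff2d16db4764bfa3f8e0bc1ff8dcbc201f62fe8fe342d45ee99632811896327f1816a3021a495f66125803ec95181f44a8bef925461b04833dd87518ca3b40641e541b8b29ae15ef5c32c483249ed2aa0c,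
    0xde7a26e3cff5ed3d45dbacf7c17a8faffdfa4f517f0d0795ffc739e57fe194f2bfdf90f8ffdf8cf3fd784ffa3f8db3e53ff9da3c38012aa7870013a47870013a2795a681e5803e79f29ed9c78ca04669ea3074b3d9fb251e1c009483fe90231cfc2004a31ea2fe114f517fca21f83fe108f51804a01ea2ffcff3708023f1a5803fa3653ff9f26a8c013d4d51804b43653ff9e46ca8bc4d0683b03708042f36400eb8d5181f61aa3011a8d51810a4d517df41a57ff19cd0e004a6365401294d517f8c66960046134b0043c5a8bfe5d2fe9023c2e53ff9e8b516cc96327f1c1783ff1b9783fbec5a8c0850b517ba65fd20464586ffe512f07ee816a3021e4e10025a4960661257fbec935608d12a2fbe495186c12582f8f5ff761db66ea386fdd07517bb140b1b0ae4190d26a06c5da2d3b3d,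
    0x6f3c3b8f3fab69e5756b3e3d3a8f1ff6e93cafdba0f2bfbb31e57fbf21f20198cf402b11f5fd980f2bfdf7cf2c010bc795ffc6e1e5803ed1e400db27960046a9ecfff1a47b4004689fc3503cb00e9e787064d3f07b249e1c02110fc201f08fc1fdf04fc2008c03f07fc3e34afeef4d0dff0e4dc2010dcdc1ff8e8686ff8646b3462695ebbcd8fecb8dc206d86e100fa8d2c06d26e103663437f7ca6e0fef84d2c03a034affc3e59600fe161c03f45e0d542f0832458700859383eda2707db24961504960be3d80661f08a8386f662b4442c8261ecc0c22b56955d,
    0xde7c3da795ebd87b3ebd67efd5a8f2003b49e5803f11effd96cfdfff0b479001d50f67ff8e46870bc4df406dc69601d69b83fe161a57fe159b840da8d2c01f49b83fbe8364002339bbffe131acffe129a57fe111a58004f85b3ff871257af49451764e0fefa24b00e924af5c13e80de3bff662870b85dfa81c3f9dba1db,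
    0x379e89b8f17d7b4f0decd87b3ebd679fd5a0fdff6e73d280ecc7b403729fc01990f3fecc67a045d3c38042e1e1bfbec1ed002158f67f6d33c3802391ad09c4de006e06870085e6a001d59b2a07546b3fefa4d67fba837800e9cdafffca6350ffe319bc00d88d0e008c26f001df2da0043c5b3fddc487066929356125803e49c20c827805f1ebff7e2d7442800b06a585ae8770,
    0x6f3d4bb8f408da7e1066c3d9f5eb3c005e93d9ff7e83f800ece7a501d98f0dfdf94f2c01f90f4003b19e2faf11f5ffbf01ed002174f0e010b87b4036d9f5fff9583da0042b1ecfeda67870047236ba3137805e06b3fdd79a7fd959b2a07506f001d19bc00d88d0e008c26effb7c58700870b43ff8f121c19a4a4d584f006592cff74921bd904f003715a130a7f50344741b324d,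
    0xde78771e811acf8cfa8f43ecca7961590f902b19e81188fe61784f7bb1f7cfc1f6de3f081b68f43ecb27e1036a9f29f7523e53eec8d0e4e06a8bb6f3640ab8dfa36d86fd1dd49aa31931a5f774a6fd1dd21af762101b83edf16a2ede96f763f8597ddd84961564a8c6513f46de3f30bc50e4c2c67061f5cb2afc,
    0x6f3f23ee3c100eda7fd21dacf2c17a8f43ff8e93fe9023a0fc2010ce7e0ff8653f07f7e43cb007e33f7f5e23f97fc309ef7604ef1f84004ed1e88011aa7ca7ff3a47ca8013c8d0dfbb13707b3036977f9de6898046e37e9012b4d7baff4b0d3c67fad66bdd846a37e902349aa2fbe8370801298d2fbfe729bf47f9486bdd80a466e0ff8446fd201384dc201080dc1ffe7e2d45fe3d2deec09f0b2fc027c4fd1efd2464db849601d6493a82544fd1fe524fd21d04e0f671f9804314380e8544f683a47cf7fcf6,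
    0xde7d26e3f7f5ed3fe90ed67a27b751e88011d27fd204741f840219cfc1ff0ca79601d90f13008e33c100ec47f3008613deec09df3f07ff9da3d0ffe364fc2002754f95002748f94ffe791a1c07626e0f6606a8bfc6f34b007dc6fd1fe569af75fe961bf47f9566bdd846a37e902349a4ea09506e1002531a5f804e534f19feb21af7602919b83fe111bf4804e13708043c5d2eff3e96f7604f8597dff3e27e8f7e92326dc2707f7d92a2fbe89fa404a49fa43a09c1ece3f2ff86286fdd0a582c1e47b057c162,
    0x6f3fa3ee3fcfb369e4e9e1b0f0e06eb3f93dba8fe5ff0d27a8bf8683f0807e73e2702398f517f8e53cb002390ff403b19fe7d988f4401f84f7bb02780f517fcaf9f83ff95e3f08012ba7fd1fe570f517f8db3e53ffd2d1fcbfe164fc2004ac1ea2ffceb1ea2ff1a8797e00a533fe90053234381b89b67e11c0d51804af37d00eb8dfa3f8d86fd1fe559a39884ea3545fc293545f7d06e1004673653ffd26371e7fd2537e8ff290d7bb0148cdc2004a237e900521370807c06e0ffe5f2d45ff2f16a300974b7bb027c2f1e7fd389fa41fa4afc6fc24b002364a8befa27e8fe32493a7841367e11e3a200fc50e06c2f27b41f47bac0d757,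
    0xde788db8f8fab69f83d9b0f6817acf3fecd47a1fefd27e1008683cb007e73ddc07e63f0807e53cb004321f1fedc67c7d588faffdf80fc1ff8dc3f0807db3c37ff2b47a1fefb07e0ffc6b1f83fbea1f2a009646e10bc4d2c010c0dc1ff0bcd8ff6d66fd1f8546e1008526e0ff850695ff84e686ffe519a58009446a8c01384d2c01ff2f07fe3e2f07fc3895183b499c6cc24b0042c9c1ff092707b2092c010e3d7fefc5c2170a7fd80c465154ef5f,
    0x379e31f71e7f56d3c163e3b0f94fbb59e7f5693c37fe3a0f67ffcb39e76011cc7ca7fe594fa4008e43cfffc319e300dc2797e013c0787000a5f3da0009de3da0009dd3e53ff2b87870046c9ecfffceb1f2a009533e54005323653b3135fa02381aa3002979a30011b8d95010b4d2fc02761b29ffceb3556e09d46ca7fe549a5f7fce835a0009ce6a1fffd6635b1fff694d95002721a5f802919acfff188d95001484d68008c06b3fff3f1729ffcfa597e013e24f1a12d24eb5e13bff7592a3009512c4bfce49fa3df04923fc78e88004f1689db0b7f5030c87aa286ac,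
    0xde78646e3c601bb4ffa3dfb0f94fbb59f7f5693e53ff2d07b4004739e76011cc787004729fbff7643c600238cf3fab11e88004f09e5f804ef9ecfffcef1ecfffcee9f29ff95c3e53ff2b67a1fffd6c9ed0004eb1f2a009533e54005323689db89a48ff1c0d94ffe779a7ffe171ac4bfced34bf009d86ca8013acd55b82751a1bff1a4d51804a835a0009ca6ca7ff390d2fc0148cd67ff8c46ca800a426b3ffe501ad0004fe587000a78b518014e965f804f85b63ffedc49e3425a49d6bc26900236497dff3a265404249058f8c12fd011c594ec853fa818c746273141,
    0x1bcf0b71f211b4fc1d7b0f3b0cd679e7d47a206693f081ba0f2c0cce7960bcc7e0fb729e57d990f8fab19f21188fb00cc07e0fdd74f5181f70fc1f6db3c3807da3d1032c1e327f1ac7e101d50f94fdf4cf51810c4d2c1779b1f5546e1036834afdb39a1c03e334b01b09a5819f2f07eed24ad38495f649383ae092c17c7b00c853ce0c24a807546,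
    0x6f3fb2371f1ffbf69f4bc21b0f7bb04b59f47f76a3f97ffeba4f517fe7a0fc2004b39f84004f31ea30015ca7e10013c8795ffc719e58011c47a1fffa613deec02b80f517ffade3f080016ba7bdd7fed70f51800adb3e53fff6b47f300057235461b89adb404f03545ffeb79a3effe971bf48095a6bdd8056c37e8ffeb59a3987e951a4e9ffb526a8bfe541b83fff59cd950005a537e9002b21af7600b466e100056134d57ff680dc1fffdbe5a8bffd7c5a8c0057a5bdd8057897baf8e9247971c25dc0052c951804a89baf7fac922efc290485980a71d100053159a6230aeb7f90396cc78573797,
    0xde7cb666e3cb0023b4f177e14d87bdd825acf75bfcb51fcc0015d2793a7feda0f355ffdb39f84004f31ea30015ca7bb800a643c7dffd319f1ffbf11e88002984f7bb00ae03d45ffeb7cfc1fffdae9ef75ffb5c3d46002b6cf950005ad1fcbfff5b27e10002d91acd311c4d0b3014c0d51800ade695ffc6e36ebdfeb69af76015b0dfa400ad668e61fa546a8bff3a4d51804a83707ffeb39b29fffb4a6fd1ffd6435eec0168cdc2000ac26e10025f2d45ffebe2d45ffebd2deec02bc4bdd7c74923cb8e1384004ec9517fca89fa404a49a5e10825b6809f1d0fffd315461b0b47f703ec8675ebe3b,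
    0x6f3c8bb8f3fd7b4fc20cd87e103751e3fff1ce796008663cb00238cf67fbb11f5ffe184f51804af1e580015ba7e0ffc6e1f83ff95a3c8002358fc2004aa9ed000294cfc1fff4a47b3fffa64686ebc4d2c01f79b1fff1b8d51808da6a8bfe561b83ffceb37e9042a34affe331a1bffce43546009c2696001380d2bfffafcb2c0014e96a300970b0e0027c4fd1efd2590db64e1004689193fca496441fc7b0010c52486c2c7fb41a47e6e053f7,
    0x6f3c9371fd02f69e1bedd87d815acff2ea3d1007e93c3807e83f0804339e32811cc7ec3fc729e5803f21e2ff7633fa05e23d0ff7e03c380237cf67ff8de3da002374f95008dc3f61fe36cf43ffcad1e8803ec9ed0011b0786ffc6b1e1bfbea9e88009543f980234cf94ffe748f44004b23510ac4def03af345feea8d0e01f49b29fbe835a007ce6a1ffe531bcbfe119ad002111b2a009426e1008406b3ffc7e587004785f2ff87132a0dd24eb5e125803ec994fdf2486fb609ef03b8e87fbf1510a85f28324258170f9,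
    0x379e38af71ec60096d3dc48f9ec3f61f7eb3ee004351e88009693d46002ba0fc1ffe79cf356005b31ea2fffb653ddc005321e2600298cf5e008e23d0fffeb84f7baffae03d45fff6be7e100017bc7e10002d74f3c6802f70f517ffef6cf94fffef68f6c800ad93f07fffbd83d45fff6ac7a8bffed54f9500018a8797e0017a67fd1fff7c8dfa3bb134d58052f3577ff9dc69e34056d35eec02b59a3987e951aa3002949bf47ff5a0dc200149cd94fffef31a5f7ffde537e9001690d7baffda33708002b11bf48005e13465001680dc1fffdbe5a8c002dd2deebfebc486790a693845612ee002964fd1ffa512f75fe924c863e504e10013e3a1fff3c516710853fd60c62a1cd0c151,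
    0xde785b8f01b69ecfaf61fefaf59e811a8fb001fa4f6806e83da01b9cf680ccc7b3fb729fc02f21e805633c06c07b3fdd74f0dff0b87b3fb6d1f6003ec1ed003eb1f83fbea9f5fff1a87a20013a6786ffc691f5fff1c8d674e26b40bc0d67f6de6a01551ad00da4d680ca0d67fdf19ad00744686ff8426b4037e5b3fdde2d9fdbc48706693835613c02ec9680c9259f5c12d02f159d30a8100c260831ef2,
    0xde785b8f008da7b3d5b0f204eb3c03e93c7fb341f002f39fbfd998f1ff6e53e003321ffe9c67804603c7feeb878ffb6c1e4003eb1e400dc8dae8c4d501779bfe9b8dafecb4d43fdf61b6007566a1f65468ff6526d806506c0036536c00e8cd7ff6c26c00bf963ff771287af495c4e13001964d8065135fd924b3d504a80bc5ae88500e0c2d2723248,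
    0x1bcf0ee3c013b4f43ab59e5e9d27a1fb741e400dce78ffb729f002f21e005633c01384fe5fbaf9e40075e3c8007d93c8007d13de6a07c0064f3d0f5ce3ec05cd3f97db2cf202a41e880d8e7d7fef8c7a203629e87fbe09f5ffbff34801bf1b0019d9bcbfbf736bff7ec6f300475350ff7e269045e6801569bcc03ec3797f7d66f2f6546a1fb6937981b41a3ff74a6f2fef90de5fdf19a3fed88d4401084d2006c069001dd2f97eed16882f25a1fb70590036e5d81562d101b52f980ea17cbed99687ed897602e05a2037894417a4b44613002ec9e606c9287541241187441747202a0e87ae14bd30de6061fd06f9f6,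
    0x1bcf0ee3ff3ed3de83361ecfaf59ff3693ebfdba0f5003b39f005663ebfeeca7bff6643c00ac67fe7c07d7fefba7d7fdd70faffbac1e3ffe158f2006d33ec004289ef3503dff5cf3ec0a9c7a200f9a7d80b98786fef9678ff6483ec01b18faffba29f5ffbe21e400d8678ffef8479003601f5ffbfe35ff5f26d7fefd4daffdf99b60011c8d674e26c046068ffdd79a0055c6d7f65a6a200fb0db003ab351032a36bfdb49a402e8360007ca6d801d19b0007426a801df2ebff7f8b1ffbb458f464b200cb96880db17600da96880750bb01732c803225a200f8175ff77923ffbf894417a4d227097fecb24805d135fd924bd06413011871e8a38ff641ec0ac5674c2fcd0de60618820e3bd,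
    0x1bcf0b71e009da7b415b0fdf4eb3c02349e3fedd079001d9cf7fd798f1ffbb29f001990f00178cf004e13ebfdb80f1ffdf74f67fdf70f1ffbac1efff7563f800ea6790008513e06a07c0064f3c7d338fe006cd3d9fb261ecfed967c00b9079003639efff7463d0ff7c53ebffc221f00190cf8006c23e003201e4003ff36001bf1b0019d9b5ff77269000fd8db0010d4dafff0ccd20010c8d084e26d7f6606c0065e6800bb8d1fd769a8803ec347feeacdafaaa347fdb49b005506bffdd29a3ff7486d7fdd19b000d88db001084d2003be58ffeff170019d2ebfdba2f7a325effb705c0036e5840658b2006d4b4403a85b3f64cbdff6c4be006c0b43fdfe4c00378943d7a49c4613001964c015448feb925a0a826bfb30fbd1478017071f4e28426140221c0c0c2f5b67e6e,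
    0x1bcf0ee3c013b4f3b06ec3fe05eb3c02349e3fedd07a800fce7cbfefcc78ffdd94f7fecc87a003719e009c27a1fefc078ffefba7d7fdd70f1ffbac1e3ffe158f1ffba99f5fff1a27bcd40f800c9e7a2064e3fe007cd3ebf5cc3de807cb3c7fdb20f440108e7b3ffe518faff6c53ebffc221f6003e19f5ffe108fb001f00fafff0fcd2001ff1b0019d9a87fe1c9b5ffe1b1a880096a6d7ff8666d800472350eac4d500cc0daffdf79a800db8d0dfdf69a37009586d800facde606d468ffb6936c01b41b00074a6d800f90d43ff08cddffdf11a88009426a800ff963ffbfc5d7fefe9687fbf45a1ebc975ff760b2001f72cc7eeb168802152c6e02342ebf5ccbaffba25fc00f8175fedf26bffc3894417a4e6d584bff6593600da2437f7c92760d82540330e87ae8e3fed83a20662a1d50a0110de60612dece95a,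
    0xde78771ffe9da783d5b0f1f4eb3ffa349effd9a0f7ff6e73e003331effedc878006633ffd384faff6e03dffeebe7c000fbc7c00085d3c801b70f7ff6d93e00042b1e4003e99e3fff1a27bcd40f7ff6cf3ebea9a7fbf64c3ebfb231f600d8879000f8479000f8278fffc601e40021f1affedecdaffbb934800437347ffe3b1b6002191a39f13600abcd000cb8d201769b600db0d1ffdf59a87d951affd949a400d94d1ffdf21b5ff7426bffb60360007fcb7ffbba5d7fb745fc1572ec05d4bb00ca17efd902ec01bc4a20bd27222c92006d12402e4907aa09802b0ff0541ebeac51cf0bfd10de6061a080c6a5,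
    0x6f3c2dc78015b4ff7ab61e409d67802749e4007673c800ecc79000fca7c006643c001b8cf002b09e87fbf01e4002174f43ff0b879000fb078fff8563c8007d13e06a07c003679f6054e3c7fee9a7a1fb661f601920fb001f1cf200108c7a200f8879000f8678ffef8479000ffcd2001ff1b000decd43ff0d8d43ffcb336c002391a41f13480330347feebcd0006dc6a1fdd69a8803eb351032a34800ea4d2006d0690008486a1ff84669000f88dafff0f9640021e2c7feee9687fbf45fbd592c7ff7e0b2001f72f501b62ec007d4be5fdf42d0fdb32c7ff7c4b1ffba05a200ff247ff7f1200f76921c5613001964900368943fba49f7aa09200cc3fbd507b02b1483c280261c0c0c2efe8b3b5,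
    0x1bcf0ee3ff3ed3de83361ecfaf59ff3693ebfdba0f5003b39f005663ebfeeca7bff6643c00ac67fe7c07d7fefba7d7fdd70faffbac1e3ffe158f2006d33ec004289f03503e005cf3ebea9c7a1fef9a7d7eb9878700f9679006483ebfdb18fb003a29f6003e21e3fed8679000f8478ffb601f6003fe36005f26d800fd4db001f99b5fff1c8d674e26c046068ffdd79a0055c6d7f65a6a200fb0db003ab351032a36bfdb49a402e8360007ca6d801d19b0007426a801df2ebff7f8b1ffbb4590464b1fecb9687edb175feda9687f750bafd732c7fb225a1fef81760077924003f894417a4d227097fecb24805d135fd924bd0641301187208a3900641ebeac5674c2fcd0e060617fd39898,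
    0x1bcf0ee3c013b4f43ab59e5e9d27a1fb741e400dce78ffb729f002f21e005633c01384fe5fbaf9e40075e3c8007d93c8007d13e06a07bff64f3d105ce3ebf5cd3f981b2cf1faa41e87ed8e7d800f8c7a1fb629e8803e09f6003ff347fdbf1affd9d9bcc03f736c007ec6f2ffc75351007e269045e6801569bcc03ec3797f7d66f2f6546a1fb6937981b41a3ff74a6f2fef90de5fdf19a3fed88d4401084d2006c069001dd2f97eed1687af25a2037058ffb6e5d7d562d0fdb52f97eea17cc0d996880d8975fae05a1fb7894417a4b44613002ec9e606c928754124118743d7471faa0e882e14bd30e06061de28123c,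
    0x1bcf0b71e009da7b415b0fdf4eb3c02349e3fedd079001d9cf7fd798f1ffbb29f001990f00178cf004e13ebfdb80f1ffdf74f67fdf70f1ffbac1efff7563f800ea6790008513de6a07bff64f3c81338fdff6cd3da03261ed00d967bfeb9078ffb639f0007463d1007c53ec004221effd90cf7ff6c23dffb201e3ffbff35ffdbf1affd9d9b60077268ffefd8dafff0d4db0010ccd1fff0c8d084e26d7f6606c0065e6800bb8d1fd769a8803ec347feeacdafaaa347fdb49b005506bffdd29a3ff7486d7fdd19b000d88db001084d2003be58ffeff170019d2ebfdba2f82325f003705bffb6e583f658b1ff6d4b43fba85b4064cbe006c4bdff6c0b4401fe4bffb78943d7a49c4613001964c015448feb925a0a826bfb30fc11477fd707204e28426140221bcc0c256a68b41,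
    0x1bcf0ee3c013b4f3b06ec3fe05eb3c02349e3fedd07a800fce7cbfefcc78ffdd94f7fecc87a003719e009c27a1fefc078ffefba7d7fdd70f1ffbac1e3ffe158f1ffba99f5fff1a27c0d40f7fec9e7a1f64e3fdff7cd3ec05cc3de7f7cb3c801b20f43ff08e7b4002518fb006c53ec004221f5ffbe19f6002108faffdf00fb0010fcd1ffdff1affd9d9a88021c9b60021b1a87ff96a6d8008666d7ffc72350eac4d500cc0daffdf79a800db8d0dfdf69a37009586d800facde606d468ffb6936c01b41b00074a6d800f90d43ff08cddffdf11a88009426a800ff963ffbfc5d7fefe9687fbf45a20bc97600760b1ffdf72cc80eb1687fe152c6dfe342ec05ccbb003a25fbfef817600df26c0043894417a4e6d584bff6593600da2437f7c92760d82540330e882e8e400d83a1f662a1d50a0110e060612e1c5d3a,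
    0xde78771ffe9da783d5b0f1f4eb3ffa349effd9a0f7ff6e73e003331effedc878006633ffd384faff6e03dffeebe7c000fbc7c00085d3c801b70f7ff6d93e00042b1e4003e99e3fff1a27c0d40f8006cf3ec0a9a7fc064c3ec03231f5fed8878ffef8478ffef82790004601e3ffe1f1b000decdb003b9347ffc373480023b1b5ffe191a39f13600abcd000cb8d201769b600db0d1ffdf59a87d951affd949a400d94d1ffdf21b5ff7426bffb60360007fcb7ffbba5d7fb745fbd572ebf5d4bafeca17f01902ebfdbc4a20bd27222c92006d12402e4907aa09802b0fef541ec0ac51cf0bfd10e0606116d1b5ac,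
    0x6f3c2dc78015b4ff7ab61e409d67802749e4007673c800ecc79000fca7c006643c001b8cf002b09e87fbf01e4002174f43ff0b879000fb078fff8563c8007d13de6a07bffb679f5f54e3c800e9a7a203661f5fd920faffdf1cf1fff08c7a1fef8878ffef8679000f8478ffeffcd1ffdff1affedecd44010d8d44004b336bffe391a41f13480330347feebcd0006dc6a1fdd69a8803eb351032a34800ea4d2006d0690008486a1ff84669000f88dafff0f9640021e2c7feee9687fbf45fc1592c8007e0b1ffdf72f4fdb62ebff7d4be601f42d101b32c8007c4b2003a05a1feff248007f1200f76921c5613001964900368943fba49f7aa09200cc3fc1507afab1483c280261bcc0c27deaab64,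
    0x379f89b8f1806ec3de81bacf340cd278dc04741ef40219cf7a010cc7bd002594f5001f90f8803b19f805613ea4ff2c078dbff3be7fbffe578ff7ffcac9ff0009583de8009d63de802344ff84d03cec0233cf1b83a71ef3fbe69e36fbe61f52811967bd00f9078dc04639ef4004e31e36ff9453c6e009c43de7fc211e37009403c6e009fc6fc01de1bcbffe9c9a37004f5346dff9e468dc37135e7db81af40095e6dfebb8d1b808d868dbfe551af403e9346e0425346e01290da9402709af402101bf00097cb7a008f4ba93fcb65f2fffa68ba943b25ec4046e5bd036c5b12ff3a9752811a1636fbe658dc04625ec4046058dc025e4bcfff3e26a507e92f456129fff1b25e80ea246dfe324bd01d04ec40fc3bd0ba3bcfef838dc1d8af3ae1702218e706145b61df2,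
    0x1bcf52ee3d3fb369e37076c3de81bacfbfecd07fc01d9cff7fbb31ef3ff9653c97fe390f33fdf8cfc02b01e37004ef9ff0004ec9fefffcec1ef4004eb9fcbffceb1ef4011a27c5d540f79ff09e78dbdd38f1b804a69e36fbe61f52811967bcff8483c6dff9c63ea50128a78dbffa443de7fc219ef3ff9423f61ff28078dc013f8df803bc3798009f66d4a013e4d1b8027c1bcbffcf23761db89a7603f035e7fe379a9fedb8d1b7fcab36a5042a35e8042935e7fc2837dffe329a36ffce337e002309bf0077cb79ff8f8b7a008ecbe60027a2ccc77e4b79ff8dcb1b81f62c6e012a97527f1a1636fbe65bcff840b1b7f8f92f4009713527bf49f88c27e007d92f3fbe4979ec827dfeec3ec3b60e36f762bceb854fd70eba01a383e2c328,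
    0xde7c3dc7dfd5b4f7a0cd87bcfb759ea02f49ef3fe1a0ff7fbb39ff007653fdff7e43d401b8cf500cc07bd0046f1ff0004ee1ef4009583de7ff9d73f97ff9d63de7fe344fb08a07fbfdd3cf1b83a69e3703e61f527f19078dbfe518f1b808c43f62012867bcffe508f7a0108078dbff3f8d7a010f0de60027d9b527fcf9346dff9f06f2fff3d4d1b8014c8d7a1789bf007606bcffc6f34d007d868dc013acda93f0a4d7a01f41bf00118cdf7ff8c26fbfdd01befffcfe58dbff3f16f4011d97cc004f45ec43725bd0085cb1b7df62c6e009d4ba9408d0b1b81f32de802312c6dff2817527f9792f40097135283f49f68c249802364bd0085123700949236f741275fbf0e6643e8ef4021071b83b17621b0b80190e30a06c5c832652e,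
    0x379f89b8f1806ec3de81bacf340cd278dc04741ef40219cf7a010cc7bd002594f5001f90f8803b19f805613ea4ff2c078dbff3be7fbffe578ff7ffcac9ff0009583de8009d63de802344ff74d03cebfe33cf1b7ba71ef403e69e3703e61f527f1967bcfef9078dbfc639ef3ffce31e37009453c6dff9c43de804211e36ff9403c6dff9fc6fbfdde1bcc0029c9a36ffcf5346e009e468dc37135e7db81af40095e6dfebb8d1b808d868dbfe551af403e9346e0425346e01290da9402709af402101bf00097cb7a008f4ba93fcb65f2fffa68ba93bb25ec3fc6e5bcfb6c5b13013a97527f1a163703e658dbfc625ec3fc6058dbfe5e4bd0013e26a507e92f456129fff1b25e80ea246dfe324bd01d04ec40fc3bceba3bd00f838dbdd8af3ae1702219070618c5050ea,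
    0x1bcf52ee3d3fb369e37076c3de81bacfbfecd07fc01d9cff7fbb31ef3ff9653c97fe390f33fdf8cfc02b01e37004ef9ff0004ec9fefffcec1ef4004eb9fcbffceb1ef4011a27c61540f7a0109e78dc1d38f1b7fca69e3703e61f527f1967bd008483c6e009c63ea4ff28a78dc00a443de804219ef4009423f620128078dbff3f8df7fbbc3797ff9f66d49ff3e4d1b7fe7c1bcc004f23761db89a7603f035e7fe379a9fedb8d1b7fcab36a5042a35e8042935e7fc2837dffe329a36ffce337e002309bf0077cb79ff8f8b7a008ecbe60027a2ccc87e4b7a008dcb1b7df62c6dff2a9752811a163703e65bd00840b1b808f92f3ff9713527bf49f88c27e007d92f3fbe4979ec827dfeec3ec4360e370762bceb854fd70ec201a3de0d0fc5,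
    0xde7c3dc7dfd5b4f7a0cd87bcfb759ea02f49ef3fe1a0ff7fbb39ff007653fdff7e43d401b8cf500cc07bd0046f1ff0004ee1ef4009583de7ff9d73f97ff9d63de7fe344fae8a07fc01d3cf1b7ba69e36fbe61f528119078dc02518f1b7f8c43f61ff2867bd002508f79ff08078dc013f8d79ff0f0de5ffe7d9b52804f9346e009f06f30013d4d1b7ff4c8d7a1789bf007606bcffc6f34d007d868dc013acda93f0a4d7a01f41bf00118cdf7ff8c26fbfdd01befffcfe58dbff3f16f4011d97cc004f45ec3b725bcff85cb1b81f62c6dff9d4ba93f8d0b1b7df32de7fe312c6e01281752809792f3ff97135283f49f68c249802364bd0085123700949236f741275fbf0e663be8ef3fe1071b7bb17621b0b80190e2ea06c580b91b2e,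
    0x379e1dc7a02769e1baf59e4f5693c37eed078701d98f0e01f94fdfd790f180cc679fa711e87f7603c3807df3da007de3d9ffc2e1e1bfbed9e8802164f68010a27a67a07d203679fcbd934f94f6cb3c7fdb28f44010927f2ff8443e53f7c23e5407c13c3802300f95010fcd6803be368fdbe9a87fbfa350ffc393653fc373437fe3a1bcc02191af3562686f66068700fbcd17ecb8d94fbac3653fc2a34380ea4d0df6ce6a1ff84c6f300f94d9501084d0dfba0359ff7fcb0dfdfe2c37f7f0be5fdfa2e535e0b67fba85ca83645a200fc27805d921c0da26540e924385c121c19c74403b0f2a2e8e400d83f30662bd150a5054350e0c25c7fe058,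
    0x379e1dc7a02769e1baf59e4f5693c37eed078701d98f0e01f94fdfd790f180cc679fa711e87f7603c3807df3da007de3d9ffc2e1e1bfbed9e8802164f68010a27a87a07d1fb679fcc1934f9506cb3c801b28f43ff0927f3008443e5407c23e53f7c13c37fe300f94ff0fcd67fbbe36901be9a8803fa35100439365404373438023a1bcbfe191af3562686f66068700fbcd17ecb8d94fbac3653fc2a34380ea4d0df6ce6a1ff84c6f300f94d9501084d0dfba0359ff7fcb0dfdfe2c37f7f0be5fdfa2e545e0b6803a85ca7b645a1fefc27805d921c0da26540e924385c121c19c74403b0f29ae8e3fed83f2f662bd150a505434ce0c21027e5d3,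
    0x1bcf0b69fe82f61fbe9d67a015a8f7ffbb49f1ff7623f000ec2795fefba7960085b3d00042d1efff7543f8002344f40f3cf2206ce3e400e9a795fb661e57f74b3d003251e7ffe124fdfff0907c7fdd18f9006c53e40043d34fff7f66960087469fff86c6960025a9b20021a1bbffe191a085626c8065c6c7f65a695fefb0d8ffdf59a57d951b1ff7526c7fb6735000426377ff7ca6c7fef90d2bff0e9657fbf85effefd171e9c971ff75cb8fd762e3feea9783fbe8595fb665c7fdd22cfff7c4b9003a05c803789c1ecd2633d931feda263fb249f41704c80671f000ec3c7a68e8019072206e282150a8054340e0c2c938c68d,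
    0x1bcf0b69fe82f61fbe9d67a015a8f7ffbb49f1ff7623f000ec2795fefba7960085b3d00042d1efff7543f8002344f3cf3cf21f6ce3e3fee9a79603661e58074b3cffb251e8002124fe0010907c801d18f8ff6c53e3ffc3d350007f6695ff8746a00086c695ffe5a9b1ffe1a1bc002191a085626c8065c6c7f65a695fefb0d8ffdf59a57d951b1ff7526c7fb6735000426377ff7ca6c7fef90d2bff0e9657fbf85effefd17209c9720075cb901762e400ea978403e859603665c801d22d0007c4b8ffba05c7fb789c1ecd2633d931feda263fb249f41704c80671f000ec3c8268e7fd90721f6e282150a805433ce0c2cb8f1137,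
    0x1bcf44dc7f015b0f67d7acf3e8d278700fd07efebce795fdd98f67fdf94fdfd790f900cc679fa701e1c02160f67fdf58f6803a89fc1e81ed00d9e786f64e3da01b34f0e06cc3c37ee947d7ff8493d1002320f0dfdf1cf67fdf10f0dfdf0cf6803a11ed00d807870087e6b401df1bbfaf9343804333437fe391ad09c4d2becc0dc201f79bbfaea35a01b49acfd941bbfed9cdb001098d43ff08cddfec88d0dff084ddfd7f2d9feef16d00dd16d09c16d0075cb67d762e54042a5ca7efa161c0d996d00748baffdf12da01be486ff87121c19a4f0d84b4036c9680c925a032098606f1ebfeec3ca8651c7fb20e882f1483c2be78639c1a3c65fb8a2,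
    0xde785b8fdfab69ed056c3da05eb3ff3e93d9feed07b403739ecfedca7f00bc87a0158cf404e23ebfdb80f67fbae1ecffbed9f6003ec1ed003eb1ecff7513e0b40f67f6cf3ebd338f6806cd3c37db30f0e03a59e3fae51f6003e49e87fe120f0e01f1cf67fdf10f0e01f0cf67fba11ecfed80786ff87e6b401df1bc02fd36bfeee8daffdfc9a1bfe1a1a8802199a1c011c8db08c4d680cc0d67f6de6b4036b3653eea0d6801f39b5ffbe6351007c66b401d11a1bfe109ad00df961c021e2c3807f0b43fdfa2f085e4b0e01f82da00eb96cfaec5ca7f854b94fdf42c37db32da01b22ec00e896d00df2438043890e0cd259a30967f6d92cfed92437b20967f6f1ec01b870dd747201707e5ecc5f84c2bf443b0806455b0f13b0,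
    0x1bcf0ee3d02369e1c56c3d9ead6782693c381ba0fdfd79cfdfab29fc05643cfeac67a04623ebf5db3ec01b60f67fbab1ed00da27b9681fc054f3ec1334f0e0c98786fb659e3e9947d7fb649e8807483c380e887b3f6433d9fdb08f67ec8078700ff8de02bd36bfb3a36bfdbc9a1c03f435100eccd0dff0c8d19b13690ac0d680cbcd3faab365432a34381b49ad05506effb6736c01b31a87ed8cddfec84ddfd7e2da03385a1fb745b42725b3ebb161c0750b0e0c996cfae45d7f6792cfedd2786c2780ab25a0a92438a82690ae3d7ebc3b4268e3e983d8271466850486e5061b1d117b7,
    0x1bcf47b8f3fd7b4f440cd87d815acfdf4e93d0feed079003739e3fedca78ff6643e005e33e00ac27f2fefbc7900046c1f5ffbeb1f5ffbe89e39e81fbfed9e7a1eb9c78700f9a7f2fb661e880d967d806483d0fee8e7d7fef8c7a1fef8a7a2008443ec00e867d7fdd08fb003a09f60011fcdaffbbe34801ba9a87fe199a87ff1c8d442b1374fb3036c01b79a7fd971a8807586a1fefacde603aa35100ea4d43f6d068ffdd29a8803e437980423347fdb11a87fe109a400d80d20010f1687fbfa5f2fefd16f42f258700fc17effbee5bd036c5ca80854be5fba85f2fb665d7f644bafec8168803fc9affbb8943d7a4cf1584cc01d6486fdd44a1fdd24a1f6412d02f0f95d94720170743d78b5d10b8110f83834496655f23,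
    0x379f89b8f004ed3d0f5ec3ec0ad67d015a4f4401fa0f1ff6e73c801b94f3803b21f7fd98cfbfd77cf2001f78f1fff0b2790008583ebff7d63ebff7d13d42281f002e79e882e71f5fed9a7f2fb661e880d9678ffb641e880211cfb001f18f4403a21f5ff7433ec00e847d7fdd04fafff0fcd2006fc6a7fddd9bcbfe1b9b60021a9a88011ccd43ff8e4686ebc4d201781b600dbcd002ae350ff7d66f2fb6936c032834800e94d43ff08cd2006c46a20084268ffb60347ff7f8b0e010d1600edc975fedc16d003ee587036c5a1fefa97cc0750be5f6ccbb003a25d801d02f97f7f936007712882f49d44e129fedb26c01b24f306413efd9870e17471fec83a20bc5ae88500886e5061a9fd1ce9,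
    0x6f3c3b8f004ed3d0ead6797a749e87edd079003739e3fedca7c00bc8780158cf004e13f97eebe79001d78f2001f64f2001f44f72d03e005cf3d0f5ce3ec05cb3da03241e880d8e7d7fef8c7a203629e87fbe21f6007433ebfee847d801d04fb001ff9a3ffbfe36005f66f300fdcdb001fa9a87fbf236c1389a41181b5ff75e6801571a880db0d4403ab35b20ea8d43f6d26bcfb68347fee94d4403a4379807c668ffb62350ffc2134801b01a400778baffbba5f2fdda2ec2325d80bc163ffbee5d81562d101b52f97ee997602e25d80b816880df26bfeee250f5e92d1184c00bb25e7db44a20364943aa09208c3d8451da0320e87af16c130a5e986e506108c9196d,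
    0x1bcf44dc7f015b0f67d7acf3e8d278700fd07efebce795fdd98f67fdf94fdfd790f900cc679fa701e1c02160f67fdf58f6803a89fb9e81ecfed9e787064e3d9fdb34f0df6cc3c380e947d8008493d0ffe320f0e01f1cf6801f10f0e01f0cf67fba11ecfed80786ff87e6b3fddf1bc02f93437fc33343802391ad09c4d2becc0dc201f79bbfaea35a01b49acfd941bbfed9cdb001098d43ff08cddfec88d0dff084ddfd7f2d9feef16d00dd16ce9c16cff75cb681762e53fc2a5ca80fa161bed996cff748bb001f12d9fdbe4870087121c19a4f0d84b4036c9680c925a032098606f1ebfeec3ca7651c80320e87af1483c2be78641c1a3c277af32,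
    0xde785b8fdfab69ed056c3da05eb3ff3e93d9feed07b403739ecfedca7f00bc87a0158cf404e23ebfdb80f67fbae1ecffbed9f6003ec1ed003eb1ecff7513dcb40f6806cf3ec1338f67f6cd3c381b30f0dfba59e402e51f5ffbe49e8802120f0dfdf1cf6801f10f0dfdf0cf6803a11ed00d807870087e6b3fddf1bbfafd36c00ee8db001fc9a1c021a1a87fe199a1bff1c8db08c4d680cc0d67f6de6b4036b3653eea0d6801f39b5ffbe6351007c66b401d11a1bfe109ad00df961c021e2c3807f0b43fdfa2f075e4b0dfdf82d9feeb96d02ec5ca80854b9501f42c381b32d9fdb22ebfee896cfedf2437fc3890e0cd259a30967f6d92cfed92437b20967f6f1ec01b870e17471fd707e60cc5f84c2bf443ae806454e424b92,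
    0x1bcf0ee3d02369e1c56c3d9ead6782693c381ba0fdfd79cfdfab29fc05643cfeac67a04623ebf5db3ec01b60f67fbab1ed00da27c1681fbf54f3ebd334f0dec9878703659e409947d803649e87f7483c37ee887b406433da01b08f680c80786feff8ddfabd36c033a36c01bc9a1bfbf4350feeccd0e010c8d19b13690ac0d680cbcd3faab365432a34381b49ad05506effb6736c01b31a87ed8cddfec84ddfd7e2da03385a1fb745b3a725b40bb161bf750b0dec996d02e45d806792d00dd2786c2780ab25a0a92438a82690ae3d7ebc3b3a68e40983d7a71466850487050615d09dd29,
    0x1bcf47b8f3fd7b4f440cd87d815acfdf4e93d0feed079003739e3fedca78ff6643e005e33e00ac27f2fefbc7900046c1f5ffbeb1f5ffbe89e41e81fc00d9e7a20b9c786fef9a7f303661e87ed967d7f6483d100e8e7d800f8c7a200f8a7a1ff8443ebfee867d801d08faffba09f5fff1fcdb003be347fdba9a8802199a88011c8d442b1374fb3036c01b79a7fd971a8807586a1fefacde603aa35100ea4d43f6d068ffdd29a8803e437980423347fdb11a87fe109a400d80d20010f1687fbfa5f2fefd16f3af2586fefc17f003ee5bcfb6c5ca7f854be603a85f303665d80644bb00c81687fbfc9b003b8943d7a4cf1584cc01d6486fdd44a1fdd24a1f6412d02f0f9619471fd70744178b5d10b8110f7383448f2f3949,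
    0x379f89b8f004ed3d0f5ec3ec0ad67d015a4f4401fa0f1ff6e73c801b94f3803b21f7fd98cfbfd77cf2001f78f1fff0b2790008583ebff7d63ebff7d13d3a281effae79e87ae71f600d9a7f303661e87ed9679003641e87fe11cfaffdf18f43fba21f6007433ebfee847d801d04fb0010fcd1ff6fc6a801dd9bcc021b9b5ffe1a9a87ff1ccd44008e4686ebc4d201781b600dbcd002ae350ff7d66f2fb6936c032834800e94d43ff08cd2006c46a20084268ffb60347ff7f8b0e010d16010dc97600dc16cffbee586fb6c5a200fa97cbf750be606ccbaffba25d7fdd02f9807f935ff7712882f49d44e129fedb26c01b24f306413efd9870dd747200c83a1ebc5ae8850088705061b4581e37,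
    0x6f3c3b8f004ed3d0ead6797a749e87edd079003739e3fedca7c00bc8780158cf004e13f97eebe79001d78f2001f64f2001f44f82d03dff5cf3d105ce3ebf5cb3d9fb241e87ed8e7d800f8c7a1fb629e8803e21f5ff7433ec00e847d7fdd04faffdff9a4003fe35ff5f66f2fefdcdaffdfa9a8803f236c1389a41181b5ff75e6801571a880db0d4403ab35b20ea8d43f6d26bcfb68347fee94d4403a4379807c668ffb62350ffc2134801b01a400778baffbba5f2fdda2eba325d7ebc164003ee5d7d562d0fdb52f980e9975fae25d7eb81687edf26c00ee250f5e92d1184c00bb25e7db44a20364943aa09208c3d7451d9fb20e882f16c130a5e98705061ab163406,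
    0x6f3c3b8f3e8da786d5acf04d2786fb741e1bedcc78701d94fdf4e43e40ac67a04623d103309e5f83f01e1c075f3d9feebc7b3fdd70f0dfbad9e87f7593da00ea278cd40f67d73cf442a71f29ed9a7ca864b3ebd328f4403a49fcbf7483e53db18f9506c53e5407c43c37db0cf0e03a11e1c0d807ca7eff8d6817e9a87ede8d43fbb9365407ea6ca7efd0de603b236ba3134385e0686fb6f363eaa8d0e06d2686f64e6a201d31bcbed84d0e06c06b401df2c37eef161c0de965f7bf85f30374586d592c37b2c5ca83685ca764cb0e0c916880d8972a0d81729edf2437eec278136487064921c54121baf8e87d9870e2a8f60983a1d58b6110b8e190c0c247e5eb8d,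
    0x379f25dc7f00bda7870bd67e82749e1c07683f07f7e73d9ff7e63c3804329e57fbf21f9807633d00ac47a200fc2797e04701e1c0217cf67ffcae1e1bfe16cf43ff8d93da0012a27e9a681e1c03e79ed9074e3d45fc269ff483e59ef3f74a3d0ffe324fe6008c83cbefe31cf0dffca31f2a03e29f2a01188786fef86787004611ea3011807ca7fc7e35a01be9a87fe1d1a87ff1e4d95008ea6ca7fc74379802391b44d989b5707606870085e6efebb8d9503ac3654042a3437eea4dd87df41acffe139a87ff198de601094d94ff08cd6801084d6806fcb0dff0f161c021d2cbefe3c2f9804345b99b725a8c085cb0e01f62e53f7d0bfa3df32c37ee91687fe112c380e81729fbfc90e008e92d02f096803ac90df6d1329f74921bae09eef6f1d1007e1d45b28e880d83a1ebc5acf0a9e98759c1a3d5d1cbd0,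
    0x1bcf87b8f3fab69e1c2f59ea09d278701da0f67f6e73da007e63c3804329ecff7643f805e33f7f5e23d0ff7e13cbf02380f0e010bc7b3ffe570f0dff0b67a2004689f61e81ecfed9e7a20b9c786fdd34ffa41f2cf43f6ca3d1002324fe5ff8c83e5407c73c380128c7ca80f8a7ca804621ea2ff186786ffc611e1c03e01f29ff1f8d0dfdfe9a88021d1a88011e4d95008ea6ca7fc743797fe391b61f137bc1b81a1bfe179b97f75c6ca81d61b2a02151a1bf752687036835a00427351002331bcbfe129b29fe119acffe109b8403e035a0012f961bfe1e2c37fc3a597dfc785f2ff868b518cc961c075cb0dfdf62cbf02342fe8f7ccb517f09168802112d4604205ca7eff2437fe3a4b3ebc24b007d93b103e8994fba490dd704d5bddc743fdf877346d1de80e83b63dd8b45190b9e987a8907457c55dde1,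
    0x6f3c3b8f3e8da786d5acf04d2786fb741e1bedcc78701d94fdf4e43e40ac67a04623d103309e5f83f01e1c075f3d9feebc7b3fdd70f0dfbad9e87f7593da00ea2790d40f68173cf43aa71f2a0d9a7ca764b3ec1328f43fba49fcc07483e541b18f94f6c53e53f7c43c381b0cf0dfba11e1bed807ca80ff8d67d7e9a880de8d4403b93653f7ea6ca80fd0de5fbb236ba3134385e0686fb6f363eaa8d0e06d2686f64e6a201d31bcbed84d0e06c06b401df2c37eef161c0de965f7bf85f303745871592c3832c5ca7b685ca864cb0dec91687ed89729ed8172a0df24380ec278136487064921c54121baf8e87d9870daa8f5e983a2158b6110b8e18cc0c243cdc356,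
    0x379f25dc7f00bda7870bd67e82749e1c07683f07f7e73d9ff7e63c3804329e57fbf21f9807633d00ac47a200fc2797e04701e1c0217cf67ffcae1e1bfe16cf43ff8d93da0012a27ea2681e1bfbe79ed8f74e3d4604269ff47be59ef4074a3d1002324fe5ff8c83cbf0231cf0e004a31f29fbe29f29ff18878700f86786ffc611ea2ff1807ca8047e359fdbe9a88021d1a88011e4d94ff8ea6ca804743797fe391b44d989b5707606870085e6efebb8d9503ac3654042a3437eea4dd87df41acffe139a87ff198de601094d94ff08cd6801084d6806fcb0dff0f161c021d2cbefe3c2f9804345b9a3725a8bf85cb0dfdf62e5407d0bfa41f32c380e9168802112c37ee8172a03fc90dff8e92d02f096803ac90df6d1329f74921bae09eef6f1d1007e1d46328e87ed83a20bc5acf0a9e98761c1a3c50e2b99,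
    0x1bcf87b8f3fab69e1c2f59ea09d278701da0f67f6e73da007e63c3804329ecff7643f805e33f7f5e23d0ff7e13cbf02380f0e010bc7b3ffe570f0dff0b67a2004689f59e81ed00d9e7a1eb9c78701d34ffa3df2cf4406ca3d0ffe324fe6008c83e53f7c73c37ff28c7ca7ef8a7ca7fc621ea301186787004611e1bfbe01f2a011f8d0e01fe9a87fe1d1a87ff1e4d94ff8ea6ca80474379802391b61f137bc1b81a1bfe179b97f75c6ca81d61b2a02151a1bf752687036835a00427351002331bcbfe129b29fe119acffe109b8403e035a0012f961bfe1e2c37fc3a597dfc785f2ff868b516cc961bf75cb0e01f62cbefe342fe907ccb5181091687fe112d45fc205ca80ff2438023a4b3ebc24b007d93b103e8994fba490dd704d5bddc743fdf877336d1de7ee83b641d8b45190b9e987a690745fb1ff91a,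
    0xde7e26d3d781bb0fa40cd678c0bd47fbff8693d77f7e23effdb84f06808db3c6002368f5001f50fa4004a89e3099e7af064e3d7807cd3c1a07cc3c1a04259e2fed9478bffc649f47ff9483d7807c63d77fc229ebc011f4d17ff8f86960013e8d18008ea6aeffc723461389abbedb8d5dfdf61abc02159a0d02151abc03e93577ee9cd17ff8ca6aeff8486833fe5d2c1a023c2e90023b2cafff9e8b5dd792d77f7dcb0681f62d77f7d4b06810a160d03e65af00f9162fff944b5dfdf02d78043890683b49068cb25780ea257807c92bbed825781bc7bffbb0e648751c601b0780f6e2af0b8517d70ce6061b0ddb48b,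
    0x6f3d4bb4f5decd87d2066b3c5fb351ea003f49ebc02188fc00cb678bffe568ff7ff0ae795ffe550fa4004a89f6e99e7e37b669e0d03e61e0d0212cf1803a49f48011907aeff8463d7807fa68c00878695ffe5d9a0cff97468bffe5c1a580096a6af0025a1b47ff1c8d184dc6af008566833efa4d5e01f31b47fe129abc011e1675ff96cb2c004b45dac36e5af036a5833f850b0681f32d77fc245d2004625af00840b067f8f120cf7692bc54920d07412bbf771d400ec3833b60f482f168ea87b9c1a3b74acffb,
    0xde7c3da7833ddb0fa3ecd47fc008623d3feeb47a7fefae795ffe550fa3ffca89fc1e79f47ae71ebbfe134f067df30f067f09478c002524fa4008c63c1a02314f5dffcbd368ffe3e1a57ff9766834025c1a58009686d1ffc723690ac4d5e03ac3577fe359a0d03ea3577fc27346001298d3b004b85d20086cb2c004b458343725af0085cb5df6d8b5e010a960d02142c19f7c8b17ff0816bbfbf890683b495daac95dfdf44aeff8492bc19c7bfecc3dabb68e2ff741f1c1b8a2e985180c8770906c54b39e336,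
    0xde7e26d3d781bb0fa40cd678c0bd47fbff8693d77f7e23effdb84f06808db3c6002368f5001f50fa4004a89e2e99e7aef64e3d77f7cd3c19f7cc3c19fc259e300d9478c004649f48009483d77f7c63d7804229ebbff1f4d18008f8695fff3e8d17ff8ea6af004723461389abbedb8d5dfdf61abc02159a0d02151abc03e93577ee9cd17ff8ca6aeff8486833fe5d2c1a023c2e90023b2cafff9e8b5e1792d7807dcb067df62d7807d4b067f0a160cfbe65aefef9163000944b5e01f02d77fc3890683b49068cb25780ea257807c92bbed825781bc7bffbb0e647751c5fdb078106e2af0b8517d70d06061f4f6717c,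
    0x6f3d4bb4f5decd87d2066b3c5fb351ea003f49ebc02188fc00cb678bffe568ff7ff0ae795ffe550fa4004a89f7099e7e383669e0cfbe61e0cfe12cf17fba49f47ff1907af008463d77f7fa68bff8786960025d9a0d0097468c0025c1a57ff96a6aeffe5a1b48011c8d184dc6af008566833efa4d5e01f31b47fe129abc011e1675ff96cb2c004b45dabb6e5aefb6a58340850b067df32d7804245d1ffc625aeff840b06808f120cf7692bc54920d07412bbf771d400ec3834360f47af168ea87c1c1a3f20f678d,
    0x1bcf0b69e2e9d67e07d278bf6623eff5e13e901b6cfc006d73f7feea279cd3cfbcf38f180c967e02651f7fed927a801d20f17ec8c78bf6453c600ef4d1801fe1bbff7766d1fddd1b7fede0ddffbb534600ed0d5003b23703e268c1571a2fd961a2fedacd3b06d468bf65268beb9cdc006cc6fc01d29a2fed90da3fbba5d203785fc01db2f7feed162e9c962fd972c5f5d8b17eca9747ed9962fd922c6007c4b180c8162fd9c4d20bd24622c917d7448bf64922e982460ae3dfebc38ba68f80983de7c5c0f0b81e19cc0c2570f0cbe,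
    0x379e8f71f7d1b4f7a17acf4f4e93de80ed07fbebce7fc03731ef407653fdfb321ea05633d3eac07bd01d78ff7ff0b87bcfdd5cfe6010a278cd40f4faa69e3707443de81b08f1b81f04f7a008c03c6e043f35e7f7fc6fbebf0de5ff0e4d1b7f0e0de5ff0c8d7a2b137deac0d79fbaf35781b51af3f7526bcfb6837dff7c66fbfdd09a7607406fbfeff96f3f778b7a03b65f300868b1b8cc96f3fbf05fc036858dbdde4bd008693f056129faec97a06c92f3ae093b06e1f62328fefedc579aa16f3c308806c5a6523995,
    0x1bcfa4dc78c0bda7bcebd67de7d27bcfdda0ff8179cff7f6e63de7eeca7a7ebc8799f6633efa301ef3f75f3fe00ebc7fc00fb87bd01d64ff801f44f4cf40fa40c9a78dbdd2cff80c887ec3ef867bcfef847bd03609ef3fe100f1b7f0fcdf7fbbe353eaf0de6008f268dc086e6bcff8646bd1589bf05606bcfdd79bb7d951af407526bcfb6837e007c66fc01d09a75f7406fc01df2de80ef16f4076cbe5ff8e8b79ab25bd01d82fe007d0b1b83a65bd01de4bcfefd27deac26901b64bd036497a17049d7b70e956da3fc0662bcd50a30543640612dbbf762,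
    0x6f3c2dc7e07da7bcd5acfb9b49ef3edd07bd06663de7db94f4fab21f105633ef3e03de7db7cff7ecbc7fc036e1ef40db27fbfb6b9fcc07513e1281ea099a78dbb659fef5443de7b219ef40d847bd06413de7ee8078dbeffcdf7d7f1a9e9f0de603b9346e07f06f2fddb9af407626bd0bbcd87aaa35e81b09af3d901bf019f2de81bb2f97eed16f4564b7a0cc17f02e858dc3665bcf6792f3edc2540a925e8a825e75e1de6aa3fc150b83436406194a6300c,
    0x6f3c3b8f008da78e7d67a07d278fd5a0f1fd798f1fecca7bfd590f3fab19ff9f09e880dc078ff65c3c803289ec940f804cf3ec1338fafd734fb04cb3c7ea907d7eb8c7d7eb8a7d7fb621e402e19e400d8478feb807d8037e35fd3c9b5fedd4db006e468cd89a3d181a401979a8055c6d7d561b5fd951a405526fc0b94db00c84d2017f2c8033c58ff674b43f6e8bd44e4b67ecb17602e85d7a665b40644bb01702ec05f923fedc2600ab27df5d1360549241e09208c3e9a68e40541ebd38a43429e787080c2da1101aa,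
    0x1bcfa4dc78c0bda7bcebd67de7d27bcfdda0ff8179cff7f6e63de7eeca7a7ebc8799f6633efa301ef3f75f3fe00ebc7fc00fb87bd01d64ff801f44f50f40fa3ec9a78dc1d2cff7ec887ec40f867bd00f847bcfb609ef402100f1b810fcdf803be3540af0de5ff8f268dbf86e6bd008646bd1589bf05606bcfdd79bb7d951af407526bcfb6837e007c66fc01d09a75f7406fc01df2de80ef16f4076cbe5ff8e8b7a2b25bcfdd82fdff7d0b1b7ba65bcfdde4bd00fd27deac26901b64bd036497a17049d7b70e958da3fbf662bcd50a305438406102f6f33d,
    0x379e8f71f7d1b4f7a17acf4f4e93de80ed07fbebce7fc03731ef407653fdfb321ea05633d3eac07bd01d78ff7ff0b87bcfdd5cfe6010a2790d40f502a69e36f7443de7db08f1b7df04f79ff8c03c6dfc3f35e807fc6fc0bf0de6010e4d1b810e0de6010c8d7a2b137deac0d79fbaf35781b51af3f7526bcfb6837dff7c66fbfdd09a7607406fbfeff96f3f778b7a03b65f300868b1b6cc96f403f05fbfb6858dc1de4bcff8693f056129faec97a06c92f3ae093b06e1f61b28ff00dc579aa16f3c306806c5796bfa00,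
    0x1bcf62ee3d3eada7bcebd67de7d27bcfdda0f3b03b39ff00dcc7bcfdd94f4fd790f5e06e33efa301ef3f75f3fdff7dc3de80eb27fbff8573f9804289e0d140ff81734f1b83a59ff00d8878dbef867bcff8423de7db00f1b810fcdf7f6fc6a815e1bcc021c9a36fe1c1bcc021b9af3ff1c8d79ab134ec1b81af4075e6a81551af407526bd036837dff7c66fbfdd09befafe5bd01de2de7eed97cc021a2f61b305bd00fa1636f74cb7a01fa4fc1584fbf6592f3ed925e85c13ef561c6db315e8a854f4c32181a38c07985b,
    0x6f3c3b8f008da78e7d67a07d278fd5a0f1fd798f1fecca7bfd590f3fab19ff9f09e880dc078ff65c3c803289f0940f7f4cf3ebd338fb01734faf4cb3c80a907d80b8c7d80b8a7d803621e3fae19e3fed847900b807d7fb7e36013c9b600dd4daff6e468cd89a3d181a401979a8055c6d7d561b5fd951a405526fc0b94db00c84d2017f2c8033c58ff674b43f6e8bd34e4b680cb175fae85d82665b3f644bafd702ebf5f92400dc2600ab27df5d1360549241e09208c3ea268e3f541ec138a43429e786c80c2c6125190,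
    0x1bcf0b69e81f61fbe9d67fe7d27a006623c003309fbfd974fe006db3fffdb44f02cf3cbea9c7a0064d3f7ea987efeb967801528ffff6c93e000e9079ff6463d005c53d000ef4dffececde006f46fffb76377ff7ea6a001da1b00076468846269fd571b1fd969bbfd961a800dacd681751a801949a802e737ffdb31b000d94d4006c86effb7a5eff670b8006e8b3cf92cffb2e59fa6c59ff654b2c03a85efd532cffb245fff644b400c816802f89e08d2633d92802e898fec92503c127f571c00330e79e8e00541cbeac510885fcf0c0a0c2402d5ebb,
    0x6f3c2da7de7d87df4613f005dd3f0032b9fffeda2781679f7d134f501730fbfaa31f802fc37ffdbd9b7fd9c1bffedd8dc003b236e6b8dc02ad35401b59b7d121b8019d2f005ecbfff6e8b4f4dcbc04d4bc02a85a80b817802f8987ab49c2d1380549379f0e9e983df462dcd0c0a0c2536e816b,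
    0x1bcf0b69e81f61fbe9d67fe7d27a006623c003309fbfd974fe006db3fffdb44fe49e7981538f3fec9a7f01530fe0172cfff4ca3c000e927bffdd20f400c8c79feb8a79ffdde9a000decddff6f468001db1bc003f534ffeed0d7ffbb234423134feab8d8fecb4ddfecb0d4006d66b40ba8d400ca4d401739bffed98d8006ca6a00364377fdbd2f7fb385c003745a07c96801972d01362d0032a595fdd42f80a996801922c001b12cffb2059febe27823498cf64a00ba263fb24940f049fd5c7000cc3a07a3ffa60e6056288442fe787c80c2abf0ca69,
    0x6f3c2da7de7d87df4613f005dd3f0032b9fffeda27f24f3f02269e9fae61f805463eff5f868001dd9b8019c1a00076c6dffdd91b735c6e01569aa00dacdbe890dc00ce97802f65fffb745a826e5dfa6a5dfd542d3f5c0bbfd7c4c3d5a4e1689c02a49bcf87504c1f02316e687c80c246103a2b,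
    0x379e1da78c2759f79f49e301988fc01784fa3f6db3effdb5cfe003a89eb34f3f03ce3c603269f47ae59f7e9947dffb649ea007483c603231e301914f1803bd370033c377feee8dc006f06f001da9a2ff7686a7fdd91b0d189a3055c68bebb0d17f6d468bf65268c0b9cdc006cc6a7fb6534601bd2e901bc2d401bb2f7feed162d192c5fb2c58bf650ba41732c603245dff644b17ec8162fd9648beba24605c922e98245eae3dfebc38c451f01307bcf8b1110b81e1b0c0c276832b62,
    0x379e1da78c2759f79f49e301988fc01784fa3f6db3effdb5cfe003a89ec34f3ef3ce3c5fb269f482e59f809947e003649e9ff7483c5fb231e2fd914f17fbbd36ffb3c37800ee8dbff6f06effdda9a3007686a801d91b0d189a3055c68bebb0d17f6d468bf65268c0b9cdc006cc6a7fb6534601bd2e901bc2d401bb2f7feed1631192c6032c58c0650ba3d732c5fb245e00644b180c8163019648beba24605c922e98245eae3dfebc38b451efd307c0f8b1110b81e1acc0c249f088d4,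
    0xdc78c46a3c6db2f1f138daa7b12dd40f069728f6256c13c9d2ef0d7bb3af3575339ac4ad80d89ccd96f76760b89ac916c4cdc24195f1c6d5d1ceaa8518f0f8a0c2d111eb37,
    0x6f3c3acf14f94f069790f5e4e33c5a311e372ef9f13596cf6266da3c6e32c9f136dae7bdd5d48f6263a89fa59679d95f9b1399f1a0cafd35895bd1ac4cde0d7babb7349d4e8016e14d,
    0xdc78c46a3c6db2f1f138daa7b12dd40f065728f6266c13c9d4ef0d7babaf3575339ac4ad80d89ccd96f76760b89cc916c4adc24195f1c6d5d1ceca8518f0f4a0c2a5be6d6b,
    0xde785acf18f94f065790f5d4e33c62311e36aef9f13996cf6256da3c6db2c9f138dae7bdd9d48f625ba89fa59679d95f9b1399f1a0cafd35895bd1ac4cde0d7babb7349d4eac738c8c,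
    0x6f3c3b4f8e8d67a07d47c006693e3f5e23c005e13cafdb6cf4006da3dffb289e659e7c82671f1fae69e57ae59e809947a003641f1fae31f1fae29f1fedf4d4006f469ffb7536401b91b19f1363d371b205586c806546c80ba4d8faa734ffdb29b1fd9d2cb01ba2fcd392e405d8b901742cb05ccb8fd722cffdb12e405c0b901764c81544c7d524c84413209e3ffd587f44d1cfd3078f4e2c87853cf0d0a0c2cc3136d8,
    0x6f3c3b4f8e8d67a07d47c006693e3f5e23c005e13cafdb6cf4006da3dffb289e859e7c7a671f202e69e582e59e7e99479ffb641f202e31f202e29f200df4d3ff6f46a00375363fdb91b19f1363d371b205586c806546c80ba4d8faa734ffdb29b1fd9d2cb01ba2fd1392e3f5d8b8fd742caf5ccb901722d001b12e3f5c0b8fd764c81544c7d524c84413209e3ffd587f34d1d01307904e2c87853cf0cca0c25b48368e])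
    (unz 5
    0x960013960013a61d254c3a4a98749530e92d20013d20013e00025e00027c0004bc0004e88004f528015d4a0057528015a20013d4a013d4a0057528015d200138340017834001783400178340017834001797e001797e001797e00a4bf000bcbf000bcbf0053cc0029e6000af98002b95002795000ae54002be60014f300057cc0015ca8013ca800572a0015960002d2c0005a5f800b4bf0016d4a000c6a5000635280031a940018d4a000c6a50006288000b6c0005288000b6c00053cc002944000ad100016d8000a5100016d8000a510002be60014a2000a6540052f760006e5f800b54600062f760006ef760006ff4804e5f8001997e00067f4800b5eec0062f7600317bb0018bdd813ca800572a0015e100056a30015fd20017fd2001797e002dfa4014a8c0056f760019fd2001797e002dfa401484e4000e427200621390003909c8001c84e400c4272000725f8000d4bf0001abdd800357bb0006af76000d5eec001abdd800357bb0006a987400394c3a001ca61d0001fa61d0001f))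

theorem Q5.dot_pk {K : ℕ} {XC : List (List ℤ)} (hK : XC.length = K) (hX : ∀ c ∈ XC, c.length ≤ K) (B : ℤ)
    {ps : List (ℤ × ℕ)} (h : ∀ p ∈ ps, p.2 < K) :
    dotP ps (nth 0 (XC.map (pkz B))) = ∑ φ ∈ Finset.range K, (ps.map fun p => p.1 * ga XC p.2 φ).sum * B ^ φ := by
  induction ps with
  | nil => exact (Finset.sum_eq_zero fun _ _ => zero_mul _).symm
  | cons p ps ih =>
    have h1 : p.2 < XC.length := hK ▸ h p List.mem_cons_self
    have h2 : nth 0 (XC.map (pkz B)) p.2 = pkz B (nth [] XC p.2) := by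
      rw [nth_eq, nth_eq, List.getD_eq_getElem _ _ ((List.length_map _).symm ▸ h1), List.getD_eq_getElem _ _ h1,
        List.getElem_map]
    have h3 : (nth [] XC p.2).length ≤ K := hX _ (by rw [nth_eq, List.getD_eq_getElem _ _ h1]; exact List.getElem_mem _)
    show p.1 * _ + dotP ps _ = _
    rw [ih fun q hq => h q (List.mem_cons_of_mem _ hq), h2, pkz_eq B h3, Finset.mul_sum, ← Finset.sum_add_distrib]
    exact Finset.sum_congr rfl fun φ _ => by rw [List.map_cons, List.sum_cons, add_mul, mul_assoc]; rfl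

/-- `cx` with a smaller base -/
def Q5.cxB (nd : Nd) (B : ℤ) (XP : List ℤ) (p : List (ℤ × ℕ) × ℤ) (q : List ℤ × ℤ) : Bool :=
  (fun m => decide (m ≠ 0) && decide (p.2 = m * q.2) && linP nd.K nd.b B XP p.1 (q.1.map fun x => m * x)) (p.2 / q.2)

theorem Q5.ofC {nd : Nd} (G : nd.Good) (B : ℤ) {L : List (List (ℤ × ℕ) × ℤ)} (hL : FC nd L) (L' : List (List ℤ × ℤ))
    (hc : (decide (B ≤ nd.B) && all2 (Q5.cxB nd B (nd.XC.map (pkz B))) L L') = true) : FX nd L' := by
  obtain ⟨hB, hc⟩ := Bool.and_eq_true_iff.1 hc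
  refine FX.ofC G hL L' (all2_iff.2 ((all2_iff.1 hc).imp fun p q h => ?_))
  obtain ⟨h1, h2⟩ := Bool.and_eq_true_iff.1 h
  obtain ⟨h3, h4⟩ := linP_spec G.spec.2.2.2.2.1 G.spec.2.2.2.2.2.1 h2
  obtain ⟨h5, -⟩ := Bool.and_eq_true_iff.1 h2
  obtain ⟨h5, h6⟩ := Bool.and_eq_true_iff.1 h5
  refine Bool.and_eq_true_iff.2 ⟨h1, Bool.and_eq_true_iff.2 ⟨Bool.and_eq_true_iff.2 ⟨h5,
    decide_eq_true ((of_decide_eq_true h6).trans_le (of_decide_eq_true hB))⟩, decide_eq_true ?_⟩⟩
  refine (Q5.dot_pk G.spec.2.2.2.2.1 (fun c hc => (G.spec.2.2.2.2.2.1 c hc).1) nd.B h3).trans ?_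
  rw [pkz_eq nd.B (Nat.le_of_ble_eq_true (Bool.and_eq_true_iff.1 h5).2)]
  exact Finset.sum_congr rfl fun φ hφ => by rw [h4 φ (Finset.mem_range.1 hφ)]

private noncomputable def _root_.Cfsg.Agent.LsF.f28001f_0 : {f // @Cfsg.Agent.LV.W.dz = f} := ⟨_, by first | (delta Cfsg.Agent.LV.W.dz; rewrite [Cfsg.Agent.LsF.cond_eq]; exact rfl) | exact rfl⟩
private noncomputable def _root_.Cfsg.Agent.LsF.f28001f_2 : {f // @Cfsg.Agent.LV.W.unz = f} := ⟨_, by first | (delta Cfsg.Agent.LV.W.unz; rewrite [Cfsg.Agent.LsF.f28001f_0.2, Cfsg.Agent.LsF.map_eq]; exact rfl) | exact rfl⟩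
private noncomputable def _root_.Cfsg.Agent.LsF.f28001f_3 : {f // @Cfsg.Agent.LV.W.E8 = f} := ⟨_, by first | (delta Cfsg.Agent.LV.W.E8; rewrite [Cfsg.Agent.LsF.f28001f_2.2, Cfsg.Agent.LsF.ineg_pat, Cfsg.Agent.LsF.map_eq]; exact rfl) | exact rfl⟩
private noncomputable def _root_.Cfsg.Agent.LsF.f28001f_4 : {f // @Cfsg.Agent.LV.W.all2 = f} := ⟨_, by first | (delta Cfsg.Agent.LV.W.all2; rewrite [Cfsg.Agent.LsF.and_eq, Cfsg.Agent.LsF.isEmpty_eq]; (try delta List.casesOn); exact rfl) | exact rfl⟩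
private noncomputable def _root_.Cfsg.Agent.LsF.f28001f_5 : {f // @Cfsg.Agent.LV.W.sumAbs = f} := ⟨_, by first | (delta Cfsg.Agent.LV.W.sumAbs; rewrite [Cfsg.Agent.LsF.natAbs_eq]; exact rfl) | exact rfl⟩
private noncomputable def _root_.Cfsg.Agent.LsF.f28001f_6 : {f // @Cfsg.Agent.LV.W.dotP = f} := ⟨_, by first | (delta Cfsg.Agent.LV.W.dotP; rewrite [Cfsg.Agent.LsF.iadd_pat, Cfsg.Agent.LsF.imul_pat]; exact rfl) | exact rfl⟩
private noncomputable def _root_.Cfsg.Agent.LsF.f28001f_7 : {f // @Cfsg.Agent.LV.W.pkz = f} := ⟨_, by first | (delta Cfsg.Agent.LV.W.pkz; rewrite [Cfsg.Agent.LsF.iadd_pat, Cfsg.Agent.LsF.imul_pat]; exact rfl) | exact rfl⟩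
private noncomputable def _root_.Cfsg.Agent.LsF.f28001f_8 : {f // @Cfsg.Agent.LV.W.linP = f} := ⟨_, by first | (delta Cfsg.Agent.LV.W.linP; rewrite [Cfsg.Agent.LsF.f28001f_5.2, Cfsg.Agent.LsF.f28001f_6.2, Cfsg.Agent.LsF.f28001f_7.2, Cfsg.Agent.LsF.nadd_pat, Cfsg.Agent.LsF.nmul_pat, Cfsg.Agent.LsF.icast_pat, Cfsg.Agent.LsF.and_eq, Cfsg.Agent.LsF.all_eq, Cfsg.Agent.LsF.map_eq, Cfsg.Agent.LsF.instIDecEq_eq, Cfsg.Agent.LsF.idecLt_eq, Cfsg.Agent.LsF.length_eq, Cfsg.Agent.LsF.decide_eq]; exact rfl) | exact rfl⟩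
private noncomputable def _root_.Cfsg.Agent.LsF.f28001f_9 : {f // @Cfsg.Agent.LV.W.Q5.cxB = f} := ⟨_, by first | (delta Cfsg.Agent.LV.W.Q5.cxB; rewrite [Cfsg.Agent.LsF.f28001f_8.2, Cfsg.Agent.LsF.imul_pat, Cfsg.Agent.LsF.and_eq, Cfsg.Agent.LsF.map_eq, Cfsg.Agent.LsF.instIDecEq_eq, Cfsg.Agent.LsF.dNot_eq, Cfsg.Agent.LsF.decide_eq]; exact rfl) | exact rfl⟩
private noncomputable def _root_.Cfsg.Agent.LsF.f28001f_10 : {f // @Cfsg.Agent.LV.W.push = f} := ⟨_, by first | (delta Cfsg.Agent.LV.W.push; rewrite [Cfsg.Agent.LsF.map_eq]; exact rfl) | exact rfl⟩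
private noncomputable def _root_.Cfsg.Agent.LsF.f28001f_11 : {f // @Cfsg.Agent.LV.W.unv = f} := ⟨_, by first | (delta Cfsg.Agent.LV.W.unv; rewrite [Cfsg.Agent.LsF.f28001f_0.2]; exact rfl) | exact rfl⟩
private noncomputable def _root_.Cfsg.Agent.LsF.f28001f_12 : {f // @Cfsg.Agent.LV.W.A1_cf = f} := ⟨_, by first | (delta Cfsg.Agent.LV.W.A1_cf; rewrite [Cfsg.Agent.LsF.f28001f_11.2, Cfsg.Agent.LsF.f28001f_2.2, Cfsg.Agent.LsF.map_eq, Cfsg.Agent.LsF.zip_eq]; exact rfl) | exact rfl⟩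
private noncomputable def _root_.Cfsg.Agent.LsF.f28001f_13 : {f // @Cfsg.Agent.LV.W.A1A1_10_cf = f} := ⟨_, by first | (delta Cfsg.Agent.LV.W.A1A1_10_cf; rewrite [Cfsg.Agent.LsF.f28001f_11.2, Cfsg.Agent.LsF.f28001f_2.2, Cfsg.Agent.LsF.map_eq, Cfsg.Agent.LsF.zip_eq]; exact rfl) | exact rfl⟩
private noncomputable def _root_.Cfsg.Agent.LsF.f28001f_14 : {f // @Cfsg.Agent.LV.W.A4_3210_cf = f} := ⟨_, by first | (delta Cfsg.Agent.LV.W.A4_3210_cf; rewrite [Cfsg.Agent.LsF.f28001f_11.2, Cfsg.Agent.LsF.f28001f_2.2, Cfsg.Agent.LsF.map_eq, Cfsg.Agent.LsF.zip_eq]; exact rfl) | exact rfl⟩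
private noncomputable def _root_.Cfsg.Agent.LsF.f28001f_15 : {f // @Cfsg.Agent.LV.W.A3_210_cf = f} := ⟨_, by first | (delta Cfsg.Agent.LV.W.A3_210_cf; rewrite [Cfsg.Agent.LsF.f28001f_11.2, Cfsg.Agent.LsF.f28001f_2.2, Cfsg.Agent.LsF.map_eq, Cfsg.Agent.LsF.zip_eq]; exact rfl) | exact rfl⟩
private noncomputable def _root_.Cfsg.Agent.LsF.f28001f_16 : {f // @Cfsg.Agent.LV.W.D5_cf = f} := ⟨_, by first | (delta Cfsg.Agent.LV.W.D5_cf; rewrite [Cfsg.Agent.LsF.f28001f_11.2, Cfsg.Agent.LsF.f28001f_2.2, Cfsg.Agent.LsF.map_eq, Cfsg.Agent.LsF.zip_eq]; exact rfl) | exact rfl⟩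
private noncomputable def _root_.Cfsg.Agent.LsF.f28001f_17 : {f // @Cfsg.Agent.LV.W.D5_01243_cf = f} := ⟨_, by first | (delta Cfsg.Agent.LV.W.D5_01243_cf; rewrite [Cfsg.Agent.LsF.f28001f_11.2, Cfsg.Agent.LsF.f28001f_2.2, Cfsg.Agent.LsF.map_eq, Cfsg.Agent.LsF.zip_eq]; exact rfl) | exact rfl⟩
private noncomputable def _root_.Cfsg.Agent.LsF.f28001f_18 : {f // @Cfsg.Agent.LV.W.A3A1A1_01243_cf = f} := ⟨_, by first | (delta Cfsg.Agent.LV.W.A3A1A1_01243_cf; rewrite [Cfsg.Agent.LsF.f28001f_11.2, Cfsg.Agent.LsF.f28001f_2.2, Cfsg.Agent.LsF.map_eq, Cfsg.Agent.LsF.zip_eq]; exact rfl) | exact rfl⟩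
private noncomputable def _root_.Cfsg.Agent.LsF.f28001f_19 : {f // @Cfsg.Agent.LV.W.A3A1A1_21043_cf = f} := ⟨_, by first | (delta Cfsg.Agent.LV.W.A3A1A1_21043_cf; rewrite [Cfsg.Agent.LsF.f28001f_11.2, Cfsg.Agent.LsF.f28001f_2.2, Cfsg.Agent.LsF.map_eq, Cfsg.Agent.LsF.zip_eq]; exact rfl) | exact rfl⟩
private noncomputable def _root_.Cfsg.Agent.LsF.f28001f_20 : {f // @Cfsg.Agent.LV.W.D6_012354_cf = f} := ⟨_, by first | (delta Cfsg.Agent.LV.W.D6_012354_cf; rewrite [Cfsg.Agent.LsF.f28001f_11.2, Cfsg.Agent.LsF.f28001f_2.2, Cfsg.Agent.LsF.map_eq, Cfsg.Agent.LsF.zip_eq]; exact rfl) | exact rfl⟩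
theorem E8_gen : FX E8
    (List.map (fun l => (l, 1)) (List.map (fun n => unz 3 (Nat.shiftRight n 32))
    [0x199111111111111194a5211999484444466444444444444444444444652111119911111111111111111194846644444664444444652111194a52590ef594,
    0x111111191908c8c84444446522233294888ca44646422232321919088cc86522223211991194c84444444665291194ca44465329194cc844466532461cb6e0,
    0x11190888c8888c888888888888c8444444444444444664446422222223329088888888888888888888888ca423294cc84444464466664444652a4e15158,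
    0x446422232191111111111111111111191199111111911111111111111111119484444444652111111190888888888c8888ccc844444664465258780d0a,
    0x4888ca52111908888cca5222233222332222233222222232994ca642222222222222223294a4232908ccc8cccc8888ca43333223294a66665294a52bce240c6,
    0x9088ccc888c8444465294844466444652111119911111119999999111111111111111194a5211991194a43294c8888ca43294a423299999994a6652f000feb0,
    0x11119190888cca52222233211990888888888ca446432232111194c8644466422232199119111111990cccca43299194a4233219088c8cca466432d4042c36,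
    0x111191908888ca66422233211990888888888ca64446423291111990c888cc84446521919088888c864332990cca465332233291111194c865329168916d08,
    0x888888ca644444466652190c888c84444463191111911111111119908ca4232d47323222222323211198c4444446422332191990c844464332232599c8f1c,
    0x9088888c8888888888ccc8c844446446422321908888888888888c888c844444446432111190c888ca4444444446446464652119088c8cca5232ec1e07d7,
    0xcc72223232119190888888ca446523a8c4466423219118e646432321118f531e846664233294a644475211118f51ea52990c888ea3994a532998e666432d7c6f4e2,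
    0x8888888c88888888888c8c844446422223290c888c844444444466446642232908c8c844446644466522222222321191990888c888c864464322c273105,
    0x2223a18c4444464222222322329911908cc8444447521948465291119111191991191994cc72118c65329484664323321911911111119191111111deb280e6,
    0x24444444464222223291111111111111908c844444444444444446444644466529111111119088888ca44444444444644464643222222222232ddf1d79f,
    0x11cc447311cc44447311858518c7146311118823219518832882232a22232c9ea23ca3904731c51cc4659888d28fa8fa8c411882310731c832a22230a34a3d0464321c8398e632b036d9dd,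
    0x85c92695892b461c926c8393264f511c361865470c3cb98e79eac71320c987165d314731c5111ce24ac9873930cae6390714654472428c72a51951a596419641188398e41882321cc731cc444643211111173250c60,
    0x85936495a34ac493641c9eb932641c3618465470c3ca39e63ab9c7922498714717a4873c51934ac4cc4464d98ca8e790714654617208d2ca31951a51c92c921188398e41882232cc731cc44464321111111f9e324de,
    0x444646444643294a66446422232111194c8446444446446652908c88c8888888888ca42232911111111911948888c844464644464222223211115d411b0d,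
    0x911190cc8cc8ccc8ca5290ca521999911190ca4232119194a432223294ca5219194846432232329486521111911908c8643223211111111111111111f4de438f,
    0x1211190cc865232990cca5323332333222233290888ca43294888c8665294c88ccc888c8cc8646529119088c888ca43219119111111111111111111559741e7,
    0x31888ca311d0c622222223298c4467532223ad4623a11911d4ca46532111911196865a99991918e642322223219488c888c84446423332223219111184a4c93f,
    0xc86464643231c86444446521111d08c7211191948ca53a91994a3994a752d4cc866532329111d4b4332908e86643a9990c8475a1919111119911111112450d1c3,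
    0x631119d08c63188888888ccb42233a99088c7a8c47423211d4a5219991119088ca3196a53321918e642322223219911911190888c88cca422321911118782d4d5,
    0x1190888888c88c86444444444444642322232111191908888c8e84444444642232232111990c844644444446432323222222222223232111111faeeb40c])) :=
  Q5.ofC E8_good 1234567891234567891
    (FC.append (FC.delta E8 [27, 53, 83, 84, 89, 94])
    (FC.append (FC.ind E8_good A1_good (FC.pick A1_fc [0, 1] (by decide +kernel)) ⟨[0], 0xfffe00, 0x165437, (unp 6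
    0x2262862ace456dc3cd)⟩ (by decide +kernel))
    (FC.append (FC.ind E8_good A1_good (FC.pick A1_fc [0] (by decide +kernel)) ⟨[0], 0xfffe00, 0x114657, (unp 8
    0x26286a8ca8ec4c6b312343123543123654312032765431203243154657612b5)⟩ (by decide +kernel))
    (FC.append (FC.ind E8_good A1_good (FC.pick A1_fc [0] (by decide +kernel)) ⟨[1], 0xfffe0008, 0x1205467, (unp 8
    0x2941303204325431265432076543120345672785)⟩ (by decide +kernel))
    (FC.append (FC.ind E8_good A1_good (FC.pick A1_fc [0] (by decide +kernel)) ⟨[1], 0xfffe0008, 0x10312343123654,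
    (unp 7 0x98a1aa32a3b2a189019218aa19012759902192a18b2a1890084d)⟩ (by decide +kernel))
    (FC.append (FC.ind E8_good A1A1_10_good (FC.pick A1A1_10_fc [0] (by decide +kernel)) ⟨[0, 1],
    0xfffe00080000000000000000000000000000fffe00, 0x1205431203276, (unp 6 0x2240ce68ec80d1595d872d)⟩
    (by decide +kernel))
    (FC.append (FC.ind E8_good A4_3210_good (FC.pick A4_3210_fc [1] (by decide +kernel)) ⟨[0, 2, 3, 1],
    0xfffe0008000000000000000000000000fe0101001800000000000000000000000000fe0001100000000000000000000000000000fffe00,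
    0x1431203243154312032431543206543120324315432065431234, (unp 8
    0x50c480c90c550c480c9192d66468624064862a8624064ca87ecb0343120543120326543123453a69a18901a2a18901a32a19014aec90c480d150c480c90d950c48079b628624064a862406486ca8624068aeca8624064862a86404b83431203543120326543120345761371)⟩
    (by decide +kernel))
    (FC.append (FC.ind E8_good A3_210_good (FC.pick A3_210_fc [0] (by decide +kernel)) ⟨[1, 3, 4],
    0xfe0100000020000000000000000000000000fe0101001800000000000000000000000000fffe0008,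
    0x102314325431234576543123456, (unp 8
    0x12346543162298901892a32a1891a3ada6c80c950c5950c480d1d950c48d159cf5f62408a862468aca8624068aceca8624064862a8640ce696b02031245431234565431203456765431203243154320671cc1)⟩
    (by decide +kernel))
    (FC.append (FC.ind E8_good D5_good (FC.pick D5_fc [0, 2, 3] (by decide +kernel)) ⟨[0, 2, 3, 1, 4],
    0xfe010000002000000000000000000000000000fffe0008000000000000000000000000fe0101001800000000000000000000000000fe0001100000000000000000000000000000fffe00,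
    0x1, (unp 7
    0x8a0b918901aa189019218aa19008d980902a189019218aa19008598689aa32bb05a18098a189019218aa19032a193b2a183fd8a051189884958a0411aa32bb0321918901921890192182c98118a1902a1932a1bb2a02598a2a18b2a1bb2a0241aa189019218aa19001c98118a19001a98a18aa1b2a3b2813d98a1aa32bb00b18009)⟩
    (by decide +kernel))
    (FC.append (FC.ind E8_good D5_good (FC.pick D5_fc [7, 16] (by decide +kernel)) ⟨[0, 2, 3, 1, 4],
    0xfe010000002000000000000000000000000000fffe0008000000000000000000000000fe0101001800000000000000000000000000fe0001100000000000000000000000000000fffe00,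
    0x176, (unp 8
    0x2289c23120347198090228cd8c436c601b020565727258a1608c4c4a8562850236190d91890192189019218c24c0480c550c81950c9d950c5976a862ca8640eca8624068ace2ccb543120326543120324376543120324315430b95812a18b2a1903b2a1890185aec80c48d5195d830e6624064a862ca8640eca8624060adb0209)⟩
    (by decide +kernel))
    (FC.append (FC.ind E8_good D5_01243_good (FC.pick D5_01243_fc [13] (by decide +kernel)) ⟨[0, 2, 3, 1, 4],
    0xfe010000002000000000000000000000000000fffe0008000000000000000000000000fe0101001800000000000000000000000000fe0001100000000000000000000000000000fffe00,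
    0x154312032431543206543120324315432065431234567, (unp 8
    0x2ca8624064862a8d683312354312076543120345669618aa18b2a18bb29ac08150c480c91950c480c915d950c480c90d596e7606a86240ca8624064862a8eca8624064862a864091535431654312032431547654312345674b81902a18901932a18901921aa32bb2a189019218aa1b2a3b2a3e2c5150c48d15950c480c90c551d950c480c90c550c8122c66a862406ca8624064862eca862468ace7f13125431234565431203243547654312032431543206543765435cdaa189032a189019218aa3b2a189019218aa1903394d4cd50c480d1950c480c90c551d950c480c90c550c81951d94a316a862468aca8624064862a8eca8624064862a8640ce5363543123456543120324576543120324315432065476525b59aa1891a2b2a189019218aa193b2a189019218aa190338f5ec8d50c480d1950c480c90c551d950c480c90c550c81951d944f26a862468aca8624064862a86eca8624064862a8640caec237b543120326543120324315476543120324315432065476508c1)⟩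
    (by decide +kernel))
    (FC.append (FC.ind E8_good A3A1A1_01243_good (FC.pick A3A1A1_01243_fc [1, 5] (by decide +kernel)) ⟨[1, 3, 4, 0,
    6],
    0xfe010000000000300000000000000000000000000000fffe000000000000000000000000fe0100000020000000000000000000000000fe0101001800000000000000000000000000fffe0008,
    0x1543165432076543120324315432065431237654312032, (unp 8
    0x246286eca8624064862a8640ca86298f3203243765431203243154320672b718901891bb2a189019218aa19032a18bb29546c8c50c950c5d950c480c90c550c81950c48d0b66640624064eca8624064862a8640ca862eca29232031435431203276543120324315432065432765415ad8918a192a1903b2a189019218aa19032a1891bb0b52c80c48dd950c480c90c550c81950c5d942626406286a86246eca8624064862a8640ca864eca8154b231432765431203243154320654312345048d)⟩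
    (by decide +kernel))
    (FC.append (FC.ind E8_good A3A1A1_21043_good (FC.pick A3A1A1_21043_fc [1] (by decide +kernel)) ⟨[4, 5, 6, 0,
    1],
    0xfffe00080000000000000000000000000000fffe00000000000000000000fe0100000000003000000000000000000000fe0100000000280000000000000000000000fe0100000020,
    0x12031234312354312365431237654312032431543206543123457654312032431543, (unp 8
    0x24624086a8caeca8640daa323120324354312032436543120345676543123456769b1818901921891aa18901b2a1bb2a1891a2b3a6cac8c90c550c81950c48d15d950c480c90c550c81950c53ed64624064862406486a8624ca86eca8624064862a8640ca8629993231204312054312065431203456765431203243154320654317648d9989019218901921aa19032a1bb2a189019218aa1903395dcc8c4810c4950c481950c48d15d950c480c90c550c81950c5d8bb3646240686240648a86246ca8624eca8624064862a8640ca8624685bb32312034312034543120326543276543120324315432065432765415dd)⟩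
    (by decide +kernel))
    (FC.ind E8_good D6_012354_good (FC.pick D6_012354_fc [7] (by decide +kernel)) ⟨[6, 5, 4, 3, 1, 2],
    0xfe00011000000000000000000000000000fffe0008000000000000000000000000fe010100180000000000000000000000fe010000002000000000000000000000fe010000000028000000000000000000fe01000000000030,
    0x1023143205431234565431203243154320765431234567, (unp 8
    0x4481d950c48d159b5064862aceca8d86301203120343254312065432765431234567699580918921890192a18932a18bb2a189019218aa1b2a3b0dac08c50c8150d950c5d950c480c90c550c81950c562960462864a862ca86240eca8624064862a8640ca862468937302314320543206543276543120324315432654317654eb58118a1902a1891a2bb2a189019218aa19032a1927d2c08c50c8150c5950c81d950c480c90c550c81950c532b60246248624068a862ca864eca862468ace9b2301203120343120543123457654312032431543206543764cc18118921902a1932a18bb2a189019218aa19032a1891bb2a3e0c048c490c480c950c48d15d950c480c90c550c81950c5d9230604628640a8624ca8624eca8624064862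a8640cae7753023124312035431203243567654312032431543206543276543134d98118a1902a1932a18bb2a189019218aa19032a193b2a165cc08c50c950c5950c81d950c480c90c550c81950c48d0b6d604628640a862468aeca8624064862a8640ca864ec5d5b020314320543265431765431203243154320672ba181018a18902a1891b2a3b2a189019218aa19032a18bb2955ec0480c50c8150c48d159d950c480c90c550c81950c49caee6046248640a862468aeca8624064862a8640ca862eca864b7b0231243120354312345676543120324315432065432765431dc98118a1902a1932a1bb2a189019218aa19032a1893b28adac08c490c8150c5950c9d950c480c90c550c81950c48dd85af604628640a864ca86eca8624064862a864ca862eca2f5b02314320543120326547654312032431543206543176514bd8118921902a1891a2b3b2a189019218aa19032a193b2a188e0c08c50c8150c9950dd950c480c90c550c81950c49d942ad604628640a86246caeca8624064862a8640ca86eca81363023143254316543276543120324315432065431234704b5)⟩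
    (by decide +kernel)))))))))))))))
    _ (by ((try (rewrite [Cfsg.Agent.LsF.f28001f_3.2, Cfsg.Agent.LsF.f28001f_4.2, Cfsg.Agent.LsF.f28001f_9.2, Cfsg.Agent.LsF.f28001f_7.2, Cfsg.Agent.LsF.f28001f_10.2, Cfsg.Agent.LsF.f28001f_12.2, Cfsg.Agent.LsF.f28001f_13.2, Cfsg.Agent.LsF.f28001f_14.2, Cfsg.Agent.LsF.f28001f_15.2, Cfsg.Agent.LsF.f28001f_16.2, Cfsg.Agent.LsF.f28001f_17.2, Cfsg.Agent.LsF.f28001f_18.2, Cfsg.Agent.LsF.f28001f_19.2, Cfsg.Agent.LsF.f28001f_20.2, Cfsg.Agent.LsF.f28001f_2.2, Cfsg.Agent.LsF.lappend_pat, Cfsg.Agent.LsF.and_eq, Cfsg.Agent.LsF.map_eq, Cfsg.Agent.LsF.idecLe_eq, Cfsg.Agent.LsF.decide_eq])); decide +kernel))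

private noncomputable def _root_.Cfsg.Agent.LsF.f28001f_21 : {f // @Cfsg.Agent.LV.W.mskL = f} := ⟨_, by first | (delta Cfsg.Agent.LV.W.mskL; rewrite [Cfsg.Agent.LsF.and_eq, Cfsg.Agent.LsF.zipWith_eq, Cfsg.Agent.LsF.replicate_eq, Cfsg.Agent.LsF.instIDecEq_eq, Cfsg.Agent.LsF.decide_eq]; exact rfl) | exact rfl⟩
private noncomputable def _root_.Cfsg.Agent.LsF.f28001f_22 : {f // @Cfsg.Agent.LV.W.cmpM = f} := ⟨_, by first | (delta Cfsg.Agent.LV.W.cmpM; rewrite [Cfsg.Agent.LsF.imul_pat, Cfsg.Agent.LsF.and_eq, Cfsg.Agent.LsF.cond_eq, Cfsg.Agent.LsF.headD_eq, Cfsg.Agent.LsF.tail_eq, Cfsg.Agent.LsF.instIDecEq_eq, Cfsg.Agent.LsF.decide_eq]; exact rfl) | exact rfl⟩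
private noncomputable def _root_.Cfsg.Agent.LsF.f28001f_23 : {f // @Cfsg.Agent.LV.Enum.addL = f} := ⟨_, by first | (delta Cfsg.Agent.LV.Enum.addL List.brecOn List.brecOn.go Cfsg.Agent.LV.Enum.addL._f; (try delta Cfsg.Agent.LV.Enum.addL.match_1); (try delta List.casesOn); first | dsimp -zeta only | exact rfl) | exact rfl⟩
private noncomputable def _root_.Cfsg.Agent.LsF.f28001f_24 : {f // @Cfsg.Agent.LV.W.lc = f} := ⟨_, by first | (delta Cfsg.Agent.LV.W.lc; rewrite [Cfsg.Agent.LsF.f28001f_23.2, Cfsg.Agent.LsF.imul_pat, Cfsg.Agent.LsF.map_eq, Cfsg.Agent.LsF.iadd_eq]; exact rfl) | exact rfl⟩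
private noncomputable def _root_.Cfsg.Agent.LsF.f28001f_25 : {f // @Cfsg.Agent.LV.W.derOK' = f} := ⟨_, by first | (delta Cfsg.Agent.LV.W.derOK'; rewrite [Cfsg.Agent.LsF.f28001f_21.2, Cfsg.Agent.LsF.f28001f_22.2, Cfsg.Agent.LsF.f28001f_24.2, Cfsg.Agent.LsF.imul_pat, Cfsg.Agent.LsF.imod_pat, Cfsg.Agent.LsF.and_eq, Cfsg.Agent.LsF.all_eq, Cfsg.Agent.LsF.instIDecEq_eq, Cfsg.Agent.LsF.dNot_eq, Cfsg.Agent.LsF.length_eq, Cfsg.Agent.LsF.decide_eq]; exact rfl) | exact rfl⟩
private noncomputable def _root_.Cfsg.Agent.LsF.f28001f_26 : {f // @Cfsg.Agent.LV.W.E8_bas = f} := ⟨_, by first | (delta Cfsg.Agent.LV.W.E8_bas; rewrite [Cfsg.Agent.LsF.f28001f_2.2, Cfsg.Agent.LsF.map_eq]; exact rfl) | exact rfl⟩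
theorem E8_fx : FX E8 E8_bas := FX.comb' E8_good E8_gen (List.zipWith (fun a b => ⟨a, b, 1⟩)
    (List.map (fun n => List.map Prod.swap (unv 4 n)) [0x1f08, 0x1ef8, 0x1b48, 0x1b38, 0xf87, 0xf87, 0xf87, 0xf77,
    0xf77, 0xf77, 0x1908, 0x18f8, 0xe07, 0xe07, 0xe07, 0xdf7, 0xdf7, 0xdf7, 0x7c6, 0x7c6, 0x7c6, 0x7c6, 0x7c6,
    0x7b6, 0x7b6, 0x7b6, 0x7b6, 0x7b6, 0x21, 0x21, 0x21, 0x21, 0x21, 0x21, 0x21, 0x21, 0x21, 0x21, 0x21, 0x21,
    0x21, 0x21, 0x21, 0x21, 0x21, 0x21, 0x706, 0x706, 0x706, 0x706, 0x706, 0x706, 0x6f6, 0x6f6, 0x6f6, 0x6f6,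
    0x6f6, 0x6f6, 0xc87, 0xc87, 0xc87, 0xc77, 0xc77, 0xc77, 0xd47, 0xd37, 0xd07, 0xcf7, 0x385, 0x385, 0x385, 0x385,
    0x385, 0x385, 0x375, 0x375, 0x375, 0x375, 0x375, 0x375, 0x646, 0x646, 0x646, 0x636, 0x636, 0x636, 0x686, 0x686,
    0x686, 0x676, 0x676, 0x676, 0x1c4, 0x1c4, 0x1c4, 0x1c4, 0x1b4, 0x1b4, 0x1b4, 0x1b4, 0x305, 0x305, 0x1f4, 0x1f4,
    0x6c6, 0x6b6, 0x3e5, 0x3e5, 0x3d5, 0x3d5, 0x345, 0x335])
    (List.map (fun n => unv 3 (Nat.shiftRight n 32)) [0x322a8a49f0, 0x3232daef9f, 0x32d62cbf25, 0x325caded41,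
    0x99eff83f04, 0x472da963a45, 0x5727a2c54a0, 0x1324869650e, 0x472b101446a, 0x572142ea4cd, 0x129b83d5f7b,
    0x129abbd5e94, 0x32baf87131, 0x1326aa87c09, 0x239992bfcd686, 0x329de552dd, 0x99c7c66f53, 0x47332efac6de6,
    0x9994b24700, 0x5c984366826, 0x339aa61e488, 0x9d9efb9f2c6, 0x4726bb906c9, 0x1324d7b8661, 0xc929fad3bf4,
    0x9928d9f0711, 0x5c9c6530cc3, 0x472ddfc1c08, 0x672a309b1a6, 0x4c9454cfe2b, 0x6c9b86d152d, 0xa92fefaf558,
    0xa5907123c8d, 0xb593212c44f, 0x46cb24c4928f74587, 0x11b29621787d, 0x44970e9dc05, 0x5c99fc32bb5, 0xbd9a66e1277,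
    0x9592e45282a, 0x9d93812e299, 0x572c24da336, 0x5ecec999329af9ae4aa, 0x17b3b2664c73292e376b8b, 0x352a1806108,
    0xe92b7ed25da, 0x9590ab772dc, 0xad9fc893150, 0x9978b9d3d6, 0x3b9fad18c6a, 0x47239eb08e4, 0x10b22a6e4bd6,
    0x8d90ddc50fb, 0x9d9e44da6a6, 0x132222ed171, 0x6721c5f4755, 0x472513de781, 0xf92f7cd9231, 0x192e79e0d7,
    0x2397b8fba72, 0x13231800c21, 0x198c5ebf87, 0x2390920da71, 0x996a5d89bd, 0x472771fe0ac, 0x47259e1adc4,
    0x132615b43f3, 0x99a99b2c28, 0x4499c9e8752, 0x772126d1569, 0x2967b9971503bd, 0x572345158db, 0x1323ce3808e,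
    0x47299b7cfd891, 0x992e736f4fc, 0x3395fbf2e16, 0x2e4e72002b4b4c, 0x57259bbb436, 0x9967c6b462, 0x8e532f3bd423e,
    0x99474d9d8e, 0x472db194b90, 0x2b968f8886f, 0x132ddcc78de, 0x4721d7584ad, 0x2b9b058d2ee, 0x19d4d4ab0b,
    0x1328c181ea8, 0x9925fb693a6, 0x19f6e0ff05, 0x99093b5dd5, 0xb928cc8678b, 0x2b99d128945, 0x194d27667d,
    0x2391918463b8a, 0x1324b978eaf, 0x198b93983c, 0x2b9833ce137, 0x23956e12b56, 0x99f37b7afb, 0x13294b59db0,
    0x194b0e9e7f, 0x99f5532e9c, 0x195a03a612, 0x19d18aa866, 0x1921109d0d, 0x326b4a4399, 0x23968c422a7,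
    0x32d0201a41, 0x472905d11dd, 0x132a46d8bd9, 0x9989d3a4b7]))
    _ (by ((try (rewrite [Cfsg.Agent.LsF.f28001f_4.2, Cfsg.Agent.LsF.f28001f_25.2, Cfsg.Agent.LsF.f28001f_3.2, Cfsg.Agent.LsF.f28001f_2.2, Cfsg.Agent.LsF.f28001f_11.2, Cfsg.Agent.LsF.f28001f_26.2, Cfsg.Agent.LsF.map_eq, Cfsg.Agent.LsF.zipWith_eq])); decide +kernel))

/-- the packed form of `invOK` -/
def Q5.invP (nd : Nd) (b : ℕ) (B : ℤ) (L : List (List ℤ × ℤ)) (R : List (ℤ × List (ℤ × ℕ))) : Bool :=
  Nat.beq L.length nd.K && (L.all fun c => Nat.ble c.1.length nd.K && c.1.all fun x => Nat.ble x.natAbs b) &&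
  (fun XP => allLt nd.K fun φ => (fun q : ℤ × List (ℤ × ℕ) => decide (q.1 ≠ 0) && linP nd.K b B XP q.2 (Nd.unit φ q.1))
    (nth (0, []) R φ)) ((L.map Prod.fst).map (pkz B))

theorem Q5.nth_fst (L : List (List ℤ × ℤ)) (k : ℕ) : nth [] (L.map Prod.fst) k = (nth ([], 0) L k).1 := by
  induction L generalizing k with
  | nil => rfl
  | cons a L ih => cases k with
    | zero => rfl
    | succ k => exact ih k

theorem Q5.sum_eq (L : List (List ℤ × ℤ)) (cf : List (ℤ × ℕ)) (φ : ℕ) :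
    (List.rec 0 (fun p _ ih => p.1 * nth 0 p.2 φ + ih) (cf.map fun p => (p.1, (nth ([], 0) L p.2).1)) : ℤ) =
      (cf.map fun p => p.1 * ga (L.map Prod.fst) p.2 φ).sum := by
  induction cf with
  | nil => rfl
  | cons p cf ih => exact congrArg₂ (· + ·) (congrArg (fun l => p.1 * nth 0 l φ) (Q5.nth_fst L p.2).symm) ih

theorem Q5.invOK_of {nd : Nd} {b : ℕ} {B : ℤ} {L : List (List ℤ × ℤ)} {R : List (ℤ × List (ℤ × ℕ))}
    (h : Q5.invP nd b B L R = true) : invOK nd L R = true := by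
  obtain ⟨h, h3⟩ := Bool.and_eq_true_iff.1 h
  obtain ⟨h1, h2⟩ := Bool.and_eq_true_iff.1 h
  have e := Nat.eq_of_beq_eq_true h1
  refine allLt_iff.2 fun φ hφ => ?_
  obtain ⟨h4, h5⟩ := Bool.and_eq_true_iff.1 (allLt_iff.1 h3 φ hφ)
  obtain ⟨h6, h7⟩ := linP_spec ((List.length_map _).trans e) (fun c hc => by
    obtain ⟨c', hc', rfl⟩ := List.mem_map.1 hc
    obtain ⟨h8, h9⟩ := Bool.and_eq_true_iff.1 (List.all_eq_true.1 h2 c' hc')
    exact ⟨Nat.le_of_ble_eq_true h8, fun x hx => Nat.le_of_ble_eq_true (List.all_eq_true.1 h9 x hx)⟩) h5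
  refine Bool.and_eq_true_iff.2 ⟨Bool.and_eq_true_iff.2 ⟨h4, List.all_eq_true.2 fun p hp => Nat.blt_eq.mpr (e ▸ h6 p hp)⟩,
    allLt_iff.2 fun φ' hφ' => decide_eq_true ?_⟩
  rw [Q5.sum_eq, h7 φ' hφ', Nd.nth_unit]

private noncomputable def _root_.Cfsg.Agent.LsF.f28001f_27 : {f // @Cfsg.Agent.LV.W.allLt = f} := ⟨_, by first | (delta Cfsg.Agent.LV.W.allLt; rewrite [Cfsg.Agent.LsF.and_eq]; exact rfl) | exact rfl⟩
private noncomputable def _root_.Cfsg.Agent.LsF.f28001f_28 : {f // @Cfsg.Agent.LV.W.Nd.unit = f} := ⟨_, by first | (delta Cfsg.Agent.LV.W.Nd.unit; rewrite [Cfsg.Agent.LsF.lappend_pat, Cfsg.Agent.LsF.replicate_eq]; exact rfl) | exact rfl⟩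
private noncomputable def _root_.Cfsg.Agent.LsF.f28001f_29 : {f // @Cfsg.Agent.LV.W.Q5.invP = f} := ⟨_, by first | (delta Cfsg.Agent.LV.W.Q5.invP; rewrite [Cfsg.Agent.LsF.f28001f_27.2, Cfsg.Agent.LsF.f28001f_8.2, Cfsg.Agent.LsF.f28001f_28.2, Cfsg.Agent.LsF.f28001f_7.2, Cfsg.Agent.LsF.and_eq, Cfsg.Agent.LsF.all_eq, Cfsg.Agent.LsF.map_eq, Cfsg.Agent.LsF.natAbs_eq, Cfsg.Agent.LsF.instIDecEq_eq, Cfsg.Agent.LsF.dNot_eq, Cfsg.Agent.LsF.length_eq, Cfsg.Agent.LsF.decide_eq]; exact rfl) | exact rfl⟩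
private noncomputable def _root_.Cfsg.Agent.LsF.f28001f_30 : {f // @Cfsg.Agent.LV.W.E8_inv = f} := ⟨_, by first | (delta Cfsg.Agent.LV.W.E8_inv; rewrite [Cfsg.Agent.LsF.f28001f_2.2, Cfsg.Agent.LsF.f28001f_11.2, Cfsg.Agent.LsF.map_eq, Cfsg.Agent.LsF.zip_eq]; exact rfl) | exact rfl⟩
theorem E8_io : invOK E8 E8_bas E8_inv = true := Q5.invOK_of (b := 100) (B := 1234567891234567891) (by ((try (rewrite [Cfsg.Agent.LsF.f28001f_29.2, Cfsg.Agent.LsF.f28001f_3.2, Cfsg.Agent.LsF.f28001f_26.2, Cfsg.Agent.LsF.f28001f_30.2])); decide +kernel))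

noncomputable def E8_L : Lat := ⟨E8, E8_bas, E8_inv⟩

theorem E8_ok : E8_L.Ok := ⟨E8_good, E8_fx, E8_io⟩

noncomputable def E8_ce : Ce := ⟨120, 1603069056388800,
    (List.map (fun p : ℕ × ℕ × ℤ => (⟨[p.1], [p.2.1], [(p.2.2, 1, [])]⟩ : Blk)) (List.zip (unp 3
    0x347cdecfb1f77a9f6fa7f1fc3e7d369749a3d1691fbcf5291) (List.zip (unp 3
    0x6ffbbe9fa3e7f9be5f93e3f7fc3f0bc1f03f3b3d6eb9535291) (unz 6
    0x2d8fdccd4076034b63f733501d80d2d8fdccd4076034b63f733501d80d2d8fdccd4076034b63f733501d80d2d8fdccd4076034b63f733501d80d2d8fdccd4076034b63f733501d80d2d8fdccd4076034b63f733501d80d2d8fdccd4076034b63f733501d80d2d8fdccd4076034b63f733501d80d2d8fdccd4076034b63f733501d80d2d8fdccd4076034b63f733501d80d2d8fdccd4076034b63f733501d80d2d8fdccd4076034))))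
    ++ [⟨[92, 93], [106, 107], List.map (fun l => (nth 0 l 0, nth 0 l 1, l.drop 2)) (List.map (unz 6)
    [0x1056c7ee66a03b033, 0x3056c7ee66a03b033])⟩, ⟨[94, 95], [108, 109], List.map (fun l => (nth 0 l 0, nth 0 l 1,
    l.drop 2)) (List.map (unz 6) [0x1056c7ee66a03b033, 0x3056c7ee66a03b033])⟩, ⟨[4, 13, 15], [6, 5, 4], List.map
    (fun l => (nth 0 l 0, nth 0 l 1, l.drop 2)) (List.map (unz 6) [0x1056c7ee66a03b033, 0x8281f97fa223569031,
    0x30a0e0fcbfd111ab4830])⟩, ⟨[5, 14, 16], [9, 8, 7], List.map (fun l => (nth 0 l 0, nth 0 l 1, l.drop 2))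
    (List.map (unz 6) [0x1056c7ee66a03b033, 0x8281f97fa223569031, 0x30a0e0fcbfd111ab4830])⟩, ⟨[8, 17, 22], [12, 13,
    14], List.map (fun l => (nth 0 l 0, nth 0 l 1, l.drop 2)) (List.map (unz 6) [0x1056c7ee66a03b033,
    0x8281f97fa223569031, 0x20a0e0fcbfd111ab4830])⟩, ⟨[9, 18, 23], [15, 16, 17], List.map (fun l => (nth 0 l 0, nth
    0 l 1, l.drop 2)) (List.map (unz 6) [0x1056c7ee66a03b033, 0x8281f97fa223569031, 0x20a0e0fcbfd111ab4830])⟩,
    ⟨[24, 28, 40], [60, 59, 58], List.map (fun l => (nth 0 l 0, nth 0 l 1, l.drop 2)) (List.map (unz 6)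
    [0x1056c7ee66a03b033, 0x8281f97fa223569031, 0x81c160fcbfd111ab4830])⟩, ⟨[25, 29, 43], [63, 62, 61], List.map
    (fun l => (nth 0 l 0, nth 0 l 1, l.drop 2)) (List.map (unz 6) [0x1056c7ee66a03b033, 0x8281f97fa223569031,
    0x81c160fcbfd111ab4830])⟩, ⟨[45, 90, 96], [68, 69, 70], List.map (fun l => (nth 0 l 0, nth 0 l 1, l.drop 2))
    (List.map (unz 6) [0x1056c7ee66a03b033, 0x8281f97fa223569031, 0x20c160fcbfd111ab4830])⟩, ⟨[41, 71, 81], [71,
    72, 73], List.map (fun l => (nth 0 l 0, nth 0 l 1, l.drop 2)) (List.map (unz 6) [0x1056c7ee66a03b033,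
    0x8281f97fa223569031, 0x20c160fcbfd111ab4830])⟩, ⟨[46, 91, 100], [74, 75, 76], List.map (fun l => (nth 0 l 0,
    nth 0 l 1, l.drop 2)) (List.map (unz 6) [0x1056c7ee66a03b033, 0x8281f97fa223569031, 0x20c160fcbfd111ab4830])⟩,
    ⟨[42, 73, 82], [77, 78, 79], List.map (fun l => (nth 0 l 0, nth 0 l 1, l.drop 2)) (List.map (unz 6)
    [0x1056c7ee66a03b033, 0x8281f97fa223569031, 0x20c160fcbfd111ab4830])⟩, ⟨[44, 62, 74], [82, 81, 80], List.map
    (fun l => (nth 0 l 0, nth 0 l 1, l.drop 2)) (List.map (unz 6) [0x1056c7ee66a03b033, 0x4181f97fa223569031,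
    0x614160fcbfd111ab4830])⟩, ⟨[47, 64, 75], [85, 84, 83], List.map (fun l => (nth 0 l 0, nth 0 l 1, l.drop 2))
    (List.map (unz 6) [0x1056c7ee66a03b033, 0x4181f97fa223569031, 0x614160fcbfd111ab4830])⟩, ⟨[48, 55, 76], [88,
    87, 86], List.map (fun l => (nth 0 l 0, nth 0 l 1, l.drop 2)) (List.map (unz 6) [0x1056c7ee66a03b033,
    0x8281f97fa223569031, 0x81c160fcbfd111ab4830])⟩, ⟨[49, 56, 77], [89, 90, 91], List.map (fun l => (nth 0 l 0,
    nth 0 l 1, l.drop 2)) (List.map (unz 6) [0x1056c7ee66a03b033, 0x8281f97fa223569031, 0x20c160fcbfd111ab4830])⟩,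
    ⟨[78, 86, 105], [92, 93, 94], List.map (fun l => (nth 0 l 0, nth 0 l 1, l.drop 2)) (List.map (unz 6)
    [0x1056c7ee66a03b033, 0x4181f97fa223569031, 0x414160fcbfd111ab4830])⟩, ⟨[79, 87, 107], [98, 97, 96], List.map
    (fun l => (nth 0 l 0, nth 0 l 1, l.drop 2)) (List.map (unz 6) [0x1056c7ee66a03b033, 0x8281f97fa223569031,
    0x81c160fcbfd111ab4830])⟩, ⟨[10, 31, 50, 57, 60], [22, 21, 20, 19, 18], List.map (fun l => (nth 0 l 0, nth 0 l
    1, l.drop 2)) (List.map (unz 6) [0x1056c7ee66a03b033, 0x3056c7ee66a03b033, 0x414181db1fb99a80ec31,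
    0x41410181db1fb99a80ec31, 0x10607060c0943ff05b39182f])⟩, ⟨[11, 33, 51, 59, 66], [27, 26, 25, 24, 23], List.map
    (fun l => (nth 0 l 0, nth 0 l 1, l.drop 2)) (List.map (unz 6) [0x1056c7ee66a03b033, 0x3056c7ee66a03b033,
    0x20c181db1fb99a80ec31, 0x10608181db1fb99a80ec31, 0x20b07060c0943ff05b39182f])⟩, ⟨[20, 26, 52, 61, 67], [50,
    49, 48, 47, 46], List.map (fun l => (nth 0 l 0, nth 0 l 1, l.drop 2)) (List.map (unz 6) [0x1056c7ee66a03b033,
    0x3056c7ee66a03b033, 0x20c181db1fb99a80ec31, 0x10608181db1fb99a80ec31, 0x50e0c14140943ff05b39182f])⟩, ⟨[21, 27,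
    53, 65, 68], [56, 55, 54, 53, 52], List.map (fun l => (nth 0 l 0, nth 0 l 1, l.drop 2)) (List.map (unz 6)
    [0x1056c7ee66a03b033, 0x3056c7ee66a03b033, 0x20c181db1fb99a80ec31, 0x10608181db1fb99a80ec31,
    0x41a1c14140943ff05b39182f])⟩, ⟨[12, 19, 30, 32, 54, 58, 63, 69, 70, 80, 85, 98, 101, 103, 106, 108, 111], [44,
    43, 42, 41, 40, 39, 38, 37, 36, 35, 34, 33, 32, 31, 30, 29, 28], List.map (fun l => (nth 0 l 0, nth 0 l 1,
    l.drop 2)) (List.map (fun n => unz 6 (Nat.shiftRight n 32)) [0x82b63f733501d8325e93cc57, 0x10604c265d0388a82e77ac435f,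
    0xe1c1785de2b371c0c2a24617bfa, 0x408182b63f733501d83228226f9c, 0x70e0a0b44e0b00593f96842b988f5e88,
    0x70e0a0b4482d0b2b12ca2f9a2b61fbaa7b, 0x70e44913448282c0b61734c09b62b9059129e,
    0x1f160703a120481231ac0febc1cdf74277a1eb92d, 0x1447963fc3663689f078f23d0f1427617e0e5724f50be271,
    0x1447c0b28d98d587c0b1e47a1e60f9047866b282d2532fbfa70, 0x1827a1fd0fc0d060ef1e31a0703f8238cb0217124f7cea56e,
    0x281b98890b7c7a46aa239c8ee3d41ea0fe07d413026f280b23220b2d2d,
    0x505c1f61ef1ac0f71798fd8d50d50de0d43da23d25ba9e0a49bcddba3, 0x102040c10306080c101820604a1ff82d9c8c2e1740b6ae,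
    0x2c4d46d46f1282e0ec2fa301d1231b42e09b8dc07db6d0d57c2659e2be57,
    0x1626a36a3789417c1a60fcc7d46d1231b42c21f71b38fb044ccc9178525d23c6940,
    0x120de17c2c05e1f0e31a62c14148350942409c3e1e0340cc9abd83a9e4ba40d5])⟩]⟩

private noncomputable def _root_.Cfsg.Agent.LsF.f28001f_31 : {f // @Cfsg.Agent.LV.W.Lat.num = f} := ⟨_, by first | (delta Cfsg.Agent.LV.W.Lat.num; rewrite [Cfsg.Agent.LsF.iadd_pat, Cfsg.Agent.LsF.imul_pat, Cfsg.Agent.LsF.instDecEq_eq, Cfsg.Agent.LsF.ite_eq]; exact rfl) | exact rfl⟩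
private noncomputable def _root_.Cfsg.Agent.LsF.f28001f_32 : {f // @Cfsg.Agent.LV.W.Lat.wt = f} := ⟨_, by first | (delta Cfsg.Agent.LV.W.Lat.wt; rewrite [Cfsg.Agent.LsF.imul_pat]; exact rfl) | exact rfl⟩
private noncomputable def _root_.Cfsg.Agent.LsF.f28001f_33 : {f // @Cfsg.Agent.LV.Enum.gram = f} := ⟨_, by first | (delta Cfsg.Agent.LV.Enum.gram List.brecOn List.brecOn.go Cfsg.Agent.LV.Enum.gram._f; rewrite [Cfsg.Agent.LsF.f28001f_23.2, Cfsg.Agent.LsF.map_eq, Cfsg.Agent.LsF.iadd_eq, Cfsg.Agent.LsF.imul_eq]; (try delta Cfsg.Agent.LV.Enum.gram.match_1); (try delta List.casesOn); first | dsimp -zeta only | exact rfl) | exact rfl⟩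
private noncomputable def _root_.Cfsg.Agent.LsF.f28001f_34 : {f // @Cfsg.Agent.LV.Enum.dense = f} := ⟨_, by first | (delta Cfsg.Agent.LV.Enum.dense List.brecOn List.brecOn.go Cfsg.Agent.LV.Enum.dense._f; rewrite [Cfsg.Agent.LsF.lappend_pat, Cfsg.Agent.LsF.replicate_eq, Cfsg.Agent.LsF.length_eq]; (try delta Cfsg.Agent.LV.Enum.dense.match_1); (try delta List.casesOn); first | dsimp -zeta only | exact rfl) | exact rfl⟩
private noncomputable def _root_.Cfsg.Agent.LsF.f28001f_35 : {f // @Cfsg.Agent.LV.W.Lat.row = f} := ⟨_, by first | (delta Cfsg.Agent.LV.W.Lat.row; rewrite [Cfsg.Agent.LsF.f28001f_31.2, Cfsg.Agent.LsF.map_eq]; exact rfl) | exact rfl⟩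
private noncomputable def _root_.Cfsg.Agent.LsF.f28001f_36 : {f // @Cfsg.Agent.LV.W.Lat.blkOK = f} := ⟨_, by first | (delta Cfsg.Agent.LV.W.Lat.blkOK; rewrite [Cfsg.Agent.NodupNat.dec_eq, Cfsg.Agent.LsF.dMemE_pat, Cfsg.Agent.LsF.f28001f_31.2, Cfsg.Agent.LsF.f28001f_32.2, Cfsg.Agent.LsF.f28001f_33.2, Cfsg.Agent.LsF.f28001f_34.2, Cfsg.Agent.LsF.f28001f_35.2, Cfsg.Agent.LsF.imul_pat, Cfsg.Agent.LsF.imod_pat, Cfsg.Agent.LsF.and_eq, Cfsg.Agent.LsF.instDecEq_eq, Cfsg.Agent.LsF.all_eq, Cfsg.Agent.LsF.map_eq, Cfsg.Agent.LsF.instIDecEq_eq, Cfsg.Agent.LsF.idecLe_eq, Cfsg.Agent.LsF.idecLt_eq, Cfsg.Agent.LsF.dNot_eq, Cfsg.Agent.LsF.dListEq_eq, Cfsg.Agent.LsF.length_eq, Cfsg.Agent.LsF.decide_eq]; exact rfl) | exact rfl⟩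
private noncomputable def _root_.Cfsg.Agent.LsF.f28001f_37 : {f // @Cfsg.Agent.LV.W.Lat.ceOK = f} := ⟨_, by first | (delta Cfsg.Agent.LV.W.Lat.ceOK; rewrite [Cfsg.Agent.LsF.f28001f_36.2, Cfsg.Agent.LsF.and_eq, Cfsg.Agent.LsF.instDecEq_eq, Cfsg.Agent.LsF.all_eq, Cfsg.Agent.LsF.flatMap_eq, Cfsg.Agent.LsF.range_eq, Cfsg.Agent.LsF.instIDecEq_eq, Cfsg.Agent.LsF.dNot_eq, Cfsg.Agent.LsF.dPerm_eq, Cfsg.Agent.LsF.decide_eq]; exact rfl) | exact rfl⟩
private noncomputable def _root_.Cfsg.Agent.LsF.f28001f_38 : {f // @Cfsg.Agent.LV.W.E8_L = f} := ⟨_, by first | (delta Cfsg.Agent.LV.W.E8_L; rewrite [Cfsg.Agent.LsF.f28001f_3.2, Cfsg.Agent.LsF.f28001f_26.2, Cfsg.Agent.LsF.f28001f_30.2]; exact rfl) | exact rfl⟩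
private noncomputable def _root_.Cfsg.Agent.LsF.f28001f_39 : {f // @Cfsg.Agent.LV.W.E8_ce = f} := ⟨_, by first | (delta Cfsg.Agent.LV.W.E8_ce; rewrite [Cfsg.Agent.LsF.f28001f_2.2, Cfsg.Agent.LsF.lappend_pat, Cfsg.Agent.LsF.map_eq, Cfsg.Agent.LsF.zip_eq, Cfsg.Agent.LsF.drop_eq]; exact rfl) | exact rfl⟩
theorem E8_ceOK : E8_L.ceOK E8_ce = true := by ((try (rewrite [Cfsg.Agent.LsF.f28001f_37.2, Cfsg.Agent.LsF.f28001f_38.2, Cfsg.Agent.LsF.f28001f_39.2])); decide +kernel)


end Cfsg.Agent.LV.W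
end

-- part: MO/U/Pure
section
/-!
# MO / U : purity of the levels (helper7)

`Pure L Dl` : two parts of vectors of the dual lattice whose levels differ by a member of `Dl` and whose norms add up to at
most `1` are not both different from zero.
-/

set_option autoImplicit false

namespace Cfsg.Agent.MO.U

open Finset

/-- **purity** -/
def Pure (L : LV.W.Lat) (Dl : List ℤ) : Prop :=
  ∀ (κ κ' : ℤ) (a a' : ℕ → ℚ), κ - κ' ∈ Dl → InL L κ a → InL L κ' a' →
    ∑ φ ∈ range L.nd.K, (L.nd.ν φ : ℚ) * a φ ^ 2 + ∑ φ ∈ range L.nd.K, (L.nd.ν φ : ℚ) * a' φ ^ 2 ≤ L.nd.ν 0 →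
    (∀ φ < L.nd.K, a φ = 0) ∨ ∀ φ < L.nd.K, a' φ = 0

example := @Pure.eq_1

end Cfsg.Agent.MO.U
end

-- part: MO/U/Pc
section
/-!
# MO / U : Parseval in coordinates (helper64)

* `cnt_el` : the orders of the centralisers; `pc_of` : Parseval in coordinates.
-/

set_option autoImplicit false
set_option linter.unusedSectionVars false

namespace Cfsg.Agent.MO.U

open CoxeterSystem Cfsg.Agent.Tits.Exchange Cfsg.Agent.Tits.Core Cfsg.Agent.Tits.Roots
  Cfsg.Agent.ChevalleyStructure.CoxeterGeom Cfsg.Agent.LV.T Cfsg.Agent.LV.W Finset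

variable {I W : Type} [Fintype I] [DecidableEq I] [Group W] [Fintype W] {M : CoxeterMatrix I}
  {cs : CoxeterSystem M W} {A : I → I → ℤ} {h : IsCartan M A} {ψ : MulAut W} {nd : Nd} {em : ℕ → I} {J : Set I} {w : W}

theorem inv_of (Y : (W → W → Prop) → ℂ) (hY : ∀ P Q : W → W → Prop,
    (∃ g ∈ WJ cs J, ∀ v x, P v x ↔ Q (g⁻¹ * v) x) → Y P = Y Q) :
    _root_.Cfsg.Agent.LV.W.Inv cs ψ J fun u => Y fun v x => u * ψ v = v * x := fun g hg u => hY _ _ ⟨g, hg, fun v x => by
  rw [mul_assoc (u : W), ← map_mul, mul_inv_cancel_left, mul_assoc g⁻¹, eq_inv_mul_iff_mul_eq, mul_assoc]⟩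

/-- **the orders of the centralisers** -/
theorem cnt_el (G : nd.Good) (hD : Dist nd) (F : Fit cs h ψ nd.toTy em J w) {k : ℕ} (hk : k < nd.K) :
    nd.n k * Nat.card {v : WJ cs J // el cs nd em w k * ψ v = v * el cs nd em w k} = nd.ν 0 := by
  classical
  have h1 := F.mass G (inv_of (ψ := ψ) (fun P => Nat.card {v : WJ cs J // P v (el cs nd em w k)}) fun P Q ⟨g, hg, e⟩ =>
    congrArg _ (Nat.card_congr ((Equiv.mulLeft (⟨g, hg⟩ : WJ cs J)⁻¹).subtypeEquiv fun v => e v _)))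
  have h2 : ∑ x : WJ cs J, (Nat.card {v : WJ cs J // x * w * ψ v = v * el cs nd em w k} : ℂ) = Nat.card (WJ cs J) := by
    rw [← Nat.cast_sum, ← Nat.card_sigma]
    refine congrArg _ (Nat.card_congr (Equiv.ofBijective (fun p => p.2.1) ⟨?_, fun v => ?_⟩))
    · rintro ⟨x, v, e⟩ ⟨x', v', e'⟩ (rfl : v = v')
      obtain rfl : x = x' := Subtype.ext (mul_right_cancel (mul_right_cancel (e.trans e'.symm)))
      rfl
    · exact ⟨⟨⟨_, mul_mem (mul_mem v.2 (F.wd_mem (nd.e k))) (inv_mem (F.tw_mem G v.2))⟩, v, by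
        simp only [el, mul_assoc, _root_.mul_inv_rev, _root_.inv_inv, _root_.inv_mul_cancel, _root_.mul_one]⟩, rfl⟩
  have h3 : (nd.ν 0 : ℂ) ≠ 0 := Int.cast_ne_zero.2 (G.orth G.spec.2.1).1.ne'
  rw [h2, sum_eq_single k (fun l hl hlk => ?_) fun h4 => absurd (mem_range.2 hk) h4,
    left_eq_mul₀ (Nat.cast_ne_zero.2 Nat.card_pos.ne'), div_eq_one_iff_eq h3] at h1
  · exact_mod_cast h1
  · have : IsEmpty {v : WJ cs J // el cs nd em w l * ψ v = v * el cs nd em w k} :=
      ⟨fun v => hlk (hD F l (mem_range.1 hl) k hk _ v.1.2 v.2)⟩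
    rw [Nat.card_of_isEmpty, Nat.cast_zero, mul_zero]

/-- **Parseval in coordinates** -/
theorem pc_of (G : nd.Good) (hD : Dist nd) (F : Fit cs h ψ nd.toTy em J w) {ι : Type} [Fintype ι] {y : ι → W → ℤ}
    (P : Par cs ψ J w y) : PC nd fun i => nd.co fun k => (y i (el cs nd em w k) : ℚ) := fun φ hφ φ' hφ' => by
  have h1 : ∀ k < nd.K, ∀ l < nd.K, nd.n l * ∑ i, y i (el cs nd em w k) * y i (el cs nd em w l) =
      if l = k then nd.ν 0 else 0 := fun k hk l hl => by
    rw [show ∑ i, y i (el cs nd em w k) * y i (el cs nd em w l) = _ from P _ (F.wd_mem _) _ (F.wd_mem _)]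
    split_ifs with e
    · rw [e]
      exact cnt_el G hD F hk
    · have : IsEmpty {v : WJ cs J // wd cs em nd.r (nd.e l) * w * ψ v = v * (wd cs em nd.r (nd.e k) * w)} :=
        ⟨fun v => e (hD F l hl k hk _ v.1.2 v.2)⟩
      rw [Nat.card_of_isEmpty, Nat.cast_zero, mul_zero]
  have h2 : ∑ i, (∑ k ∈ range nd.K, nd.n k * nd.X φ k * y i (el cs nd em w k)) *
      ∑ l ∈ range nd.K, nd.n l * nd.X φ' l * y i (el cs nd em w l) = nd.ν 0 * if φ' = φ then nd.ν φ else 0 := by
    simp only [sum_mul_sum]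
    rw [sum_comm, ← (G.orth hφ).2 φ' hφ', mul_sum]
    refine sum_congr rfl fun k hk => ?_
    have h2 : ∀ l ∈ range nd.K, ∑ i, nd.n k * nd.X φ k * y i (el cs nd em w k) * (nd.n l * nd.X φ' l *
        y i (el cs nd em w l)) = nd.n k * nd.X φ k * nd.X φ' l * if l = k then nd.ν 0 else 0 := fun l hl => by
      rw [← h1 k (mem_range.1 hk) l (mem_range.1 hl), mul_sum, mul_sum]
      exact sum_congr rfl fun i _ => by ring
    rw [sum_comm, sum_congr rfl h2]
    simp only [mul_ite, mul_zero, sum_ite_eq', if_pos hk, mul_comm (nd.ν 0)]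
  have h3 : (nd.ν φ : ℚ) ≠ 0 := Int.cast_ne_zero.2 (G.orth hφ).1.ne'
  have h4 := congrArg (Int.cast : ℤ → ℚ) h2
  simp only [Nd.co, div_mul_div_comm, ← sum_div]
  push_cast at h4 ⊢
  rw [h4]
  by_cases e : φ' = φ
  · rw [e, if_pos rfl, if_pos rfl]
    field_simp
  · rw [if_neg e, if_neg (Ne.symm e), mul_zero, zero_div, zero_mul]

end Cfsg.Agent.MO.U
end

-- part: MO/U/Dist
section
/-!
# MO / U : the representatives of a node are not conjugate (helper64)

* `ClsF` : functions on the representatives which are constant on conjugate ones; `ClsF.cas`, `cls_orb`;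
* `dist_of_chk` : colour refinement; `col_inj` : the columns of the table are distinct.
-/

set_option autoImplicit false
set_option linter.unusedSectionVars false

namespace Cfsg.Agent.MO.U

open CoxeterSystem Cfsg.Agent.Tits.Exchange Cfsg.Agent.Tits.Core Cfsg.Agent.Tits.Roots
  Cfsg.Agent.ChevalleyStructure.CoxeterGeom Cfsg.Agent.LV.T Cfsg.Agent.LV.W Finset

/-! ### the checker -/

/-- the steps : a closed list of words, a Casimir element; `c` are the new colours -/
inductive Ds where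
  | orb (ws : List ℕ) (c : List ℤ)
  | cas (o : ℕ) (g c : List ℤ)

/-- `c'` is a function of `c` and `v` -/
def fnB (K : ℕ) (c v c' : ℕ → ℤ) : Bool :=
  allLt K fun k => allLt K fun k' => decide (c k ≠ c k') || decide (v k ≠ v k') || decide (c' k = c' k')

/-- the list of words is closed under twisted conjugation -/
def orbB (nd : Nd) (ws L : List ℕ) : Bool :=
  ws.all fun n => allLt nd.r fun i => decide (step nd.tab i (run nd.tab n (step nd.tab (nd.σ i) nd.n0)) ∈ L)

/-- `g` is the image of `f` under the Casimir element -/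
def casB (nd : Nd) (lev : List ℤ) (f g : ℕ → ℤ) : Bool :=
  allLt nd.K fun φ => decide ((sumLt nd.K fun k => nd.n k * nd.X φ k * g k) =
    nth 0 lev φ * sumLt nd.K fun k => nd.n k * nd.X φ k * f k)

/-- the refinement -/
def goD (nd : Nd) (pr : List Ds) : (ℕ → ℤ) → Bool :=
  List.rec (fun c => allLt nd.K fun k => allLt nd.K fun k' => decide (c k ≠ c k') || decide (k = k'))
    (fun s _ ih c => Ds.casesOn s
      (fun ws c' => orbB nd ws (ws.map fun n => run nd.tab n nd.n0) &&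
        fnB nd.K c (fun k => if nth 0 nd.cod k ∈ ws.map fun n => run nd.tab n nd.n0 then 1 else 0) (nth 0 c') &&
        ih (nth 0 c'))
      (fun o g c' => Nat.blt o nd.cas.length && casB nd (nth ⟨[], [], [], []⟩ nd.cas o).lev c (nth 0 g) &&
        fnB nd.K c (nth 0 g) (nth 0 c') && ih (nth 0 c'))) pr

variable {I W : Type} [Fintype I] [DecidableEq I] [Group W] [Fintype W] {M : CoxeterMatrix I}
  {cs : CoxeterSystem M W} {A : I → I → ℤ} {h : IsCartan M A} {ψ : MulAut W} {nd : Nd} {em : ℕ → I} {J : Set I} {w : W}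

/-! ### class functions -/

variable (cs ψ nd em J w) in
/-- `f` is constant on conjugate representatives -/
def ClsF (f : ℕ → ℤ) : Prop :=
  ∀ k < nd.K, ∀ k' < nd.K, ∀ g ∈ WJ cs J, el cs nd em w k * ψ g = g * el cs nd em w k' → f k = f k'

theorem inv_el {y : W → ℂ} (hy : _root_.Cfsg.Agent.LV.W.Inv cs ψ J y) {a b g : W} (hg : g ∈ WJ cs J) (e : a * ψ g = g * b) : y a = y b := by
  have h1 := hy g hg (g⁻¹ * a)
  rwa [mul_inv_cancel_left, mul_assoc, e, inv_mul_cancel_left] at h1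

theorem ClsF.inv {f : ℕ → ℤ} (H : ClsF cs ψ nd em J w f) :
    ∃ y, _root_.Cfsg.Agent.LV.W.Inv cs ψ J y ∧ ∀ k < nd.K, y (el cs nd em w k) = f k := by
  classical
  let Y : (ℕ → Prop) → ℂ := fun p => if h : ∃ k, p k then f h.choose else 0
  refine ⟨_, inv_of (fun P => Y fun k => k < nd.K ∧ ∃ v ∈ WJ cs J, P v (el cs nd em w k)) fun P Q ⟨g, hg, e⟩ =>
    congrArg Y (funext fun k => propext (and_congr_right fun _ => ⟨fun ⟨v, h1, h2⟩ =>
      ⟨_, mul_mem (inv_mem hg) h1, (e _ _).1 h2⟩, fun ⟨v, h1, h2⟩ =>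
      ⟨_, mul_mem hg h1, (e _ _).2 (by rwa [inv_mul_cancel_left])⟩⟩)), fun k hk => ?_⟩
  have h1 : ∃ l, l < nd.K ∧ ∃ v ∈ WJ cs J, el cs nd em w k * ψ v = v * el cs nd em w l :=
    ⟨k, hk, 1, one_mem _, by rw [map_one, mul_one, one_mul]⟩
  obtain ⟨h2, v, h3, h4⟩ := h1.choose_spec
  exact (dif_pos h1).trans (congrArg _ (H k hk _ h2 v h3 h4).symm)

theorem ClsF.fn {c v c' : ℕ → ℤ} (H : ClsF cs ψ nd em J w c) (H' : ClsF cs ψ nd em J w v) (e : fnB nd.K c v c' = true) :
    ClsF cs ψ nd em J w c' := fun k hk k' hk' g hg h1 => by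
  simpa [H k hk k' hk' g hg h1, H' k hk k' hk' g hg h1] using allLt_iff.1 (allLt_iff.1 e k hk) k' hk'

theorem ClsF.cas (F : Fit cs h ψ nd.toTy em J w) (G : nd.Good) {c : Cs} (hc : c ∈ nd.cas) {f g : ℕ → ℤ}
    (H : ClsF cs ψ nd em J w f) (e : casB nd c.lev f g = true) : ClsF cs ψ nd em J w g := by
  obtain ⟨y, h1, h2⟩ := H.inv
  have h3 : ∀ k < nd.K, (g k : ℂ) = LV.T.cas cs (c.set em) y (el cs nd em w k) := fun k hk => by
    rw [(exists_rp G y).cas F G hc h1 k hk, G.exp (fun k => (g k : ℂ)) hk]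
    refine sum_congr rfl fun φ hφ => congrArg (· * _) ?_
    have h4 := congrArg (Int.cast : ℤ → ℂ) (of_decide_eq_true (allLt_iff.1 e φ (mem_range.1 hφ)))
    rw [sumLt_eq, sumLt_eq] at h4
    simp only [Nd.co]
    push_cast at h4 ⊢
    rw [h4, ← mul_div_assoc, sum_congr rfl fun k hk => by rw [← h2 k (mem_range.1 hk)]]
  exact fun k hk k' hk' v hv h4 => Int.cast_injective (α := ℂ)
    ((h3 k hk).trans ((inv_el (h1.cas (F.node G hc)) hv h4).trans (h3 k' hk').symm))

theorem cls_orb (F : Fit cs h ψ nd.toTy em J w) (G : nd.Good) {ws : List ℕ}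
    (e : orbB nd ws (ws.map fun n => run nd.tab n nd.n0) = true) :
    ClsF cs ψ nd em J w fun k => if nth 0 nd.cod k ∈ ws.map fun n => run nd.tab n nd.n0 then 1 else 0 := by
  have h1 : ∀ u ∈ WJ cs J, cd cs h nd.toTy em u ∈ ws.map (fun n => run nd.tab n nd.n0) ↔
      ∃ n ∈ ws, wd cs em nd.r n = u := fun u hu => List.mem_map.trans (exists_congr fun n => and_congr_right fun _ => by
    rw [F.run_one G.ok]
    exact ⟨F.cd_inj G.ok (F.wd_mem n) hu, congrArg _⟩)
  have h2 : ∀ g ∈ WJ cs J, ∀ n ∈ ws, ∃ n' ∈ ws, g * (wd cs em nd.r n * w) = wd cs em nd.r n' * w * ψ g := fun g hg => by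
    refine WJ_ind (P := fun g => ∀ n ∈ ws, ∃ n' ∈ ws, g * (wd cs em nd.r n * w) = wd cs em nd.r n' * w * ψ g)
      (fun n hn => ⟨n, hn, by rw [map_one, mul_one, one_mul]⟩) (fun i hi u _ ih n hn => ?_) hg
    obtain ⟨a, ha, rfl⟩ := (F.mem i).1 hi
    obtain ⟨n', h3, h4⟩ := ih n hn
    have h5 := of_decide_eq_true (allLt_iff.1 (List.all_eq_true.1 e n' h3) a ha)
    have h6 := simple_mem_WJ cs (F.em_mem (Ty.σ_lt G.ok ha))
    have h7 := mul_mem (F.wd_mem n') h6
    have h0 := F.step_simple G.ok (Ty.σ_lt G.ok ha) (one_mem _)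
    rw [cd_one G.ok, mul_one] at h0
    rw [h0, F.run_cd G.ok _ h6, F.step_simple G.ok ha h7] at h5
    obtain ⟨m, h8, h9⟩ := (h1 _ (mul_mem (simple_mem_WJ cs hi) h7)).1 h5
    refine ⟨m, h8, ?_⟩
    rw [mul_assoc, h4, h9, map_mul, ← mul_assoc _ (ψ _), mul_assoc _ w (ψ (cs.simple _)), F.tw a ha]
    simp only [mul_assoc, cs.simple_mul_simple_cancel_left]
  have h3 : ∀ k < nd.K, ∀ k' < nd.K, ∀ g ∈ WJ cs J, el cs nd em w k * ψ g = g * el cs nd em w k' →
      nth 0 nd.cod k' ∈ ws.map (fun n => run nd.tab n nd.n0) → nth 0 nd.cod k ∈ ws.map fun n => run nd.tab n nd.n0 :=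
    fun k hk k' hk' g hg h4 h5 => by
    rw [(G.spec.2.2.2.1 _ hk').1, F.run_one G.ok, h1 _ (F.wd_mem _)] at h5
    obtain ⟨n, h6, h7⟩ := h5
    obtain ⟨n', h8, h9⟩ := h2 g hg n h6
    rw [(G.spec.2.2.2.1 _ hk).1, F.run_one G.ok, h1 _ (F.wd_mem _)]
    exact ⟨n', h8, mul_right_cancel (mul_right_cancel (h9.symm.trans (h7 ▸ h4.symm)))⟩
  exact fun k hk k' hk' g hg h4 => if_congr ⟨h3 k' hk' k hk _ (inv_mem hg) (by
    rw [map_inv, mul_inv_eq_iff_eq_mul, mul_assoc, h4, inv_mul_cancel_left]), h3 k hk k' hk' g hg h4⟩ rfl rfl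

theorem goD_spec (F : Fit cs h ψ nd.toTy em J w) (G : nd.Good) (pr : List Ds) {c : ℕ → ℤ} (H : ClsF cs ψ nd em J w c)
    (e : goD nd pr c = true) : ClsF cs ψ nd em J w fun k => k := by
  induction pr generalizing c with
  | nil =>
    intro k hk k' hk' g hg h1
    simpa [H k hk k' hk' g hg h1] using allLt_iff.1 (allLt_iff.1 e k hk) k' hk'
  | cons s pr ih =>
    cases s with
    | orb ws c' =>
      obtain ⟨h1, h2⟩ := Bool.and_eq_true_iff.1 e
      obtain ⟨h1, h3⟩ := Bool.and_eq_true_iff.1 h1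
      exact ih (H.fn (cls_orb F G h1) h3) h2
    | cas o g c' =>
      obtain ⟨h1, h2⟩ := Bool.and_eq_true_iff.1 e
      obtain ⟨h1, h3⟩ := Bool.and_eq_true_iff.1 h1
      obtain ⟨h1, h4⟩ := Bool.and_eq_true_iff.1 h1
      refine ih (H.fn (H.cas F G ?_ h4) h3) h2
      rw [nth_eq, List.getD_eq_getElem _ _ (Nat.blt_eq.mp h1)]
      exact List.getElem_mem _

/-- **colour refinement** -/
theorem dist_of_chk (G : nd.Good) (pr : List Ds) (e : goD nd pr (fun _ => 0) = true) : Dist nd :=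
  fun F k hk k' hk' g hg h1 => Int.ofNat_inj.1 (goD_spec F G pr (fun _ _ _ _ _ _ _ => rfl) e k hk k' hk' g hg h1)

/-- representatives with the same column are equal -/
theorem col_inj (G : nd.Good) {k k' : ℕ} (hk : k < nd.K) (hk' : k' < nd.K) (e : ∀ φ < nd.K, nd.X φ k = nd.X φ k') :
    k = k' := by
  have h1 := G.exp (R := ℚ) (fun k => k) hk
  rw [sum_congr rfl fun φ hφ => by rw [e φ (mem_range.1 hφ)], ← G.exp (R := ℚ) (fun k => k) hk'] at h1
  exact_mod_cast h1

end Cfsg.Agent.MO.U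
end

-- part: MO/J/Cas
section
/-!
# MO-J: the sum of the reflections acts by the level (helper18)

`bCas : BCas`.  Cut and join on the group side, the operators `O c w` on functions of tuples, the vacuum lemma `Sys.vac`.
-/

set_option autoImplicit false
set_option linter.unusedSectionVars false

namespace Cfsg.Agent.MO.J

open Equiv Finset Function Cfsg.Agent.H614
open Cfsg.Agent.LV.Cl (SG On Stab cyc sw tt sgn)

namespace Cas

/-- the sum of two cycles -/
def ad (c d : Cy) : Cy := (c.1 + d.1, c.2 * d.2)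

/-- places for beads with their moves -/
structure Sys (Ω : Type) where
  pos : Ω → ℕ
  up : Cy → Ω → Ω
  dn : Cy → Ω → Ω
  pos_up : ∀ c a, pos (up c a) = pos a + c.1
  dn_up : ∀ c a, dn c (up c a) = a
  up_dn : ∀ c a, c.1 ≤ pos a → up c (dn c a) = a
  up_up : ∀ c d a, up c (up d a) = up (ad c d) a
  up_zero : ∀ a, up (0, 1) a = a
  tr : ∀ a b, pos a ≤ pos b → ∃ δ, up (pos b - pos a, δ) a = b
  fix : ∀ a b e, up (0, e) a = a → up (0, e) b = b

section Alt

variable {M : ℕ} {Ω : Type} [DecidableEq Ω]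

theorem pr_alt (α : Fin M → Ω) : AltT (pr α) := fun σ γ => by
  unfold pr
  rw [smul_sum]
  refine (Fintype.sum_equiv (Equiv.mulLeft σ) _ _ fun ρ => ?_)
  have h : (γ ∘ σ) ∘ ρ = γ ∘ (σ * ρ : Perm (Fin M)) := rfl
  rw [coe_mulLeft, h]
  split_ifs
  · rw [sg_mul, smul_eq_mul, ← mul_assoc, sg_mul_self, one_mul]
  · rw [smul_zero]

variable {Ψ : (Fin M → Ω) → ℤ}

theorem alt_swap (h : AltT Ψ) (γ : Fin M → Ω) {i j : Fin M} (hij : i ≠ j) (a b : Ω) :
    Ψ (update (update γ j a) i b) = -Ψ (update (update γ j b) i a) := by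
  have h1 : update (update γ j a) i b = update (update γ j b) i a ∘ swap i j := by
    funext k
    by_cases hi : k = i
    · subst hi; simp [hij.symm]
    · by_cases hj : k = j
      · subst hj; simp [hi]
      · simp [swap_apply_of_ne_of_ne hi hj, hi, hj]
  rw [h1, h]
  simp [sg, Perm.sign_swap hij]

theorem alt_zero (h : AltT Ψ) {γ : Fin M → Ω} {i j : Fin M} (hij : i ≠ j) (e : γ i = γ j) : Ψ γ = 0 := by
  have h1 := alt_swap h γ hij (γ j) (γ j)
  rw [update_eq_self, ← e, update_eq_self] at h1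
  omega

end Alt

namespace Sys

variable {M : ℕ} {Ω : Type} [DecidableEq Ω] (S : Sys Ω)

theorem pos_dn {c : Cy} {a : Ω} (h : c.1 ≤ S.pos a) : S.pos (S.dn c a) = S.pos a - c.1 := by
  have := S.pos_up c (S.dn c a)
  rw [S.up_dn c a h] at this
  omega

theorem dn_dn {c d : Cy} {a : Ω} (h : c.1 + d.1 ≤ S.pos a) : S.dn d (S.dn c a) = S.dn (ad c d) a := by
  have h1 : c.1 ≤ S.pos a := by omega
  have h2 : d.1 ≤ S.pos (S.dn c a) := by rw [S.pos_dn h1]; omega
  have h3 : S.up (ad c d) (S.dn d (S.dn c a)) = a := by rw [← S.up_up, S.up_dn _ _ h2, S.up_dn _ _ h1]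
  conv_rhs => rw [← h3, S.dn_up]

/-- one bead moves down, with the weight `w` of its new position -/
def O (c : Cy) (w : ℕ → ℤ) : ((Fin M → Ω) → ℤ) →ₗ[ℤ] ((Fin M → Ω) → ℤ) where
  toFun Φ τ := ∑ j, if c.1 ≤ S.pos (τ j) then w (S.pos (τ j) - c.1) * Φ (update τ j (S.dn c (τ j))) else 0
  map_add' Φ Φ' := by
    funext τ
    rw [Pi.add_apply, ← sum_add_distrib]
    refine sum_congr rfl fun j _ => ?_
    split_ifs <;> simp [mul_add]
  map_smul' a Φ := by
    funext τ
    rw [Pi.smul_apply, RingHom.id_apply, smul_sum]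
    refine sum_congr rfl fun j _ => ?_
    split_ifs
    · simp only [Pi.smul_apply, smul_eq_mul]; ring
    · simp

theorem O_apply (c : Cy) (w : ℕ → ℤ) (Φ : (Fin M → Ω) → ℤ) (τ : Fin M → Ω) : S.O c w Φ τ =
    ∑ j, if c.1 ≤ S.pos (τ j) then w (S.pos (τ j) - c.1) * Φ (update τ j (S.dn c (τ j))) else 0 := rfl

/-- the adjoint -/
theorem O_pr (c : Cy) (w : ℕ → ℤ) (γ : Fin M → Ω) :
    S.O c w (fun τ => pr τ γ) = ∑ j, w (S.pos (γ j)) • fun τ => pr τ (update γ j (S.up c (γ j))) := by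
  funext τ
  rw [O_apply, Finset.sum_apply]
  simp only [Pi.smul_apply, smul_eq_mul, pr, mul_sum]
  have h1 : ∀ j, (if c.1 ≤ S.pos (τ j) then ∑ σ : Perm (Fin M), w (S.pos (τ j) - c.1) *
      (if update τ j (S.dn c (τ j)) = γ ∘ σ then sg σ else 0) else 0) = ∑ σ : Perm (Fin M), w (S.pos (γ (σ j))) *
      (if τ = update γ (σ j) (S.up c (γ (σ j))) ∘ σ then sg σ else 0) := fun j => by
    have h2 : ∀ σ : Perm (Fin M), update γ (σ j) (S.up c (γ (σ j))) ∘ σ = update (γ ∘ σ) j (S.up c (γ (σ j))) := fun σ =>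
      update_comp_eq_of_injective _ σ.injective _ _
    split_ifs with h
    · refine sum_congr rfl fun σ _ => ?_
      rw [h2]
      by_cases h3 : update τ j (S.dn c (τ j)) = γ ∘ σ
      · have h4 : γ (σ j) = S.dn c (τ j) := by rw [← comp_apply (f := γ), ← h3, update_self]
        rw [if_pos h3, if_pos (by rw [← h3, update_idem, h4, S.up_dn _ _ h, update_eq_self]), h4, S.pos_dn h]
      · rw [if_neg h3, if_neg, mul_zero, mul_zero]
        intro h4
        refine h3 ?_
        have h5 : τ j = S.up c (γ (σ j)) := by rw [h4, update_self]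
        rw [h5, S.dn_up]
        conv_lhs => rw [h4, update_idem]
        exact update_eq_self j (γ ∘ σ)
    · refine (sum_eq_zero fun σ _ => ?_).symm
      rw [h2, if_neg, mul_zero]
      intro h4
      refine h ?_
      have h5 : τ j = S.up c (γ (σ j)) := by rw [h4, update_self]
      rw [h5, S.pos_up]
      omega
  rw [sum_congr rfl fun j _ => h1 j, sum_comm, sum_comm (γ := Fin M) (s := univ)]
  exact sum_congr rfl fun σ _ => Equiv.sum_comp σ fun j => w (S.pos (γ j)) *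
    (if τ = update γ j (S.up c (γ j)) ∘ σ then sg σ else 0)

/-- the commutator with a move without weight -/
theorem O_comm (c d : Cy) (w : ℕ → ℤ) (Φ : (Fin M → Ω) → ℤ) :
    S.O c w (S.O d 1 Φ) = S.O d 1 (S.O c w Φ) + S.O (ad c d) (fun x => w (x + d.1) - w x) Φ := by
  funext τ
  have key : ∀ (c d : Cy) (w w' : ℕ → ℤ), S.O c w (S.O d w' Φ) τ = S.O (ad c d) (fun x => w (x + d.1) * w' x) Φ τ +
      ∑ j, ∑ i, if i ≠ j ∧ c.1 ≤ S.pos (τ j) ∧ d.1 ≤ S.pos (τ i) then w (S.pos (τ j) - c.1) * w' (S.pos (τ i) - d.1) *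
        Φ (update (update τ j (S.dn c (τ j))) i (S.dn d (τ i))) else 0 := by
    intro c d w w'
    rw [O_apply, O_apply, ← sum_add_distrib]
    refine sum_congr rfl fun j _ => ?_
    by_cases h : c.1 ≤ S.pos (τ j)
    · rw [if_pos h, O_apply, mul_sum, ← add_sum_erase _ _ (mem_univ j), ← add_sum_erase (a := j) _ _ (mem_univ j), if_neg (c := j ≠ j ∧ _) (by simp only [ne_eq, not_true_eq_false, false_and, not_false_eq_true]),
        zero_add, update_self, update_idem, S.pos_dn h]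
      congr 1
      · by_cases h' : (ad c d).1 ≤ S.pos (τ j)
        · have h2 : c.1 + d.1 ≤ S.pos (τ j) := h'
          rw [if_pos h', if_pos (by omega), S.dn_dn h2, ← mul_assoc]
          congr 3 <;> simp only [ad] <;> omega
        · have h2 : ¬ c.1 + d.1 ≤ S.pos (τ j) := h'
          rw [if_neg h', if_neg (by omega), mul_zero]
      · refine sum_congr rfl fun i hi => ?_
        have hi' := ne_of_mem_erase hi
        rw [update_of_ne hi']
        by_cases h' : d.1 ≤ S.pos (τ i)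
        · rw [if_pos h', if_pos ⟨hi', h, h'⟩, mul_assoc]
        · rw [if_neg h', if_neg (by tauto), mul_zero]
    · have h2 : ¬ (ad c d).1 ≤ S.pos (τ j) := fun e => h (le_trans (Nat.le_add_right _ _) e)
      rw [if_neg h, if_neg h2, zero_add, sum_eq_zero fun i _ => if_neg (by tauto)]
  have h1 : ad d c = ad c d := by simp [ad, add_comm, mul_comm]
  rw [Pi.add_apply, key, key, h1, sum_comm, add_right_comm]
  congr 1
  · rw [O_apply, O_apply, O_apply, ← sum_add_distrib]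
    refine sum_congr rfl fun j _ => ?_
    split_ifs
    · simp only [Pi.one_apply]; ring
    · simp
  · refine sum_congr rfl fun i _ => sum_congr rfl fun j _ => ?_
    by_cases h : i ≠ j ∧ c.1 ≤ S.pos (τ j) ∧ d.1 ≤ S.pos (τ i)
    · rw [if_pos h, if_pos ⟨h.1.symm, h.2.2, h.2.1⟩, update_comm h.1.symm, mul_comm (w _)]
    · rw [if_neg h, if_neg fun e => h ⟨e.1.symm, e.2.2, e.2.1⟩]

/-- two beads move up -/
theorem pair {Ψ : (Fin M → Ω) → ℤ} (h : AltT Ψ) {γ : Fin M → Ω} (hγ : ∀ j a, S.pos a < S.pos (γ j) → ∃ l, γ l = a) {i j : Fin M}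
    (hij : i ≠ j) (hle : S.pos (γ i) ≤ S.pos (γ j)) (c : Cy) :
    ∑ a ∈ range (c.1 + 1), ∑ e : ℤˣ, Ψ (update (update γ j (S.up (c.1 - a, e * c.2) (γ j))) i (S.up (a, e) (γ i))) =
      if S.pos (γ i) < S.pos (γ j) then
        ∑ e : ℤˣ, if S.up (0, e) (γ i) = γ i then Ψ (update γ j (S.up (c.1, e * c.2) (γ j))) else 0 else 0 := by
  obtain ⟨δ, hδ⟩ := S.tr _ _ hle
  set d := S.pos (γ j) - S.pos (γ i) with hd
  set! f : ℕ → ℤˣ → ℤ := fun a e => Ψ (update (update γ j (S.up (c.1 - a, e * c.2) (γ j))) i (S.up (a, e) (γ i))) with hf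
  have h1 : ∑ a ∈ range (c.1 + 1) with d ≤ a, ∑ e, f a e = 0 := by
    have h2 : ∑ a ∈ range (c.1 + 1) with d ≤ a, ∑ e, f a e = ∑ a ∈ range (c.1 + 1) with d ≤ a, -∑ e, f a e := by
      refine sum_nbij' (fun a => c.1 + d - a) (fun a => c.1 + d - a) ?_ ?_ ?_ ?_ ?_
      · intro a ha; simp only [mem_filter, mem_range] at ha ⊢; omega
      · intro a ha; simp only [mem_filter, mem_range] at ha ⊢; omega
      · intro a ha; simp only [mem_filter, mem_range] at ha ⊢; omega
      · intro a ha; simp only [mem_filter, mem_range] at ha ⊢; omega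
      · intro a ha
        simp only [mem_filter, mem_range] at ha
        rw [← sum_neg_distrib]
        refine Fintype.sum_equiv (Equiv.mulRight (c.2 * δ)) _ _ fun e => ?_
        simp only [hf, coe_mulRight]
        have e1 : ad (c.1 - a, e * c.2) (d, δ) = (c.1 + d - a, e * (c.2 * δ)) :=
          Prod.ext (by simp only [ad]; (clear * - ha; omega)) (mul_assoc _ _ _)
        have e2 : ad (c.1 - (c.1 + d - a), e * (c.2 * δ) * c.2) (d, δ) = (a, e) := Prod.ext (by simp only [ad]; omega) (by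
          simp only [ad]
          rw [mul_assoc, mul_assoc, Int.units_mul_self, mul_one])
        rw [alt_swap h γ hij, ← hδ, S.up_up, S.up_up, e1, e2]
    rw [sum_neg_distrib] at h2
    omega
  have h3 : ∀ a e, a < d → S.up (a, e) (γ i) ≠ γ i → f a e = 0 := fun a e ha hne => by
    obtain ⟨l, hl⟩ := hγ j (S.up (a, e) (γ i)) (by rw [S.pos_up]; omega)
    have hli : l ≠ i := fun e => hne (by rw [← hl, e])
    have hlj : l ≠ j := fun e' => by
      have := congrArg S.pos hl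
      rw [S.pos_up, e'] at this
      omega
    exact alt_zero h hli (by rw [update_of_ne hli, update_of_ne hlj, update_self, hl])
  change ∑ a ∈ range (c.1 + 1), ∑ e, f a e = _
  rw [← sum_filter_add_sum_filter_not _ (fun a => d ≤ a), h1, zero_add]
  split_ifs with hlt
  · rw [sum_eq_single_of_mem 0 (by simp only [mem_filter, mem_range]; omega)]
    · refine sum_congr rfl fun e _ => ?_
      split_ifs with he
      · simp only [hf]
        rw [he, Nat.sub_zero, update_comm hij.symm, update_eq_self]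
      · exact h3 0 e (by omega) he
    · intro a ha ha0
      simp only [mem_filter, mem_range] at ha
      refine sum_eq_zero fun e _ => h3 a e (by omega) fun e' => ?_
      have := congrArg S.pos e'
      rw [S.pos_up] at this
      omega
  · refine sum_eq_zero fun a ha => ?_
    simp only [mem_filter, mem_range] at ha
    omega

/-- the tuples of a vacuum -/
structure Vac (γ : Fin M → Ω) : Prop where
  full : ∀ j a, S.pos a < S.pos (γ j) → ∃ l, γ l = a
  cnt : ∀ j, ∑ i, (if S.pos (γ i) < S.pos (γ j) then ∑ e : ℤˣ, if S.up (0, e) (γ i) = γ i then (1 : ℤ) else 0 else 0) = 2 * S.pos (γ j)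

theorem O_lin (c : Cy) (α β : ℤ) (Φ : (Fin M → Ω) → ℤ) :
    S.O c (fun x => α * x + β) Φ = α • S.O c (fun x => x) Φ + β • S.O c 1 Φ := by
  funext τ
  simp only [Pi.add_apply, Pi.smul_apply, O_apply, smul_eq_mul, mul_sum, ← sum_add_distrib]
  refine sum_congr rfl fun j _ => ?_
  split_ifs
  · simp only [Pi.one_apply]; ring
  · simp

/-- **the vacuum lemma** -/
theorem vac {γ : Fin M → Ω} (hγ : S.Vac γ) (c : Cy) :
    ∑ a ∈ range (c.1 + 1), ∑ e : ℤˣ, S.O (a, e) 1 (S.O (c.1 - a, e * c.2) 1 fun τ => pr τ γ) =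
      (2 * (c.1 + 1) : ℤ) • S.O c 1 (fun τ => pr τ γ) + (4 : ℤ) • S.O c (fun x => x) fun τ => pr τ γ := by
  simp only [O_pr, map_sum, Pi.one_apply, one_smul]
  funext τ
  simp only [Finset.sum_apply, Pi.add_apply, Pi.smul_apply, smul_eq_mul]
  have h := pr_alt τ
  generalize pr τ = Ψ at h
  set Z : Fin M → ℤ := fun j => Ψ (update γ j (S.up c (γ j))) with hZ
  set! N : Fin M → ℤ := fun i => ∑ e : ℤˣ, if S.up (0, e) (γ i) = γ i then 1 else 0 with hN
  set! T : Fin M → Fin M → ℤ := fun i j => ∑ a ∈ range (c.1 + 1), ∑ e : ℤˣ,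
    Ψ (update (update γ j (S.up (c.1 - a, e * c.2) (γ j))) i (S.up (a, e) (update γ j (S.up (c.1 - a, e * c.2) (γ j)) i))) with hT
  have h1 : ∀ j, T j j = 2 * (c.1 + 1) * Z j := fun j => by
    have h2 : ∀ a ∈ range (c.1 + 1), ∀ e : ℤˣ, ad (a, e) (c.1 - a, e * c.2) = c := fun a ha e =>
      Prod.ext (by have := mem_range.1 ha; simp only [ad]; omega) (by simp only [ad]; rw [← mul_assoc, Int.units_mul_self, one_mul])
    simp only [hT, update_self, update_idem, S.up_up]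
    rw [sum_congr rfl fun a ha => sum_congr rfl fun e _ => by rw [h2 a ha e]]
    simp only [sum_const, card_univ, Fintype.card_units_int, card_range, nsmul_eq_mul, hZ]
    push_cast
    ring
  have h2 : ∀ i j, i ≠ j → S.pos (γ i) ≤ S.pos (γ j) → T i j = if S.pos (γ i) < S.pos (γ j) then N i * Z j else 0 := fun i j hij hle => by
    simp only [hT, update_of_ne hij]
    rw [S.pair h hγ.full hij hle]
    refine if_congr Iff.rfl ?_ rfl
    simp only [hN, sum_mul]
    refine sum_congr rfl fun e _ => ?_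
    split_ifs with he
    · have h3 : (c.1, e * c.2) = ad c (0, e) := Prod.ext rfl (mul_comm _ _)
      rw [one_mul, h3, ← S.up_up, S.fix _ _ _ he]
    · rw [zero_mul]
  have h3 : ∀ i j, i ≠ j → T i j = T j i := fun i j hij => by
    simp only [hT, update_of_ne hij, update_of_ne hij.symm]
    rw [← sum_range_reflect]
    refine sum_congr rfl fun a ha => Fintype.sum_equiv (Equiv.mulRight c.2) _ _ fun e => ?_
    have h4 := mem_range.1 ha
    rw [update_comm hij.symm, coe_mulRight, mul_assoc, Int.units_mul_self, mul_one, show c.1 + 1 - 1 - a = c.1 - a by (clear * - h4; omega),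
      show c.1 - (c.1 - a) = a by (clear * - h4; omega)]
  have h4 : ∀ i j, T i j = (if i = j then 2 * (c.1 + 1) * Z j else 0) + (if S.pos (γ i) < S.pos (γ j) then N i * Z j else 0) +
      if S.pos (γ j) < S.pos (γ i) then N j * Z i else 0 := fun i j => by
    by_cases hij : i = j
    · subst hij; simp [h1]
    · rw [if_neg hij, zero_add]
      rcases le_total (S.pos (γ i)) (S.pos (γ j)) with hle | hle
      · rw [h2 i j hij hle, if_neg hle.not_gt, add_zero]
      · rw [h3 i j hij, h2 j i (Ne.symm hij) hle, if_neg hle.not_gt, zero_add]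
  have h5 : ∑ j, ∑ i, (if S.pos (γ i) < S.pos (γ j) then N i * Z j else 0) = 2 * ∑ j, S.pos (γ j) * Z j := by
    rw [mul_sum]
    refine sum_congr rfl fun j _ => ?_
    rw [← mul_assoc, ← hγ.cnt j, sum_mul]
    exact sum_congr rfl fun i _ => by rw [ite_mul, zero_mul]
  calc _ = ∑ j, ∑ i, T i j := by
        simp only [hT]
        rw [sum_congr rfl fun a _ => sum_comm, sum_comm]
        refine sum_congr rfl fun j _ => ?_
        rw [sum_congr rfl fun a _ => sum_comm, sum_comm]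
    _ = _ := by
        simp only [h4, sum_add_distrib, sum_ite_eq', mem_univ, if_true]
        rw [h5, sum_comm, h5, ← mul_sum]
        ring

theorem O_zero (Φ : (Fin M → Ω) → ℤ) : S.O (0, 1) 1 Φ = (M : ℤ) • Φ := by
  funext τ
  have h : ∀ a, S.dn (0, 1) a = a := fun a => by conv_lhs => rw [← S.up_zero a, S.dn_up]
  simp only [O_apply, zero_le, ↓reduceIte, Pi.one_apply, h, update_eq_self, one_mul, sum_const, card_univ, Fintype.card_fin, Int.nsmul_eq_mul, Pi.smul_apply, Int.zsmul_eq_mul]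

theorem P_comm (c d : Cy) (Φ : (Fin M → Ω) → ℤ) : S.O c 1 (S.O d 1 Φ) = S.O d 1 (S.O c 1 Φ) := by
  rw [O_comm]
  have := S.O_lin (ad c d) 0 0 Φ
  simp only [zero_mul, zero_add, zero_smul] at this
  simp only [Pi.one_apply, sub_self, this, add_zero]

/-- the multiplication by the level -/
def E (m c0 : ℤ) : ((Fin M → Ω) → ℤ) →ₗ[ℤ] ((Fin M → Ω) → ℤ) :=
  LinearMap.mulLeft ℤ fun τ => ∑ j, ((S.pos (τ j) : ℤ) ^ 2 - m * S.pos (τ j)) + c0

theorem E_apply (m c0 : ℤ) (Φ : (Fin M → Ω) → ℤ) (τ : Fin M → Ω) :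
    S.E m c0 Φ τ = (∑ j, ((S.pos (τ j) : ℤ) ^ 2 - m * S.pos (τ j)) + c0) * Φ τ := rfl

theorem E_P (m c0 : ℤ) (c : Cy) (Φ : (Fin M → Ω) → ℤ) :
    S.E m c0 (S.O c 1 Φ) = S.O c 1 (S.E m c0 Φ) + S.O c (fun x => 2 * c.1 * x + (c.1 ^ 2 - m * c.1)) Φ := by
  funext τ
  rw [Pi.add_apply, E_apply, O_apply, O_apply, O_apply, mul_sum, ← sum_add_distrib]
  refine sum_congr rfl fun j _ => ?_
  split_ifs with h
  · have h1 : ∀ a, ∑ i ∈ univ.erase j, ((S.pos (update τ j a i) : ℤ) ^ 2 - m * S.pos (update τ j a i)) =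
        ∑ i ∈ univ.erase j, ((S.pos (τ i) : ℤ) ^ 2 - m * S.pos (τ i)) := fun a =>
      sum_congr rfl fun i hi => by rw [update_of_ne (ne_of_mem_erase hi)]
    rw [E_apply, ← add_sum_erase _ _ (mem_univ j), ← add_sum_erase (a := j) _ _ (mem_univ j), update_self, S.pos_dn h, h1]
    simp only [Pi.one_apply]
    push_cast [h]
    ring
  · simp only [sum_sub_distrib, mul_zero, add_zero]

theorem E_pr (m : ℤ) {c0 : ℤ} (γ : Fin M → Ω) (h : ∑ j, ((S.pos (γ j) : ℤ) ^ 2 - m * S.pos (γ j)) + c0 = 0) :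
    S.E m c0 (fun τ => pr τ γ) = 0 := by
  funext τ
  rw [E_apply, pr, mul_sum]
  refine sum_eq_zero fun σ _ => ?_
  split_ifs with e
  · rw [e]
    simp only [comp_apply]
    rw [Equiv.sum_comp σ fun j => (S.pos (γ j) : ℤ) ^ 2 - m * S.pos (γ j), h, zero_mul]
  · rw [mul_zero]

end Sys

/-! ### cut and join -/

section Grp

open Cfsg.Agent.LV.Cl.Cj

variable {n : ℕ} {π : Perm (Fin n)} {x y : Fin n} {g g' : SG n} {T : Finset (Fin n)}

/-- the signed cycle through `x` -/
noncomputable def cy (g : SG n) (x : Fin n) : Cy := (#(cyc g.π x), ∏ j ∈ cyc g.π x, g.s j)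

theorem step (hx : x ∈ T) : sty T g = cy g x ::ₘ sty (T \ cyc g.π x) g := by
  have h1 : T.image (cyc g.π) = insert (cyc g.π x) ((T \ cyc g.π x).image (cyc g.π)) := by
    ext C
    simp only [mem_image, mem_insert, mem_sdiff]
    refine ⟨fun ⟨z, hz, e⟩ => ?_, ?_⟩
    · by_cases h : z ∈ cyc g.π x
      · exact Or.inl (by rw [← e, cyc_eq h])
      · exact Or.inr ⟨z, ⟨hz, h⟩, e⟩
    · rintro (rfl | ⟨z, hz, e⟩)
      · exact ⟨x, hx, rfl⟩
      · exact ⟨z, hz.1, e⟩
  have h2 : cyc g.π x ∉ (T \ cyc g.π x).image (cyc g.π) := fun h => by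
    obtain ⟨z, hz, e⟩ := mem_image.1 h
    exact (mem_sdiff.1 hz).2 (e ▸ self_mem _ z)
  rw [sty, h1, insert_val_of_notMem h2, Multiset.map_cons]
  rfl

theorem cy_congr (h : ∀ j ∈ cyc g.π x, g'.π j = g.π j ∧ g'.s j = g.s j) : cy g' x = cy g x := by
  rw [cy, cy, cyc_congr fun j hj => (h j hj).1, prod_congr rfl fun j hj => (h j hj).2]

theorem sty_congr (hT : Stab T g.π) (h : ∀ j ∈ T, g'.π j = g.π j ∧ g'.s j = g.s j) : sty T g' = sty T g := by
  have h1 : ∀ z ∈ T, cyc g'.π z = cyc g.π z := fun z hz => cyc_congr fun j hj => (h j (cyc_subset hT hz hj)).1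
  rw [sty, sty, image_congr (g := cyc g.π) fun z hz => h1 z hz]
  refine Multiset.map_congr rfl fun C hC => ?_
  obtain ⟨z, hz, rfl⟩ := mem_image.1 hC
  rw [prod_congr rfl fun j hj => (h j (cyc_subset hT hz hj)).2]

theorem cy_eq (h : y ∈ cyc g.π x) : cy g y = cy g x := by rw [cy, cyc_eq h, cy]

theorem stab_swap {A : Finset (Fin n)} (h : x ∈ A ↔ y ∈ A) : Stab A (_root_.Equiv.swap x y) := fun z => by
  rw [swap_apply_def]
  split_ifs with h1 h2
  · rw [h1, h]
  · rw [h2, h]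
  · rfl

theorem stab_mul {A : Finset (Fin n)} {σ : Perm (Fin n)} (h : Stab A σ) (h' : Stab A π) : Stab A (σ * π) := fun z => by
  rw [Perm.mul_apply, h, h']

theorem agree {A : Finset (Fin n)} {h : SG n} (hh : h ∈ On A) (hT : Stab T g.π) (hd : Disjoint T A) :
    ∀ j ∈ T, (h * g).π j = g.π j ∧ (h * g).s j = g.s j := fun j hj => by
  have h1 := hh _ (disjoint_left.1 hd ((hT j).2 hj))
  rw [LV.Cl.mul_π, LV.Cl.mul_s, Perm.mul_apply, h1.1, h1.2, one_mul]
  exact ⟨rfl, rfl⟩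

theorem sw_on {A : Finset (Fin n)} (hx : x ∈ A) (hy : y ∈ A) (e : ℤˣ) : sw x y e ∈ On A := fun j hj => by
  have h1 : j ≠ x := fun e => hj (e ▸ hx)
  have h2 : j ≠ y := fun e => hj (e ▸ hy)
  exact ⟨swap_apply_of_ne_of_ne h1 h2, if_neg (by tauto)⟩

theorem tt_on {A : Finset (Fin n)} (hx : x ∈ A) : tt x ∈ On A := fun j hj => ⟨rfl, if_neg fun e : j = x => hj (e ▸ hx)⟩

theorem prod_mul {A : Finset (Fin n)} (h : SG n) (hA : Stab A g.π) : ∏ j ∈ A, (h * g).s j = (∏ j ∈ A, h.s j) * ∏ j ∈ A, g.s j := by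
  simp only [LV.Cl.mul_s, prod_mul_distrib, prod_stab hA h.s]

theorem prod_tt (A : Finset (Fin n)) (x : Fin n) : ∏ j ∈ A, (tt x).s j = if x ∈ A then -1 else 1 :=
  prod_ite_eq' A x fun _ => (-1 : ℤˣ)

theorem prod_sw {A : Finset (Fin n)} (hxy : x ≠ y) (e : ℤˣ) :
    ∏ j ∈ A, (sw x y e).s j = (if x ∈ A then e else 1) * if y ∈ A then e else 1 := by
  rw [← prod_ite_eq' A x fun _ => e, ← prod_ite_eq' A y fun _ => e, ← prod_mul_distrib]
  refine prod_congr rfl fun j _ => ?_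
  by_cases h3 : j = x <;> by_cases h4 : j = y <;> simp_all only [ne_eq, sw, swap_self, or_self, ↓reduceIte, Int.units_mul_self, not_true_eq_false, not_false_eq_true, or_false, mul_one, or_true, one_mul]

/-- join -/
theorem cyc_join (h : y ∉ cyc π x) : cyc (_root_.Equiv.swap x y * π) x = cyc π x ∪ cyc π y := by
  have hu : Stab (cyc π x ∪ cyc π y) π := fun z => by rw [mem_union, mem_union, stab_cyc, stab_cyc]
  have hx : x ∈ cyc π x ∪ cyc π y := mem_union_left _ (self_mem _ _)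
  refine Subset.antisymm (cyc_subset (stab_mul (stab_swap (iff_of_true hx (mem_union_right _ (self_mem _ _)))) hu) hx) ?_
  set A := cyc (_root_.Equiv.swap x y * π) x with hA
  have h1 : Stab A (_root_.Equiv.swap x y * π) := stab_cyc _ _
  have h2 : x ∈ A := self_mem _ _
  have h3 : y ∈ A := by
    by_contra h3
    have h4 : ∀ i : ℕ, (π⁻¹ ^ (i + 1)) y ∈ A := fun i => by
      induction i with
      | zero => rw [← h1, zero_add, pow_one, Perm.mul_apply, self_inv, swap_apply_right]; exact h2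
      | succ i ih =>
        rw [← h1, pow_succ', Perm.mul_apply, Perm.mul_apply, self_inv, swap_apply_of_ne_of_ne]
        · exact ih
        · intro e
          refine h ?_
          rw [← stab_pow (stab_inv (stab_cyc π x)) (i + 1), e]
          exact self_mem _ _
        · exact fun e => h3 (e ▸ ih)
    have h5 := h4 (#(cyc π⁻¹ y) - 1)
    rw [Nat.sub_add_cancel (card_pos.2 ⟨y, self_mem _ _⟩), pow_card] at h5
    exact h3 h5
  have h6 : Stab A π := by
    have := stab_mul (stab_swap (iff_of_true h2 h3)) h1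
    rwa [← mul_assoc, swap_mul_self, one_mul] at this
  exact union_subset (cyc_subset h6 h2) (cyc_subset h6 h3)

theorem disj (h : y ∉ cyc π x) : Disjoint (cyc π x) (cyc π y) :=
  disjoint_left.2 fun z h1 h2 => h (by rw [← cyc_eq h1, cyc_eq h2]; exact self_mem _ _)

theorem sty_join (hT : Stab T g.π) (hx : x ∈ T) (h : y ∉ cyc g.π x) (e : ℤˣ) :
    sty T (sw x y e * g) = ad (cy g x) (cy g y) ::ₘ sty ((T \ cyc g.π x) \ cyc g.π y) g := by
  have h1 : cyc (sw x y e * g).π x = cyc g.π x ∪ cyc g.π y := cyc_join h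
  have hu : Stab (cyc g.π x ∪ cyc g.π y) g.π := fun z => by rw [mem_union, mem_union, stab_cyc, stab_cyc]
  have hx' : x ∈ cyc g.π x ∪ cyc g.π y := mem_union_left _ (self_mem _ _)
  have hy' : y ∈ cyc g.π x ∪ cyc g.π y := mem_union_right _ (self_mem _ _)
  have hxy : x ≠ y := fun e => h (e ▸ self_mem _ _)
  rw [step hx, h1, sdiff_sdiff, sup_eq_union, sty_congr (stab_sdiff hT hu) (agree (sw_on hx' hy' e) (stab_sdiff hT hu) sdiff_disjoint), cy, h1,
    prod_mul _ hu, prod_sw hxy, if_pos hx', if_pos hy', Int.units_mul_self, one_mul, card_union_of_disjoint (disj h), prod_union (disj h)]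
  rfl

/-- cut -/
theorem cyc_cut {a : ℕ} (ha : 0 < a) (ha' : a < #(cyc π x)) :
    #(cyc (_root_.Equiv.swap x ((π ^ a) x) * π) x) = a ∧ (π ^ a) x ∉ cyc (_root_.Equiv.swap x ((π ^ a) x) * π) x := by
  set π' := _root_.Equiv.swap x ((π ^ a) x) * π with hπ
  have hne : ∀ i j, i < j → j < #(cyc π x) → (π ^ i) x ≠ (π ^ j) x := fun i j h1 h2 e => by
    have := Nat.ModEq.eq_of_lt_of_lt (pow_eq_iff.1 e) (h1.trans h2) h2
    omega
  have h1 : ∀ i < a, (π' ^ i) x = (π ^ i) x := fun i => by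
    induction i with
    | zero => exact fun _ => rfl
    | succ i ih =>
      intro hi
      rw [pow_succ', Perm.mul_apply, ih (by omega), hπ, Perm.mul_apply, ← Perm.mul_apply π, ← pow_succ',
        swap_apply_of_ne_of_ne (a := x) (hne 0 (i + 1) (by omega) (by omega)).symm (hne _ _ hi ha')]
  have h2 : (π' ^ a) x = (π' ^ 0) x := by
    obtain ⟨b, rfl⟩ : ∃ b, a = b + 1 := ⟨a - 1, by omega⟩
    rw [pow_succ', Perm.mul_apply, h1 b (by omega), hπ, Perm.mul_apply, ← Perm.mul_apply π, ← pow_succ', swap_apply_right]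
    rfl
  have h3 : #(cyc π' x) = a := by
    have h4 : #(cyc π' x) ≤ a := Nat.le_of_dvd ha ((Nat.modEq_zero_iff_dvd).1 (pow_eq_iff.1 h2))
    refine h4.antisymm (not_lt.1 fun h5 => ?_)
    exact hne 0 _ (card_pos.2 ⟨x, self_mem _ _⟩) (h5.trans ha') (by rw [← h1 _ h5, pow_card]; rfl)
  refine ⟨h3, fun h4 => ?_⟩
  rw [cyc_image, ← card_cyc, h3] at h4
  obtain ⟨i, hi, e⟩ := mem_image.1 h4
  exact hne i a (mem_range.1 hi) ha' (by rw [← h1 i (mem_range.1 hi), e])

theorem sty_cut (hx : x ∈ T) (hT : Stab T g.π) {a : ℕ} (ha : 0 < a) (ha' : a < (cy g x).1) : ∃ σ : ℤˣ, ∀ e : ℤˣ,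
    sty T (sw x ((g.π ^ a) x) e * g) = (a, e * σ) ::ₘ ((cy g x).1 - a, e * σ * (cy g x).2) ::ₘ sty (T \ cyc g.π x) g := by
  change a < #(cyc g.π x) at ha'
  set y := (g.π ^ a) x with hy
  obtain ⟨h1, h2⟩ := cyc_cut ha ha'
  rw [← hy] at h1 h2
  set π' := _root_.Equiv.swap x y * g.π with hπ
  have hyx : y ∈ cyc g.π x := pow_mem_cyc _ _ _
  have h3 : #(cyc π' y) = #(cyc g.π x) - a := by
    have h4 : (g.π ^ (#(cyc g.π x) - a)) y = x := by
      rw [hy, ← Perm.mul_apply, ← pow_add, Nat.sub_add_cancel (le_of_lt ha'), pow_card]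
    have h5 := (cyc_cut (π := g.π) (x := y) (a := #(cyc g.π x) - a) (Nat.sub_pos_of_lt ha') (by
      rw [cyc_eq hyx]; exact Nat.sub_lt (ha.trans ha') ha)).1
    rwa [h4, swap_comm] at h5
  have hC : Stab (cyc g.π x) π' := stab_mul (stab_swap (iff_of_true (self_mem _ _) hyx)) (stab_cyc _ _)
  have h4 : cyc π' x ∪ cyc π' y = cyc g.π x := eq_of_subset_of_card_le
    (union_subset (cyc_subset hC (self_mem _ _)) (cyc_subset hC hyx)) (by
      rw [card_union_of_disjoint (disj h2), h1, h3]; omega)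
  have hxy : x ≠ y := fun e => h2 (e ▸ self_mem _ _)
  have hyT : y ∈ T \ cyc π' x := mem_sdiff.2 ⟨cyc_subset hT hx hyx, h2⟩
  have hsw : ∀ e, sw x y e * g = (⟨1, (sw x y e).s⟩ : SG n) * (sw x y 1 * g) := fun e =>
    LV.Cl.SG.ext (one_mul _).symm (funext fun j => by simp only [sw, LV.Cl.mul_s, ite_mul, one_mul, ite_self, LV.Cl.mul_π, Perm.coe_mul, comp_apply, swap_apply_eq_iff, swap_apply_left, swap_apply_right, or_comm])
  have h5 : ∀ e, ∏ j ∈ cyc π' x, (sw x y e * g).s j = e * ∏ j ∈ cyc π' x, (sw x y 1 * g).s j := fun e => by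
    rw [hsw, prod_mul (g := sw x y 1 * g) _ (stab_cyc π' x), prod_sw hxy, if_pos (self_mem _ _), if_neg h2, mul_one]
  refine ⟨∏ j ∈ cyc π' x, (sw x y 1 * g).s j, fun e => ?_⟩
  have h6 : (sw x y e * g).π = π' := rfl
  have h7 : ∏ j ∈ cyc π' y, (sw x y e * g).s j = (∏ j ∈ cyc π' x, (sw x y e * g).s j) * ∏ j ∈ cyc g.π x, g.s j := by
    have h8 := prod_mul (sw x y e) (stab_cyc g.π x)
    rw [prod_sw hxy, if_pos (self_mem _ _), if_pos hyx, Int.units_mul_self, one_mul] at h8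
    rw [← h8, ← h4, prod_union (disj h2), ← mul_assoc, Int.units_mul_self, one_mul]
  rw [step hx, h6, step hyT, h6, sdiff_sdiff, sup_eq_union, h4, sty_congr (stab_sdiff hT (stab_cyc _ _))
    (agree (sw_on (self_mem _ _) hyx e) (stab_sdiff hT (stab_cyc _ _)) sdiff_disjoint), cy, cy, h6, h1, h3, h7, h5]
  rfl

theorem sty_tt (hx : x ∈ T) (hT : Stab T g.π) : sty T (tt x * g) = ((cy g x).1, -(cy g x).2) ::ₘ sty (T \ cyc g.π x) g := by
  have h6 : (tt x * g).π = g.π := one_mul _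
  rw [step hx, h6, sty_congr (stab_sdiff hT (stab_cyc _ _)) (agree (tt_on (self_mem _ _)) (stab_sdiff hT (stab_cyc _ _)) sdiff_disjoint),
    cy, h6, prod_mul _ (stab_cyc _ _), prod_tt, if_pos (self_mem _ _), neg_one_mul]
  rfl

theorem sty_out {h : SG n} (hx : x ∈ T) (hh : h ∈ On (T \ cyc g.π x)) : sty T (h * g) = cy g x ::ₘ sty (T \ cyc g.π x) (h * g) := by
  have h1 := agree hh (stab_cyc g.π x) disjoint_sdiff
  rw [step hx, cy_congr h1, cyc_congr fun j hj => (h1 j hj).1]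

/-- the operators behind a family of functions of the signed cycle type -/
structure Fk (V : Type) [AddCommGroup V] (b : ℤ) where
  F : Multiset Cy → V
  P : Cy → V →ₗ[ℤ] V
  W : Cy → V →ₗ[ℤ] V
  E : V →ₗ[ℤ] V
  cons : ∀ c s, F (c ::ₘ s) = P c (F s)
  zero : E (F 0) = 0
  EP : ∀ c Φ, E (P c Φ) = P c (E Φ) + W c Φ
  WP : ∀ c d Φ, W c (P d Φ) = P d (W c Φ) + (2 * c.1 * d.1 : ℤ) • P (ad c d) Φ
  vac : ∀ c : Cy, 0 < c.1 → (2 : ℤ) • W c (F 0) = (c.1 : ℤ) • (∑ a ∈ Ioo 0 c.1, ∑ e : ℤˣ, F ((a, e) ::ₘ (c.1 - a, e * c.2) ::ₘ 0) +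
    (2 * b) • F ((c.1, -c.2) ::ₘ 0))

namespace Fk

variable {V : Type} [AddCommGroup V] {b : ℤ} (K : Fk V b)

theorem W_eq {c : Cy} (hc : 0 < c.1) (g : SG n) : ∀ T : Finset (Fin n), Stab T g.π → (2 : ℤ) • K.W c (K.F (sty T g)) =
    (c.1 : ℤ) • (∑ a ∈ Ioo 0 c.1, ∑ e : ℤˣ, K.F ((a, e) ::ₘ (c.1 - a, e * c.2) ::ₘ sty T g) + (2 * b) • K.F ((c.1, -c.2) ::ₘ sty T g) +
      (4 : ℤ) • ∑ y ∈ T, K.F (ad c (cy g y) ::ₘ sty (T \ cyc g.π y) g)) := by
  intro T
  induction T using Finset.strongInduction with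
  | H T ih =>
  intro hT
  rcases T.eq_empty_or_nonempty with rfl | ⟨x, hx⟩
  · rw [sum_empty, smul_zero, add_zero]
    exact K.vac c hc
  have hC := cyc_subset hT hx
  have h1 := congrArg (K.P (cy g x)) (ih (T \ cyc g.π x) (sdiff_ssubset hC ⟨x, self_mem _ _⟩) (stab_sdiff hT (stab_cyc _ _)))
  have h2 : ∑ y ∈ cyc g.π x, K.F (ad c (cy g y) ::ₘ sty (T \ cyc g.π y) g) =
      ((cy g x).1 : ℤ) • K.P (ad c (cy g x)) (K.F (sty (T \ cyc g.π x) g)) := by
    rw [sum_congr rfl fun y hy => by rw [cy_eq hy, cyc_eq hy, K.cons], sum_const, natCast_zsmul]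
    rfl
  have h3 : ∑ y ∈ T \ cyc g.π x, K.F (ad c (cy g y) ::ₘ sty (T \ cyc g.π y) g) =
      ∑ y ∈ T \ cyc g.π x, K.F (cy g x ::ₘ ad c (cy g y) ::ₘ sty ((T \ cyc g.π x) \ cyc g.π y) g) := sum_congr rfl fun y hy => by
    rw [step (T := T \ cyc g.π y) (x := x) (mem_sdiff.2 ⟨hx, fun e => (mem_sdiff.1 hy).2 (by rw [cyc_eq e]; exact self_mem _ _)⟩),
      Multiset.cons_swap, sdiff_right_comm]
  simp only [map_smul, map_add, map_sum, ← K.cons] at h1
  rw [← sum_sdiff hC, h2, h3, step hx, K.cons, K.WP, smul_add, h1]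
  simp only [Multiset.cons_swap (cy g x)]
  module

theorem main (g : SG n) (T : Finset (Fin n)) (hT : Stab T g.π) :
    ∑ x ∈ T, ∑ y ∈ T with x ≠ y, ∑ e : ℤˣ, K.F (sty T (sw x y e * g)) + (2 * b) • ∑ x ∈ T, K.F (sty T (tt x * g)) =
      (2 : ℤ) • K.E (K.F (sty T g)) := by
  induction T using Finset.strongInduction with
  | H T ih =>
  rcases T.eq_empty_or_nonempty with rfl | ⟨x0, hx⟩
  · rw [sum_empty, sum_empty, smul_zero, add_zero]
    exact (by rw [← smul_zero (2 : ℤ), ← K.zero]; rfl)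
  have hC := cyc_subset hT hx
  have hT' := stab_sdiff hT (stab_cyc g.π x0)
  have h1 := congrArg (K.P (cy g x0)) (ih _ (sdiff_ssubset hC ⟨x0, self_mem _ _⟩) hT')
  have h2 := K.W_eq (c := cy g x0) (card_pos.2 ⟨x0, self_mem _ _⟩) g _ hT'
  set C := cyc g.π x0 with hCd
  set c := cy g x0 with hc
  set! f : Fin n → Fin n → V := fun x y => ∑ e : ℤˣ, K.F (sty T (sw x y e * g)) with hf
  have hs : ∀ x y, f x y = f y x := fun x y => sum_congr rfl fun e _ => by
    rw [show sw x y e = sw y x e from LV.Cl.SG.ext (swap_comm _ _) (funext fun j => if_congr or_comm rfl rfl)]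
  set J := ∑ y ∈ T \ C, K.F (ad c (cy g y) ::ₘ sty ((T \ C) \ cyc g.π y) g) with hJ
  set Q := ∑ a ∈ Ioo 0 c.1, ∑ e : ℤˣ, K.F ((a, e) ::ₘ (c.1 - a, e * c.2) ::ₘ sty (T \ C) g) with hQ
  have h3 : ∀ x ∈ C, ∑ y ∈ T \ C, f x y = (2 : ℤ) • J := fun x hx' => by
    rw [hJ, smul_sum]
    refine sum_congr rfl fun y hy => ?_
    simp only [hf]
    rw [sum_congr rfl fun e _ => by
      rw [sty_join hT (hC hx') (by rw [cyc_eq hx']; exact (mem_sdiff.1 hy).2), cy_eq hx', cyc_eq hx'], sum_const, card_univ,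
      Fintype.card_units_int, two_zsmul, two_nsmul]
  have h4 : ∀ x ∈ C, ∑ y ∈ C with x ≠ y, f x y = Q := fun x hx' => by
    have h5 : #(cyc g.π x) = c.1 := congrArg Prod.fst (cy_eq hx')
    have h6 : ∀ a < c.1, ∀ a' < c.1, (g.π ^ a) x = (g.π ^ a') x → a = a' := fun a ha a' ha' e =>
      Nat.ModEq.eq_of_lt_of_lt (h5 ▸ pow_eq_iff.1 e) ha ha'
    refine (sum_nbij (fun a => (g.π ^ a) x) (fun a ha => ?_) (fun a ha a' ha' => ?_) (fun y hy => ?_) fun a ha => ?_).symm
    · rw [mem_Ioo] at ha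
      exact mem_filter.2 ⟨hCd ▸ cyc_eq hx' ▸ pow_mem_cyc _ _ _, fun e => ha.1.ne (h6 0 (ha.1.trans ha.2) a ha.2 e)⟩
    · exact h6 a (mem_Ioo.1 ha).2 a' (mem_Ioo.1 ha').2
    · obtain ⟨h7, h8⟩ := mem_filter.1 (mem_coe.1 hy)
      rw [hCd, ← cyc_eq hx', cyc_image, ← card_cyc, h5] at h7
      obtain ⟨a, ha, rfl⟩ := mem_image.1 h7
      exact ⟨a, mem_coe.2 (mem_Ioo.2 ⟨Nat.pos_of_ne_zero fun e => h8 (by rw [e]; rfl), mem_range.1 ha⟩), rfl⟩
    · obtain ⟨σ, hσ⟩ := sty_cut (hC hx') hT (mem_Ioo.1 ha).1 (h5 ▸ (mem_Ioo.1 ha).2 : a < #(cyc g.π x))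
      simp only [hf, hσ, cy_eq hx', cyc_eq hx']
      exact (Equiv.sum_comp (Equiv.mulRight σ) fun e => K.F ((a, e) ::ₘ (c.1 - a, e * c.2) ::ₘ sty (T \ C) g)).symm
  have h5 : ∀ x ∈ T, ∑ y ∈ T with x ≠ y, f x y = ∑ y ∈ T \ C with x ≠ y, f x y + ∑ y ∈ C with x ≠ y, f x y := fun x _ => by
    rw [sum_filter, sum_filter, sum_filter, sum_sdiff hC]
  have h6 : ∑ x ∈ T \ C, ∑ y ∈ C with x ≠ y, f x y = (c.1 : ℤ) • (2 : ℤ) • J := by
    rw [sum_congr rfl fun x hx' => by rw [filter_true_of_mem (p := (x ≠ ·)) fun y hy e => (mem_sdiff.1 hx').2 (e ▸ hy)], sum_comm,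
      sum_congr rfl fun y hy => by rw [sum_congr rfl fun x _ => hs x y, h3 y hy], sum_const, natCast_zsmul]
    rfl
  have h7 : ∑ x ∈ C, ∑ y ∈ T \ C with x ≠ y, f x y = (c.1 : ℤ) • (2 : ℤ) • J := by
    rw [sum_congr rfl fun x hx' => by rw [filter_true_of_mem (p := (x ≠ ·)) fun y hy e => (mem_sdiff.1 hy).2 (e ▸ hx'), h3 x hx'], sum_const,
      natCast_zsmul]
    rfl
  have h8 : ∑ x ∈ C, ∑ y ∈ C with x ≠ y, f x y = (c.1 : ℤ) • Q := by
    rw [sum_congr rfl h4, sum_const, natCast_zsmul]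
    rfl
  have h9 : ∑ x ∈ T \ C, ∑ y ∈ T \ C with x ≠ y, f x y =
      ∑ x ∈ T \ C, ∑ y ∈ T \ C with x ≠ y, ∑ e : ℤˣ, K.F (c ::ₘ sty (T \ C) (sw x y e * g)) :=
    sum_congr rfl fun x hx' => sum_congr rfl fun y hy => sum_congr rfl fun e _ => by rw [sty_out hx (sw_on hx' (mem_filter.1 hy).1 e)]
  have h10 : ∑ x ∈ T, K.F (sty T (tt x * g)) = ∑ x ∈ T \ C, K.F (c ::ₘ sty (T \ C) (tt x * g)) +
      (c.1 : ℤ) • K.F ((c.1, -c.2) ::ₘ sty (T \ C) g) := by
    rw [← sum_sdiff hC, sum_congr rfl fun x hx' => by rw [sty_out hx (tt_on hx')],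
      sum_congr (s₁ := C) rfl fun x hx' => by rw [sty_tt (hC hx') hT, cy_eq hx', cyc_eq hx'], sum_const, natCast_zsmul]
    rfl
  simp only [map_smul, map_add, map_sum, ← K.cons] at h1
  change ∑ x ∈ T, ∑ y ∈ T with x ≠ y, f x y + _ = _
  rw [sum_congr rfl h5, ← sum_sdiff hC, sum_add_distrib, sum_add_distrib, h6, h7, h8, h9, h10, step hx, K.cons (cy g x0), K.EP,
    smul_add (2 : ℤ), h2, ← h1]
  module

end Fk

end Grp

/-- the operators of a system of places -/
noncomputable def Sys.fk {M : ℕ} {Ω : Type} [DecidableEq Ω] (S : Sys Ω) (b m c0 β : ℤ) (F : Multiset Cy → (Fin M → Ω) → ℤ)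
    (cons : ∀ c s, F (c ::ₘ s) = S.O c 1 (F s)) (zero : S.E m c0 (F 0) = 0)
    (hv : ∀ c : Cy, ∑ a ∈ range (c.1 + 1), ∑ e : ℤˣ, S.O (a, e) 1 (S.O (c.1 - a, e * c.2) 1 (F 0)) =
      (2 * (c.1 + 1) : ℤ) • S.O c 1 (F 0) + (4 : ℤ) • S.O c (fun x => x) (F 0))
    (hβ : S.O (0, -1) 1 (F 0) = β • F 0) (hP : ∀ c : Cy, (M - 1 - m) • S.O c 1 (F 0) = (b - β) • S.O (c.1, -c.2) 1 (F 0)) :
    Fk ((Fin M → Ω) → ℤ) b where
  F := F
  P c := S.O c 1
  W c := S.O c fun x => 2 * c.1 * x + (c.1 ^ 2 - m * c.1)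
  E := S.E m c0
  cons := cons
  zero := zero
  EP := S.E_P m c0
  WP c d Φ := by
    rw [S.O_comm, show (2 * c.1 * d.1 : ℤ) • S.O (ad c d) 1 Φ = (0 : ℤ) • S.O (ad c d) (fun x => x) Φ + (2 * c.1 * d.1 : ℤ) • S.O (ad c d) 1 Φ by
      rw [zero_smul, zero_add], ← S.O_lin]
    congr 3
    funext x
    push_cast
    ring
  vac c hc := by
    have h1 := hv c
    have h2 : range (c.1 + 1) = insert 0 (insert c.1 (Ioo 0 c.1)) := by
      ext a; simp only [mem_range, mem_insert, mem_Ioo]; omega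
    have h3 : ∑ e : ℤˣ, S.O (0, e) 1 (S.O (c.1 - 0, e * c.2) 1 (F 0)) = (M : ℤ) • S.O c 1 (F 0) + β • S.O (c.1, -c.2) 1 (F 0) := by
      rw [UnitsInt.univ, sum_pair (by decide), one_mul, S.O_zero, S.P_comm, hβ, map_smul, neg_one_mul]
      rfl
    have h4 : ∑ e : ℤˣ, S.O (c.1, e) 1 (S.O (c.1 - c.1, e * c.2) 1 (F 0)) = (M : ℤ) • S.O c 1 (F 0) + β • S.O (c.1, -c.2) 1 (F 0) := by
      rw [← Equiv.sum_comp (Equiv.mulRight c.2), UnitsInt.univ, sum_pair (by decide), Nat.sub_self]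
      simp only [coe_mulRight, Int.units_mul_self, one_mul, neg_mul, S.O_zero, hβ, map_smul]
    rw [h2, sum_insert (by simp only [mem_insert, mem_Ioo]; omega), sum_insert (by simp only [mem_Ioo, lt_self_iff_false, and_false, not_false_eq_true]), h3, h4] at h1
    simp only [cons, S.O_lin]
    rw [eq_sub_of_add_eq' (eq_sub_of_add_eq' h1).symm.symm]
    linear_combination (exp := 1) (2 * c.1 : ℤ) • hP c

/-- one row -/
def SA : Sys ℕ where
  pos a := a
  up c a := a + c.1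
  dn c a := a - c.1
  pos_up _ _ := rfl
  dn_up _ _ := Nat.add_sub_cancel _ _
  up_dn _ _ h := Nat.sub_add_cancel h
  up_up c d a := by simp only [ad]; omega
  up_zero _ := rfl
  tr _ _ h := ⟨1, Nat.add_sub_cancel' h⟩
  fix _ _ _ _ := rfl

theorem fl_fl (η η' : ℤˣ) (r : Bool) : fl η (fl η' r) = fl (η * η') r := by revert η η' r; decide

theorem fl_ne (r : Bool) : fl (-1) r ≠ r := by revert r; decide

/-- two rows -/
def SB : Sys Pt where
  pos a := a.1
  up c a := (a.1 + c.1, fl c.2 a.2)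
  dn := mv
  pos_up _ _ := rfl
  dn_up c a := Prod.ext (Nat.add_sub_cancel _ _) (by simp only [mv]; rw [fl_fl, Int.units_mul_self]; rfl)
  up_dn c a h := Prod.ext (Nat.sub_add_cancel h) (by simp only [mv]; rw [fl_fl, Int.units_mul_self]; rfl)
  up_up c d a := Prod.ext (by simp only [ad]; omega) (fl_fl _ _ _)
  up_zero _ := rfl
  tr a b h := ⟨if a.2 = b.2 then 1 else -1, Prod.ext (Nat.add_sub_cancel' h) ((by decide : ∀ r r' : Bool, fl (if r = r' then 1 else -1) r = r') _ _)⟩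
  fix a b e h := Prod.ext rfl ((by decide : ∀ (e : ℤˣ) (r r' : Bool), fl e r = r → fl e r' = r') _ _ _ (congrArg Prod.snd h))

variable {M : ℕ}

theorem vacA : SA.Vac fun i : Fin M => (i : ℕ) where
  full j a h := ⟨⟨a, lt_trans h j.2⟩, rfl⟩
  cnt j := by
    have h : ∀ i : Fin M, (if SA.pos i < SA.pos j then ∑ e : ℤˣ, if SA.up (0, e) i = i then (1 : ℤ) else 0 else 0) =
        if i ∈ Iio j then 2 else 0 := fun i => if_congr (by rw [mem_Iio]; rfl) (by simp only [UnitsInt.univ, SA, add_zero, ↓reduceIte, sum_const, mem_singleton, units_ne_neg_self, not_false_eq_true, card_insert_of_notMem, card_singleton, Nat.reduceAdd, Int.nsmul_eq_mul, Nat.cast_ofNat, mul_one]) rfl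
    rw [sum_congr rfl fun i _ => h i, sum_ite_mem, univ_inter, sum_const, Fin.card_Iio, nsmul_eq_mul, mul_comm]
    rfl

theorem vacB {γ : Fin M → Pt} (hi : Injective γ) (h : ∀ j (a : Pt), a.1 < (γ j).1 → ∃ l, γ l = a) : SB.Vac γ where
  full := h
  cnt j := by
    have h1 : ∀ i, (∑ e : ℤˣ, if SB.up (0, e) (γ i) = γ i then (1 : ℤ) else 0) = 1 := fun i => by
      rw [UnitsInt.univ, sum_pair (by decide), if_pos (SB.up_zero _), if_neg, add_zero]
      exact fun e => fl_ne _ (congrArg Prod.snd e)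
    have h2 : (univ.filter fun i => SB.pos (γ i) < SB.pos (γ j)).image γ = range (γ j).1 ×ˢ univ := by
      ext a
      simp only [mem_image, mem_filter, mem_univ, true_and, mem_product, mem_range, and_true]
      refine ⟨fun ⟨i, hi, e⟩ => e ▸ hi, fun ha => ?_⟩
      obtain ⟨l, rfl⟩ := h j a ha
      exact ⟨l, ha, rfl⟩
    have h3 := congrArg card h2
    rw [card_image_of_injective _ hi, card_product, card_range, card_univ, Fintype.card_bool] at h3
    simp only [h1]
    rw [sum_boole, h3]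
    push_cast
    exact mul_comm _ _

theorem v0_fst (i : Fin M) : (v0 M i).1 = if (i : ℕ) < (M + 1) / 2 then (i : ℕ) else i - (M + 1) / 2 := by
  unfold v0; split_ifs <;> rfl

theorem v1_fst (h : M % 2 = 1) (i : Fin M) : (v1 M i).1 = (v0 M i).1 := by
  unfold v1
  split_ifs with e
  · rw [v0_fst, if_pos (by omega)]
  · rfl

theorem v0_inj : Injective (v0 M) := fun i j h => by
  unfold v0 at h
  split_ifs at h <;> simp only [Prod.mk.injEq] at h <;> first | exact Fin.ext (by omega) | simp only [Bool.false_eq_true, and_false, Bool.true_eq_false] at h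

theorem v1_inj (h : M % 2 = 1) : Injective (v1 M) := fun i j e => by
  unfold v1 v0 at e
  have := i.2
  have := j.2
  split_ifs at e <;> simp only [Prod.mk.injEq] at e <;> first | exact Fin.ext (by omega) | simp only [Bool.false_eq_true, and_false, Bool.true_eq_false] at e

theorem v0_full (a : Pt) (h : a.1 < M / 2) : ∃ l : Fin M, v0 M l = a ∧ (M % 2 = 1 → v1 M l = a) := by
  obtain ⟨x, r⟩ := a
  cases r
  · have h1 : v0 M ⟨x, by omega⟩ = (x, false) := if_pos (by simp only; omega)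
    exact ⟨_, h1, fun _ => (if_neg (by simp only; omega)).trans h1⟩
  · have h1 : v0 M ⟨(M + 1) / 2 + x, by omega⟩ = (x, true) := (if_neg (by simp only; omega)).trans (by simp)
    exact ⟨_, h1, fun _ => (if_neg (by simp only; omega)).trans h1⟩

theorem v0_lt (j : Fin M) (h : M % 2 = 1 → (j : ℕ) ≠ M / 2) : (v0 M j).1 < M / 2 := by
  have := j.2
  rw [v0_fst]
  split_ifs <;> omega

theorem v0_le (j : Fin M) : (v0 M j).1 ≤ M / 2 := by
  have := j.2
  rw [v0_fst]
  split_ifs <;> omega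

theorem vac0 : SB.Vac (v0 M) := vacB v0_inj fun j a h => (v0_full a (h.trans_le (v0_le j))).imp fun _ e => e.1

theorem vac1 (h : M % 2 = 1) : SB.Vac (v1 M) := vacB (v1_inj h) fun j a e =>
  (v0_full a (e.trans_le ((v1_fst h j).trans_le (v0_le j)))).imp fun _ e => e.2 h

theorem flip_zero {γ : Fin M → Pt} (τ : Fin M → Pt) (j : Fin M) (h : ∃ l, γ l = SB.up (0, -1) (γ j)) :
    pr τ (update γ j (SB.up (0, -1) (γ j))) = 0 := by
  obtain ⟨l, h⟩ := h
  have h1 : l ≠ j := fun e => fl_ne _ (congrArg Prod.snd (e ▸ h)).symm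
  exact alt_zero (pr_alt τ) h1 (by rw [update_of_ne h1, update_self, h])

theorem YM0 : YM (M := M) 0 = (fun τ => pr τ (v0 M)) + if M % 2 = 1 then fun τ => pr τ (v1 M) else 0 := by
  funext τ
  rw [YM_zero, vc, Pi.add_apply, ite_apply]
  rfl

theorem flip_vc : SB.O (0, -1) 1 (YM (M := M) 0) = (if M % 2 = 1 then 1 else 0 : ℤ) • YM 0 := by
  rw [YM0]
  split_ifs with h
  · have hM : M / 2 < M := by omega
    have e0 : v0 M ⟨M / 2, hM⟩ = (M / 2, false) := if_pos (by simp only; (clear * - h; omega))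
    have e1 : v1 M ⟨M / 2, hM⟩ = (M / 2, true) := if_pos rfl
    have e2 : ∀ i, i ≠ ⟨M / 2, hM⟩ → v1 M i = v0 M i := fun i hi => if_neg fun e => hi (Fin.ext e)
    rw [map_add, Sys.O_pr, Sys.O_pr, one_smul, add_comm, sum_eq_single ⟨M / 2, hM⟩, sum_eq_single ⟨M / 2, hM⟩, e0, e1]
    · simp only [Pi.one_apply, one_smul]
      (with_reducible congr 1) <;> funext τ <;> congr 1 <;> funext i <;> by_cases hi : i = ⟨M / 2, hM⟩
      · rw [hi, update_self, e0]; rfl
      · rw [update_of_ne hi, e2 i hi]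
      · rw [hi, update_self, e1]; rfl
      · rw [update_of_ne hi, e2 i hi]
    · intro j _ hj
      funext τ
      rw [Pi.smul_apply, flip_zero τ j ((v0_full (SB.up (0, -1) (v0 M j)) (v0_lt j fun _ e => hj (Fin.ext e))).imp fun _ e => e.1), smul_zero, Pi.zero_apply]
    · simp only [mem_univ, not_true_eq_false, Pi.one_apply, one_smul, IsEmpty.forall_iff]
    · intro j _ hj
      funext τ
      rw [Pi.smul_apply, flip_zero τ j ((v0_full (SB.up (0, -1) (v1 M j))
        ((v1_fst h j).trans_lt (v0_lt j fun _ e => hj (Fin.ext e)))).imp fun _ e => e.2 h), smul_zero, Pi.zero_apply]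
    · simp only [mem_univ, not_true_eq_false, Pi.one_apply, one_smul, IsEmpty.forall_iff]
  · rw [add_zero, Sys.O_pr, zero_smul]
    refine sum_eq_zero fun j _ => ?_
    funext τ
    rw [Pi.smul_apply, flip_zero τ j ((v0_full (SB.up (0, -1) (v0 M j)) (v0_lt j fun e => absurd e h)).imp fun _ e => e.1), smul_zero,
      Pi.zero_apply]

/-- types `B` and `D` -/
noncomputable def fkB (M : ℕ) : Fk ((Fin M → Pt) → ℤ) (if M % 2 = 1 then 1 else 0) :=
  SB.fk _ (M - 1) (-∑ j, (((v0 M j).1 : ℤ) ^ 2 - (M - 1) * (v0 M j).1)) _ YM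
    (fun c s => funext fun τ => by rw [YM_cons, Sys.O_apply]; simp only [Pi.one_apply, one_mul]; rfl)
    (by
      rw [YM0, map_add, SB.E_pr _ (v0 M) (by exact add_neg_cancel _), zero_add]
      split_ifs with h
      · refine SB.E_pr _ _ ?_
        simp only [SB, v1_fst h, add_neg_cancel]
      · exact map_zero _)
    (fun c => by
      rw [YM0]
      split_ifs with h
      · simp only [map_add, sum_add_distrib, SB.vac vac0, SB.vac (vac1 h), smul_add]
        abel
      · rw [add_zero, SB.vac vac0])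
    flip_vc fun c => by rw [sub_self, sub_self, zero_smul, zero_smul]

/-- type `A` -/
noncomputable def fkA (M : ℕ) : Fk ((Fin M → ℕ) → ℤ) 0 :=
  SA.fk _ (2 * M - 1) (-∑ j : Fin M, (((j : ℕ) : ℤ) ^ 2 - (2 * M - 1) * (j : ℕ))) M (fun s => FM (s.map Prod.fst))
    (fun c s => funext fun τ => by rw [Multiset.map_cons, FM_cons, Sys.O_apply]; simp only [Pi.one_apply, one_mul]; rfl)
    (SA.E_pr _ (fun i : Fin M => (i : ℕ)) (add_neg_cancel _)) (SA.vac vacA) (SA.O_zero _) fun c => by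
      rw [show (M - 1 - (2 * M - 1) : ℤ) = 0 - M by ring]; rfl

theorem sum_tup {u : Finset Pt} (h : #u = M) {A : Type} [AddCommMonoid A] (φ : Pt → A) : ∑ a ∈ u, φ a = ∑ i, φ (tup M u i) := by
  rw [← length_sort Le] at h
  subst h
  rw [Finset.sum, ← sort_eq u Le, Multiset.map_coe, Multiset.sum_coe, ← Fin.sum_univ_fun_getElem]
  exact sum_congr rfl fun i _ => congrArg φ (List.getD_eq_getElem _ _ i.2).symm

theorem sum_v0 : ∑ i, (v0 M i).1 = M / 2 * ((M - 1) / 2) := by
  simp only [v0_fst]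
  rw [Fin.sum_univ_eq_sum_range fun i => if i < (M + 1) / 2 then i else i - (M + 1) / 2]
  conv_lhs => rw [show range M = range ((M + 1) / 2 + M / 2) by congr 1; omega]
  rw [sum_range_add, sum_congr rfl fun i hi => if_pos (mem_range.1 hi), sum_congr rfl fun i _ => (if_neg (by omega)).trans (Nat.add_sub_cancel_left _ _)]
  have h1 := sum_range_id_mul_two ((M + 1) / 2)
  have h2 := sum_range_id_mul_two (M / 2)
  obtain ⟨r, rfl | rfl⟩ := M.even_or_odd'
  · rw [show (2 * r + 1) / 2 = r by (clear * - ; omega), show 2 * r / 2 = r by (clear * - ; omega), show (2 * r - 1) / 2 = r - 1 by omega] at *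
    omega
  · rw [show (2 * r + 1 + 1) / 2 = r + 1 by (clear * - ; omega), show (2 * r + 1) / 2 = r by omega, show (2 * r + 1 - 1) / 2 = r by omega] at *
    rcases r with _ | r
    · simp
    · simp only [Nat.add_sub_cancel] at h1 h2
      linarith only [h1, h2]

theorem sum_lt {n : ℕ} (T : Finset (Fin n)) (f : Fin n → Fin n → ℤ) (hf : ∀ x y, f x y = f y x) :
    ∑ x ∈ T, ∑ y ∈ T with x ≠ y, f x y = 2 * ∑ x ∈ T, ∑ y ∈ T with x < y, f x y := by
  have h1 : ∑ x ∈ T, ∑ y ∈ T with x < y, f x y = ∑ x ∈ T, ∑ y ∈ T with y < x, f x y := by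
    simp only [sum_filter]
    rw [sum_comm]
    simp only [hf]
  rw [two_mul]
  nth_rewrite 2 [h1]
  simp only [sum_filter, ← sum_add_distrib]
  refine sum_congr rfl fun x _ => sum_congr rfl fun y _ => ?_
  rcases lt_trichotomy x y with h | h | h
  · rw [if_pos h, if_neg h.not_gt, if_pos h.ne, add_zero]
  · simp [h]
  · rw [if_neg h.not_gt, if_pos h, if_pos h.ne', zero_add]

theorem Fk.at {X : Type} {b : ℤ} (K : Fk (X → ℤ) b) {n : ℕ} (g : SG n) (T : Finset (Fin n)) (hT : Stab T g.π) (τ : X) :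
    ∑ x ∈ T, ∑ y ∈ T with x < y, (K.F (sty T (sw x y 1 * g)) τ + K.F (sty T (sw x y (-1) * g)) τ) +
      b * ∑ x ∈ T, K.F (sty T (tt x * g)) τ = K.E (K.F (sty T g)) τ := by
  have h := congrFun (K.main g T hT) τ
  simp only [Pi.add_apply, Pi.smul_apply, Finset.sum_apply, smul_eq_mul, UnitsInt.univ, sum_pair (by decide : (1 : ℤˣ) ≠ -1)] at h
  rw [sum_lt T _ fun x y => by
    simp only [show ∀ e, sw x y e = sw y x e from fun e => LV.Cl.SG.ext (swap_comm _ _) (funext fun j => if_congr or_comm rfl rfl)]] at h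
  linarith only [h]

theorem casB {n : ℕ} (T : Finset (Fin n)) {u : Finset Pt} (g : SG n) (h1 : #u = M) (h2 : ∑ a ∈ u, a.1 = #T + M / 2 * ((M - 1) / 2))
    (hT : Stab T g.π) :
    ∑ x ∈ T, ∑ y ∈ T with x < y, (Y .B M T u (sw x y 1 * g) + Y .B M T u (sw x y (-1) * g)) +
      (if M % 2 = 1 then 1 else 0) * ∑ x ∈ T, Y .B M T u (tt x * g) = (lev .B u - cst .B M #T) * Y .B M T u g := by
  refine ((fkB M).at g T hT (tup M u)).trans ((SB.E_apply _ _ _ _).trans (congrArg (· * Y .B M T u g) ?_))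
  have h3 : ∑ i, ((tup M u i).1 : ℤ) = #T + ∑ i, ((v0 M i).1 : ℤ) := by
    rw [sum_tup h1, ← sum_v0] at h2
    exact_mod_cast h2
  simp only [SB, sum_sub_distrib, ← mul_sum, h3, lev, cst, ps, sum_tup h1]
  ring

theorem casA {n : ℕ} (T : Finset (Fin n)) (β : Fin M → ℕ) (g : SG n) (h2 : ∑ i, β i = #T + M * (M - 1) / 2) (hT : Stab T g.π) :
    2 * ∑ x ∈ T, ∑ y ∈ T with x < y, FM ((sty T (sw x y 1 * g)).map Prod.fst) β =
      (∑ i, (β i : ℤ) ^ 2 - cst .A M #T) * FM ((sty T g).map Prod.fst) β := by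
  have h1 : ∀ x y, (sty T (sw x y (-1) * g)).map Prod.fst = (sty T (sw x y 1 * g)).map Prod.fst := fun x y => by
    simp only [sty, Multiset.map_map]; rfl
  have h := (fkA M).at g T hT β
  rw [zero_mul, add_zero] at h
  refine Eq.trans ?_ (h.trans ((SA.E_apply _ _ _ _).trans (congrArg (· * FM ((sty T g).map Prod.fst) β) ?_)))
  · simp only [mul_sum, two_mul]
    exact sum_congr rfl fun x _ => sum_congr rfl fun y _ => 
      congrArg (fun s => FM ((sty T (sw x y 1 * g)).map Prod.fst) β + FM s β) (h1 x y).symm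
  · have h3 : ∑ i, (β i : ℤ) = #T + ∑ i : Fin M, ((i : ℕ) : ℤ) := by
      rw [← sum_range_id, ← Fin.sum_univ_eq_sum_range fun i => i] at h2
      exact_mod_cast h2
    simp only [SA, sum_sub_distrib, ← mul_sum, h3, cst, ← Fin.sum_univ_eq_sum_range fun i => (i : ℤ) ^ 2]
    ring

end Cas

open Cas in
/-- **the sum of the reflections acts by the level** -/
theorem bCas : BCas := by
  intro κ M n T u g hk hu hT
  obtain ⟨h1, h2, -⟩ : IsLab κ M #T u := (mem_filter.1 hu).2
  cases κ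
  · rw [lev, sum_tup h1]
    exact casA T _ g (by rw [← sum_tup h1]; exact h2) hT
  · rw [lev, sum_tup h1]
    exact casA T _ g (by rw [← sum_tup h1]; exact h2) hT
  · have h := casB T g h1 h2 hT
    rw [if_pos hk.1, one_mul] at h
    exact (one_mul _).trans h
  · have h := casB T g h1 h2 hT
    rw [if_neg (by have := hk.1; omega), zero_mul, add_zero] at h
    exact (one_mul _).trans h

end Cfsg.Agent.MO.J
end

-- part: MO/J/Kr
section
/-!
# MO-J: Krawtchouk sums and moves in an interval (helper56)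

`bKr : BKr`, `bConn : BConn`.
-/

set_option autoImplicit false

namespace Cfsg.Agent.MO.J

open Finset

namespace Kr

/-- the elementary symmetric sums -/
def es (Z : Finset ℕ) (s : ℕ → ℤ) (k : ℕ) : ℤ := ∑ S ∈ powersetCard k Z, ∏ z ∈ S, s z

/-- the sign of a subset -/
def sI (I : Finset ℕ) (z : ℕ) : ℤ := if z ∈ I then -1 else 1

theorem prod_sI (I S : Finset ℕ) : ∏ z ∈ S, sI I z = (-1) ^ #(S ∩ I) := by
  simp only [sI, prod_ite_mem, prod_const]

theorem kr_eq (Z I : Finset ℕ) : kr Z I = es Z (sI I) (#Z / 2) := sum_congr rfl fun S _ => (prod_sI I S).symm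

theorem es_zero (Z : Finset ℕ) (s : ℕ → ℤ) : es Z s 0 = 1 := by simp [es]

theorem es_insert {Z : Finset ℕ} {a : ℕ} (h : a ∉ Z) (s : ℕ → ℤ) (k : ℕ) :
    es (insert a Z) s (k + 1) = es Z s (k + 1) + s a * es Z s k := by
  have h1 : ∀ S ∈ powersetCard k Z, a ∉ S := fun S hS e => h ((mem_powersetCard.1 hS).1 e)
  rw [es, powersetCard_succ_insert h, sum_union, sum_image, es, es, mul_sum]
  · exact congrArg _ (sum_congr rfl fun S hS => prod_insert (h1 S hS))
  · intro S hS T hT e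
    rw [← erase_insert (h1 S hS), e, erase_insert (h1 T hT)]
  · refine disjoint_left.2 fun S hS e => ?_
    obtain ⟨T, -, rfl⟩ := mem_image.1 e
    exact h ((mem_powersetCard.1 hS).1 (mem_insert_self a T))

theorem es_le (Z I : Finset ℕ) (k : ℕ) : |es Z (sI I) k| ≤ (#Z).choose k := by
  refine (abs_sum_le_sum_abs _ _).trans_eq ?_
  simp only [prod_sI, abs_neg_one_pow, sum_const, card_powersetCard, nsmul_eq_mul, mul_one]

theorem es_one {Z I : Finset ℕ} (h : Disjoint Z I) (k : ℕ) : es Z (sI I) k = (#Z).choose k := by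
  rw [es, sum_congr rfl (g := fun _ => 1) fun S hS => by
    rw [prod_sI, disjoint_iff_inter_eq_empty.1 (h.mono_left (mem_powersetCard.1 hS).1), card_empty, pow_zero]]
  simp

theorem two_le {Z : Finset ℕ} {a b : ℕ} (hb : b ∉ Z) (ha : a ∉ insert b Z) {I : Finset ℕ} (h1 : a ∈ I) (h2 : b ∉ I) (k : ℕ) :
    |es (insert a (insert b Z)) (sI I) (k + 1)| + 2 * (#Z).choose k ≤ (#Z + 2).choose (k + 1) := by
  have h3 : sI I a = -1 := if_pos h1
  have h4 : sI I b = 1 := if_neg h2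
  have h5 := abs_le.1 (es_le Z I (k + 1))
  rw [es_insert ha, es_insert hb, h3, h4, ← le_sub_iff_add_le, abs_le]
  cases k with
  | zero =>
    simp only [es_zero, zero_add, Nat.choose_one_right, Nat.choose_zero_right] at h5 ⊢
    push_cast
    constructor <;> linarith only [h5.1, h5.2]
  | succ k =>
    have h6 := abs_le.1 (es_le Z I k)
    rw [es_insert hb, h4]
    simp only [Nat.choose_succ_succ'] at h5 ⊢
    push_cast
    constructor <;> linarith only [h5.1, h5.2, h6.1, h6.2]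

theorem binom (m : ℕ) : ((m + 1) / 2 + 1) * (m + 2).choose (m / 2 + 1) = 2 * (2 * ((m + 1) / 2) + 1) * m.choose (m / 2) := by
  obtain ⟨h, rfl | rfl⟩ := Nat.even_or_odd' m
  · rw [show (2 * h + 1) / 2 = h by omega, show 2 * h / 2 = h by omega]
    exact Nat.succ_mul_centralBinom_succ h
  · have h1 := Nat.add_one_mul_choose_eq (2 * h + 2) (h + 1)
    have h2 := Nat.choose_symm_half (h + 1)
    have h3 := Nat.choose_symm_half h
    have h4 := Nat.choose_succ_succ' (2 * h + 1) h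
    rw [show (2 * h + 1 + 1) / 2 = h + 1 by omega, show (2 * h + 1) / 2 = h by omega,
      show 2 * h + 1 + 2 = 2 * (h + 1) + 1 by omega, ← h2, mul_comm, show 2 * (h + 1) + 1 = 2 * h + 2 + 1 by omega, ← h1,
      show 2 * h + 2 = 2 * h + 1 + 1 by omega, h4, h3]
    ring

theorem map_sI {Z I : Finset ℕ} (h : I ⊆ Z) :
    Z.val.map (sI I) = Multiset.replicate #I (-1) + Multiset.replicate (#Z - #I) 1 := by
  rw [← add_tsub_cancel_of_le (val_le_iff.2 h), Multiset.map_add, ← sdiff_val, ← card_sdiff_of_subset h,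
    Multiset.map_congr (s := I.val) rfl (f := sI I) (g := fun _ => -1) fun x hx => if_pos hx,
    Multiset.map_congr (s := (Z \ I).val) rfl (f := sI I) (g := fun _ => 1) fun x hx => if_neg (mem_sdiff.1 hx).2,
    Multiset.map_const', Multiset.map_const']
  rfl

theorem down {V : Type} {p r : ℕ} {t : Finset ℕ → V}
    (h : ∀ I x, I ⊆ Ico p (p + r) → x ∈ I → x + 1 ∉ I → x + 1 < p + r → t (insert (x + 1) (I.erase x)) = t I)
    (I : Finset ℕ) (hI : I ⊆ Ico p (p + r)) :
    ∃ J, J ⊆ Ico p (p + r) ∧ (∀ x, p ≤ x → x + 1 ∈ J → x ∈ J) ∧ #J = #I ∧ t J = t I := by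
  induction e : ∑ x ∈ I, x using Nat.strong_induction_on generalizing I with
  | _ n ih =>
    by_cases hd : ∀ x, p ≤ x → x + 1 ∈ I → x ∈ I
    · exact ⟨I, hI, hd, rfl, rfl⟩
    · obtain ⟨x, h1, h2, h3⟩ : ∃ x, p ≤ x ∧ x + 1 ∈ I ∧ x ∉ I := by
        by_contra c
        exact hd fun x a b => by_contra fun d => c ⟨x, a, b, d⟩
      have h4 : x ∉ I.erase (x + 1) := fun c => h3 (mem_of_mem_erase c)
      have h5 := (mem_Ico.1 (hI h2)).2
      have h6 : insert x (I.erase (x + 1)) ⊆ Ico p (p + r) :=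
        insert_subset (mem_Ico.2 ⟨h1, by omega⟩) ((erase_subset _ _).trans hI)
      obtain ⟨J, j1, j2, j3, j4⟩ := ih _ (by
        rw [sum_insert h4, ← e, ← add_sum_erase _ _ h2]
        omega) _ h6 rfl
      refine ⟨J, j1, j2, by rw [j3, card_insert_of_notMem h4, card_erase_add_one h2], ?_⟩
      rw [j4, ← h _ x h6 (mem_insert_self _ _) (by simp) h5, erase_insert h4, insert_erase h2]

theorem mem_down {p : ℕ} {J : Finset ℕ} (h : ∀ x, p ≤ x → x + 1 ∈ J → x ∈ J) {x y : ℕ} (hx : p ≤ x) (hxy : x ≤ y)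
    (hy : y ∈ J) : x ∈ J := by
  induction y, hxy using Nat.le_induction with
  | base => exact hy
  | succ y hxy ih => exact ih (h y (hx.trans hxy) hy)

end Kr

open Kr

theorem bKr : BKr where
  top Z := by rw [kr_eq, es_one (disjoint_empty_right Z)]
  le Z I h h1 h2 := by
    obtain ⟨a, ha⟩ := nonempty_iff_ne_empty.2 h1
    obtain ⟨b, hb, hb'⟩ := exists_of_ssubset (Finset.ssubset_iff_subset_ne.2 ⟨h, h2⟩)
    have h3 : b ∈ Z.erase a := mem_erase.2 ⟨fun e => hb' (e ▸ ha), hb⟩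
    obtain ⟨Z', h4, h5, rfl⟩ : ∃ Z', b ∉ Z' ∧ a ∉ insert b Z' ∧ Z = insert a (insert b Z') :=
      ⟨(Z.erase a).erase b, notMem_erase _ _, by rw [insert_erase h3]; exact notMem_erase _ _, by
        rw [insert_erase h3, insert_erase (h ha)]⟩
    have h6 := two_le h4 h5 ha hb' (#Z' / 2)
    have h7 := congrArg (Nat.cast : ℕ → ℤ) (binom #Z')
    rw [kr_eq, card_insert_of_notMem h5, card_insert_of_notMem h4, show (#Z' + 1 + 1) / 2 = #Z' / 2 + 1 by omega,
      Nat.add_sub_cancel]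
    have h8 := mul_le_mul_of_nonneg_left h6 (Nat.cast_nonneg (α := ℤ) (2 * ((#Z' + 1) / 2) + 1))
    generalize (#Z' + 1) / 2 = d at h7 h8 ⊢
    push_cast at h7 h8 ⊢
    linarith
  one Z I h h1 h2 := by
    obtain ⟨a, rfl⟩ := card_eq_one.1 h1
    obtain ⟨Z', h3, rfl⟩ : ∃ Z', a ∉ Z' ∧ Z = insert a Z' :=
      ⟨Z.erase a, notMem_erase _ _, (insert_erase (h (mem_singleton_self a))).symm⟩
    have h4 := es_one (disjoint_singleton_right.2 h3)
    rw [card_insert_of_notMem h3] at h2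
    rw [kr_eq, card_insert_of_notMem h3]
    obtain ⟨d, hd⟩ : ∃ d, #Z' = 2 * d := ⟨#Z' / 2, by omega⟩
    rw [hd, show (2 * d + 1) / 2 = d by omega]
    cases d with
    | zero => simp [es_zero]
    | succ d =>
      have h5 := congrArg (Nat.cast : ℕ → ℤ) (Nat.choose_succ_right_eq (2 * (d + 1)) d)
      rw [es_insert h3, h4, h4, hd, sI, if_pos (mem_singleton_self a), Nat.choose_succ_succ']
      rw [show 2 * (d + 1) - d = d + 2 by omega] at h5
      push_cast at h5 ⊢
      linarith only [h5]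
  compl Z I _ := by
    rw [kr, kr, mul_sum]
    refine sum_congr rfl fun S hS => ?_
    obtain ⟨h1, h2⟩ := mem_powersetCard.1 hS
    rw [← h2, ← inter_sdiff_assoc, inter_eq_left.2 h1, ← card_sdiff_add_card_inter S I, pow_add, mul_assoc, ← mul_pow]
    simp only [_root_.Int.reduceNeg, _root_.mul_neg, _root_.mul_one, _root_.neg_neg, _root_.one_pow]
  card Z I I' h h' e := by
    rw [kr_eq, kr_eq, es, es, ← esymm_map_val, ← esymm_map_val, map_sI h, map_sI h', e]

theorem bConn : BConn := by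
  intro V p r t h I I' hI hI' e
  obtain ⟨J, j1, j2, j3, j4⟩ := down h I hI
  obtain ⟨J', j1', j2', j3', j4'⟩ := down h I' hI'
  have h1 : #J = #J' := j3.trans (e.trans j3'.symm)
  rw [← j4, ← j4']
  refine congrArg t ?_
  by_cases c : J ⊆ J'
  · exact eq_of_subset_of_card_le c h1.ge
  · obtain ⟨y, h2, h3⟩ := not_subset.1 c
    refine (eq_of_subset_of_card_le (fun x hx => ?_) h1.le).symm
    rcases le_total x y with l | l
    · exact mem_down j2 (mem_Ico.1 (j1' hx)).1 l h2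
    · exact absurd (mem_down j2' (mem_Ico.1 (j1 h2)).1 l hx) h3

end Cfsg.Agent.MO.J
end

-- part: MO/U/Def2
section
/-! # MO / U : the multiplicities of the candidates, statement (helper48) -/

set_option autoImplicit false

namespace Cfsg.Agent.MO.U.Tb

open Cfsg.Agent.LV.W Cfsg.Agent.LV.Enum Finset

variable (tb : Tb) (kl : List (List ℤ))

/-- the coordinate `φ` of the candidate `u`, times `N` -/
def cv (u φ : ℕ) : ℤ := nth 0 (nth [] (tb.V ++ kl) u) φ

/-- the test of the extra condition -/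
def bad (u : ℕ) : Bool := tb.tst (tb.cl.map fun c => dot (nth [] (tb.V ++ kl) u) (tb.L.col (c % 256)) / tb.N)

/-- **the multiplicities are determined** by the identity of Parseval and the extra condition -/
def Mu : Prop := ∀ c : ℕ → ℕ,
  (∀ φ < tb.L.nd.K, ∀ φ' < tb.L.nd.K, (∑ u ∈ range (tb.nu + kl.length), (c u : ℤ) * (tb.cv kl u φ * tb.cv kl u φ')) * tb.L.nd.ν φ =
    if φ = φ' then (tb.N : ℤ) ^ 2 * tb.L.nd.ν 0 else 0) →
  ∑ u ∈ range (tb.nu + kl.length) with tb.bad kl u = true, c u ≤ tb.bx → ∀ u < tb.nu + kl.length, c u = tb.m u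

example := And.intro @cv.eq_1 (And.intro @bad.eq_1 @Mu.eq_1)

end Cfsg.Agent.MO.U.Tb
end

-- part: MO/WT/Abs
section
/-!
# MO/WT: the columns of an untwisted node are the irreducible characters of `W_J`; the rules (helper27)

`VC cs nd em J a` : `a` is the coordinate vector of a generalized character of `W_J`.
-/

set_option autoImplicit false
set_option linter.unusedSectionVars false

namespace Cfsg.Agent.MO.WT

open Cfsg CoxeterSystem Cfsg.Agent.Tits.Exchange Cfsg.Agent.Tits.Core Cfsg.Agent.ChevalleyStructure.CoxeterGeom Cfsg.Agent.LV.T Cfsg.Agent.LV.W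
  Cfsg.Agent.Characters.Core Finset

section gen

variable {G : Type} [Group G]

theorem gen_of_char {f : G → ℂ} (h : IsCharacter G f) : IsGeneralizedCharacter G f :=
  ⟨f, 0, h, isCharacter_zero, (sub_zero f).symm⟩

theorem gen_add {f g : G → ℂ} (hf : IsGeneralizedCharacter G f) (hg : IsGeneralizedCharacter G g) :
    IsGeneralizedCharacter G (f + g) := by
  obtain ⟨a, b, ha, hb, rfl⟩ := hf
  obtain ⟨c, d, hc, hd, rfl⟩ := hg
  exact ⟨a + c, b + d, isCharacter_add ha hc, isCharacter_add hb hd, by ring⟩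

theorem gen_neg {f : G → ℂ} (hf : IsGeneralizedCharacter G f) : IsGeneralizedCharacter G (-f) := by
  obtain ⟨a, b, ha, hb, rfl⟩ := hf
  exact ⟨b, a, hb, ha, by ring⟩

theorem gen_mul {f g : G → ℂ} (hf : IsGeneralizedCharacter G f) (hg : IsGeneralizedCharacter G g) :
    IsGeneralizedCharacter G (f * g) := by
  obtain ⟨a, b, ha, hb, rfl⟩ := hf
  obtain ⟨c, d, hc, hd, rfl⟩ := hg
  exact ⟨a * c + b * d, a * d + b * c, isCharacter_add (isCharacter_mul ha hc) (isCharacter_mul hb hd),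
    isCharacter_add (isCharacter_mul ha hd) (isCharacter_mul hb hc), by ring⟩

theorem gen_zsmul {f : G → ℂ} (hf : IsGeneralizedCharacter G f) (m : ℤ) : IsGeneralizedCharacter G (m • f) := by
  induction m using Int.induction_on with
  | zero => rw [zero_smul]; exact gen_of_char isCharacter_zero
  | succ n ih => rw [add_smul, one_smul]; exact gen_add ih hf
  | pred n ih => rw [sub_smul, one_smul, sub_eq_add_neg]; exact gen_add ih (gen_neg hf)

theorem gen_sum {ι : Type} (s : Finset ι) {f : ι → G → ℂ} (hf : ∀ i ∈ s, IsGeneralizedCharacter G (f i)) :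
    IsGeneralizedCharacter G (∑ i ∈ s, f i) :=
  sum_induction f _ (fun _ _ => gen_add) (gen_of_char isCharacter_zero) hf

theorem gen_class {f : G → ℂ} (hf : IsGeneralizedCharacter G f) : IsClassFunction G f := by
  obtain ⟨a, b, ha, hb, rfl⟩ := hf
  intro g x
  rw [Pi.sub_apply, Pi.sub_apply, isCharacter_isClassFunction ha g x, isCharacter_isClassFunction hb g x]

/-- a class function acts on an irreducible character by a scalar -/
theorem irr_eig [Fintype G] {χ θ : G → ℂ} (hχ : IsIrrCharacter G χ) (hθ : IsClassFunction G θ) :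
    ∃ c : ℂ, ∀ u, ∑ g, θ g * χ (g * u) = c * χ u := by
  obtain ⟨n, ρ, h1, rfl⟩ := hχ
  refine ⟨(∑ g, θ g * ρ.character g) / ρ.character 1, fun u => ?_⟩
  have h2 := congrArg (fun T => LinearMap.trace ℂ _ (T * ρ u)) (Characters.Central.sum_classFun_smul ρ h1 hθ)
  simp only [sum_mul, smul_mul_assoc, one_mul, map_sum, map_smul, smul_eq_mul, ← map_mul] at h2
  exact h2

/-- the permutation character of an action which is given by a code -/
theorem perm_char [Finite G] (c : G → ℕ) (hc : ∀ x g g', c g = c g' → c (x * g) = c (x * g')) {L : List ℕ}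
    (hL : L.Nodup) (hm : ∀ N, N ∈ L ↔ ∃ g, c g = N) : ∃ π, IsCharacter G π ∧
      ∀ (x : G) (p : ℕ → Bool), (∀ g, p (c g) = true ↔ c (x * g) = c g) → π x = (L.countP p : ℕ) := by
  classical
  let Ω := {N // N ∈ L}
  choose r hr using fun ω : Ω => (hm ω.1).1 ω.2
  let mk : G → Ω := fun g => ⟨c g, (hm _).2 ⟨g, rfl⟩⟩
  have h1 : ∀ x g, mk (x * r (mk g)) = mk (x * g) := fun x g => Subtype.ext (hc x _ _ (hr (mk g)))
  let act : MulAction G Ω :=
    { smul := fun x ω => mk (x * r ω)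
      one_smul := fun ω => Subtype.ext ((congrArg c (one_mul _)).trans (hr ω))
      mul_smul := fun x y ω => ((h1 x _).trans (congrArg mk (mul_assoc x y _).symm)).symm }
  refine ⟨_, isCharacter_of_rep (Representation.ofMulAction ℂ G Ω), fun x p hp => ?_⟩
  unfold Representation.character
  rw [LinearMap.trace_eq_matrix_trace ℂ (MonoidAlgebra.basis Ω ℂ), Matrix.trace]
  simp only [Matrix.diag_apply, LinearMap.toMatrix_apply, MonoidAlgebra.basis_apply, Representation.ofMulAction_single]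
  have key : ∀ ω : Ω, ((MonoidAlgebra.basis Ω ℂ).repr (MonoidAlgebra.single (x • ω) (1 : ℂ))) ω =
      if p ω.1 = true then (1 : ℂ) else 0 := fun ω => by
    rw [← MonoidAlgebra.basis_apply, Module.Basis.repr_self, Finsupp.single_apply]
    refine if_congr ?_ rfl rfl
    rw [← hr ω, hp, hr ω]
    exact Subtype.ext_iff
  rw [sum_congr rfl fun ω _ => key ω, sum_boole, List.countP_eq_length_filter,
    ← List.toFinset_card_of_nodup (hL.filter _)]
  congr 1
  refine card_bij (fun ω _ => ω.1) (fun ω h => ?_) (fun _ _ _ _ => Subtype.ext) fun N h => ?_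
  · rw [List.mem_toFinset, List.mem_filter]
    exact ⟨ω.2, (mem_filter.1 h).2⟩
  · rw [List.mem_toFinset, List.mem_filter] at h
    exact ⟨⟨N, h.1⟩, mem_filter.2 ⟨mem_univ _, h.2⟩, rfl⟩

end gen

variable {I W : Type} [Fintype I] [DecidableEq I] [Group W] [Fintype W] {M : CoxeterMatrix I}
  {cs : CoxeterSystem M W} {A : I → I → ℤ} {h : IsCartan M A} {nd : Nd} {em : ℕ → I} {J : Set I}

theorem ext_inv {f : WJ cs J → ℂ} (hf : IsClassFunction _ f) : _root_.Cfsg.Agent.LV.W.Inv cs 1 J (extendByZero (WJ cs J) f) := by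
  intro g hg u
  rw [MulAut.one_apply]
  by_cases hu : u ∈ WJ cs J
  · rw [extendByZero_of_mem _ _ (mul_mem hg hu), extendByZero_of_mem _ _ (mul_mem hu hg),
      ← hf ⟨u * g, _⟩ ⟨g, hg⟩]
    exact congrArg f (Subtype.ext (by simp only [mul_assoc, _root_.MulMemClass.mk_mul_mk, _root_.Subgroup.coe_mul, _root_.InvMemClass.coe_inv, _root_.mul_inv_cancel, _root_.mul_one]))
  · rw [extendByZero_of_notMem _ _ fun h1 => hu ((Subgroup.mul_mem_cancel_left _ hg).1 h1),
      extendByZero_of_notMem _ _ fun h1 => hu ((Subgroup.mul_mem_cancel_right _ hg).1 h1)]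

theorem el_mem (F : Fit cs h 1 nd.toTy em J 1) (k : ℕ) : el cs nd em 1 k ∈ WJ cs J := mul_mem (F.wd_mem _) (one_mem _)

/-- the representative of the class `k` -/
def rp (F : Fit cs h 1 nd.toTy em J 1) (k : ℕ) : WJ cs J := ⟨wd cs em nd.r (nd.e k), F.wd_mem _⟩

theorem ext_el (F : Fit cs h 1 nd.toTy em J 1) (f : WJ cs J → ℂ) (k : ℕ) :
    extendByZero (WJ cs J) f (el cs nd em 1 k) = f (rp F k) := by
  rw [extendByZero_of_mem _ _ (el_mem F k)]
  exact congrArg f (Subtype.ext (mul_one _))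

/-- `a` is the coordinate vector of a generalized character -/
def VC (F : Fit cs h 1 nd.toTy em J 1) (a : ℕ → ℤ) : Prop :=
  ∃ f, IsGeneralizedCharacter (WJ cs J) f ∧ ∀ k < nd.K, f (rp F k) = ((∑ φ ∈ range nd.K, a φ * nd.X φ k : ℤ) : ℂ)

variable {F : Fit cs h 1 nd.toTy em J 1}

theorem rp_iff {f : WJ cs J → ℂ} {a : ℕ → ℤ} : Rp cs nd em 1 (extendByZero (WJ cs J) f) (fun φ => a φ) ↔
    ∀ k < nd.K, f (rp F k) = ((∑ φ ∈ range nd.K, a φ * nd.X φ k : ℤ) : ℂ) := by
  refine forall₂_congr fun k _ => ?_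
  rw [ext_el F]
  push_cast; rfl

theorem VC.congr {a a' : ℕ → ℤ} (H : VC F a) (e : ∀ φ < nd.K, a φ = a' φ) : VC F a' :=
  H.imp fun _ hf => ⟨hf.1, fun k hk => by rw [hf.2 k hk, sum_congr rfl fun φ hφ => by rw [e φ (mem_range.1 hφ)]]⟩

theorem VC.zero : VC F fun _ => 0 := ⟨0, gen_of_char isCharacter_zero, fun _ _ => by simp⟩

theorem VC.add {a a' : ℕ → ℤ} (H : VC F a) (H' : VC F a') : VC F fun φ => a φ + a' φ := by
  obtain ⟨f, h1, h2⟩ := H
  obtain ⟨g, h3, h4⟩ := H'
  refine ⟨f + g, gen_add h1 h3, fun k hk => ?_⟩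
  rw [Pi.add_apply, h2 k hk, h4 k hk, ← Int.cast_add, ← sum_add_distrib]
  simp only [add_mul]

theorem VC.smul {a : ℕ → ℤ} (H : VC F a) (m : ℤ) : VC F fun φ => m * a φ := by
  obtain ⟨f, h1, h2⟩ := H
  refine ⟨m • f, gen_zsmul h1 m, fun k hk => ?_⟩
  rw [Pi.smul_apply, h2 k hk, zsmul_eq_mul, ← Int.cast_mul, mul_sum]
  simp only [mul_assoc]

theorem VC.sum {ι : Type} (s : Finset ι) {a : ι → ℕ → ℤ} (H : ∀ i ∈ s, VC F (a i)) : VC F fun φ => ∑ i ∈ s, a i φ := by
  classical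
  induction s using Finset.induction_on with
  | empty => exact VC.zero
  | insert i s hi ih =>
    exact ((H i (mem_insert_self _ _)).add (ih fun j hj => H j (mem_insert_of_mem hj))).congr fun φ _ => by
      rw [sum_insert hi]

/-- the level projection -/
theorem VC.lev (G : nd.Good) {c : Cs} (hc : c ∈ nd.cas) {a : ℕ → ℤ} (H : VC F a) (c₀ : ℤ) :
    VC F fun φ => if nth 0 c.lev φ = c₀ then a φ else 0 := by
  classical
  obtain ⟨f, h1, h2⟩ := H
  have h3 := ((rp_iff (F := F)).2 h2).lev F G hc (ext_inv (gen_class h1)) c₀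
  have := finite_irr (G := WJ cs J)
  have := Fintype.ofFinite (IrrCharacter (WJ cs J))
  obtain ⟨m, rfl⟩ := isGeneralizedCharacter_iff.1 h1
  have hN := F.node G hc
  have hθ : IsClassFunction (WJ cs J) fun g => if (g : W) ∈ rf cs (c.set em) then 1 else 0 := fun g x =>
    if_congr (conj_mem_rf (node_conj hN x.2) g).symm rfl rfl
  choose z hz using fun χ : IrrCharacter (WJ cs J) => irr_eig χ.2 hθ
  have h4 : ∀ χ : IrrCharacter (WJ cs J), ∀ x ∈ WJ cs J, ∑ t ∈ rf cs (c.set em), extendByZero _ χ.1 (t * (x * 1)) =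
      z χ * extendByZero _ χ.1 (x * 1) := fun χ x hx => by
    rw [mul_one, extendByZero_of_mem _ _ hx, ← hz]
    simp only [ite_mul, one_mul, zero_mul]
    rw [← sum_filter]
    refine (sum_bij (fun (g : WJ cs J) _ => (g : W)) (fun g hg => (mem_filter.1 hg).2) (fun _ _ _ _ => Subtype.ext)
      (fun t ht => ?_) fun g _ => ?_).symm
    · exact ⟨⟨t, WJ_mono cs hN.sub (mem_rf.1 ht).2⟩, mem_filter.2 ⟨mem_univ _, ht⟩, rfl⟩
    rw [extendByZero_of_mem _ _ (mul_mem g.2 hx)]; rfl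
  refine ⟨∑ χ, (if z χ = c₀ then m χ else 0) • χ.1, isGeneralizedCharacter_iff.2 ⟨_, rfl⟩, fun k hk => ?_⟩
  have h5 : extendByZero (WJ cs J) (∑ χ, m χ • χ.1) = ∑ χ, (m χ : ℂ) • extendByZero (WJ cs J) χ.1 := by
    funext u
    by_cases hu : u ∈ WJ cs J
    · simp only [extendByZero_of_mem _ _ hu, _root_.zsmul_eq_mul, _root_.Finset.sum_apply, _root_.Pi.mul_apply, _root_.Pi.intCast_apply, _root_.Pi.smul_apply, _root_.smul_eq_mul]
    · simp only [extendByZero_of_notMem _ _ hu, _root_.zsmul_eq_mul, _root_.Finset.sum_apply, _root_.Pi.smul_apply, _root_.smul_eq_mul, _root_.MulZeroClass.mul_zero, _root_.Finset.sum_const_zero]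
  have h6 := h3 k hk
  rw [h5, map_sum, Finset.sum_apply, el] at h6
  have h7 : ((∑ φ ∈ range nd.K, (if nth 0 c.lev φ = c₀ then a φ else 0) * nd.X φ k : ℤ) : ℂ) =
      ∑ φ ∈ range nd.K, (if nth 0 c.lev φ = c₀ then (a φ : ℂ) else 0) * nd.X φ k := by
    push_cast; rfl
  rw [h7, ← h6, Finset.sum_apply]
  refine sum_congr rfl fun χ _ => ?_
  rw [map_smul, Pi.smul_apply, Pi.smul_apply, lev_eig hN.sub (h4 χ) _ (F.wd_mem _), ← el, ext_el F]
  split_ifs <;> simp

/-- a generalized character with known values -/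
theorem VC.ofVal (G : nd.Good) {f : WJ cs J → ℂ} (hf : IsGeneralizedCharacter _ f) {v a : ℕ → ℤ}
    (hv : ∀ k < nd.K, f (rp F k) = v k)
    (ha : ∀ φ < nd.K, ∑ k ∈ range nd.K, nd.n k * v k * nd.X φ k = nd.ν φ * a φ) : VC F a := by
  refine ⟨f, hf, fun k hk => ?_⟩
  rw [hv k hk, G.exp (fun k => (v k : ℂ)) hk]
  push_cast
  refine sum_congr rfl fun φ hφ => congrArg (· * _) ?_
  have h1 : (nd.ν φ : ℂ) ≠ 0 := Int.cast_ne_zero.2 (G.orth (mem_range.1 hφ)).1.ne'
  have h2 := congrArg (Int.cast : ℤ → ℂ) (ha φ (mem_range.1 hφ))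
  rw [Nd.co, div_eq_iff h1, mul_comm (a φ : ℂ), ← Int.cast_mul, ← h2]
  push_cast
  exact sum_congr rfl fun k _ => by ring

variable (F) in
/-- the column `φ` is a generalized character -/
def UC (φ : ℕ) : Prop := ∃ f, IsGeneralizedCharacter (WJ cs J) f ∧ ∀ k < nd.K, f (rp F k) = nd.X φ k

theorem uc_iff {φ : ℕ} (hφ : φ < nd.K) : UC F φ ↔ VC F fun i => if i = φ then 1 else 0 := by
  refine exists_congr fun f => and_congr_right fun _ => forall₂_congr fun k _ => ?_
  simp [hφ]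

theorem uc_zero (G : nd.Good) : UC F 0 :=
  ⟨1, gen_of_char isCharacter_one, fun k hk => by rw [(G.spec.2.2.2.1 k hk).2]; simp⟩

theorem class_ext (G : nd.Good) {f g : WJ cs J → ℂ} (hf : IsClassFunction _ f) (hg : IsClassFunction _ g)
    (e : ∀ k < nd.K, f (rp F k) = g (rp F k)) : f = g := by
  funext x
  obtain ⟨k, hk, h1⟩ := F.cover G x.2
  have h2 := h1 _ (ext_inv hf)
  have h3 := h1 _ (ext_inv hg)
  rw [ext_el F, mul_one, extendByZero_of_mem _ _ x.2] at h2 h3
  exact h2.trans ((e k hk).trans h3.symm)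

theorem UC.irr (G : nd.Good) {φ : ℕ} (hφ : φ < nd.K) (H : UC F φ) (h1 : nd.ν φ = nd.ν 0) (h2 : 0 < nd.X φ 0) :
    ∃ f, IsIrrCharacter (WJ cs J) f ∧ ∀ k < nd.K, f (rp F k) = nd.X φ k := by
  classical
  obtain ⟨f, hf, hv⟩ := H
  refine ⟨f, ?_, hv⟩
  have h3 : Rp cs nd em 1 (extendByZero (WJ cs J) f) fun i => ((if i = φ then 1 else 0 : ℚ) : ℂ) := fun k hk => by
    rw [ext_el F, hv k hk, sum_eq_single φ (fun i _ hi => by simp [hi]) fun h4 => absurd (mem_range.2 hφ) h4]
    simp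
  have h4 := h3.norm F G (ext_inv (gen_class hf))
  have h5 : (nd.ν 0 : ℚ) ≠ 0 := Int.cast_ne_zero.2 (G.orth G.spec.2.1).1.ne'
  rw [sum_eq_single φ (fun i _ hi => by simp [hi]) fun h4 => absurd (mem_range.2 hφ) h4, if_pos rfl, h1, one_pow,
    mul_one, div_self h5, Rat.cast_one, mul_one] at h4
  have h6 : classInner f f = 1 := by
    rw [classInner_def, inv_mul_eq_one₀ card_ne_zero_complex, ← Complex.ofReal_natCast, ← h4, Complex.ofReal_sum]
    refine sum_congr rfl fun x _ => ?_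
    rw [mul_one, extendByZero_of_mem _ _ x.2, Complex.mul_conj, Complex.normSq_eq_norm_sq]
  refine (isIrr_of_generalized hf h6).resolve_right fun h7 => ?_
  obtain ⟨n, -, h8⟩ := isIrr_apply_one h7
  have h9 : rp F 0 = 1 := Subtype.ext (by show wd cs em nd.r (nd.e 0) = 1; rw [G.spec.2.2.1, wd_one])
  rw [Pi.neg_apply, ← h9, hv 0 G.spec.2.1] at h8
  have h10 : -nd.X φ 0 = n := by exact_mod_cast h8
  omega

variable (F) in
/-- **the character table** -/
structure Tab (χ : ℕ → WJ cs J → ℂ) : Prop where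
  irr : ∀ φ < nd.K, IsIrrCharacter (WJ cs J) (χ φ)
  val : ∀ φ < nd.K, ∀ k < nd.K, χ φ (rp F k) = nd.X φ k
  inj : ∀ φ < nd.K, ∀ φ' < nd.K, χ φ = χ φ' → φ = φ'
  sur : ∀ f, IsIrrCharacter (WJ cs J) f → ∃ φ < nd.K, χ φ = f

theorem exists_tab (G : nd.Good) (H : ∀ φ < nd.K, UC F φ ∧ nd.ν φ = nd.ν 0 ∧ 0 < nd.X φ 0) : ∃ χ, Tab F χ := by
  classical
  have h1 : ∀ φ, ∃ f, φ < nd.K → IsIrrCharacter (WJ cs J) f ∧ ∀ k < nd.K, f (rp F k) = nd.X φ k := fun φ => by
    by_cases hφ : φ < nd.K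
    · exact ((H φ hφ).1.irr G hφ (H φ hφ).2.1 (H φ hφ).2.2).imp fun f hf _ => hf
    · exact ⟨0, fun h => absurd h hφ⟩
  choose χ hχ using h1
  refine ⟨χ, fun φ hφ => (hχ φ hφ).1, fun φ hφ => (hχ φ hφ).2, fun φ hφ φ' hφ' e => ?_, fun f hf => ?_⟩
  · by_contra h2
    obtain ⟨h3, h4⟩ := G.orth hφ
    have h5 := h4 φ' hφ'
    rw [if_neg (Ne.symm h2), sum_congr rfl fun k hk => by
      rw [Int.cast_injective (((hχ φ' hφ').2 k (mem_range.1 hk)).symm.trans (e ▸ (hχ φ hφ).2 k (mem_range.1 hk)))],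
      h4 φ hφ, if_pos rfl] at h5
    omega
  · by_contra h2
    push Not at h2
    have h3 : f = ∑ φ ∈ range nd.K, nd.co (fun k => f (rp F k)) φ • χ φ :=
      class_ext (F := F) G (isIrr_isClassFunction hf) (fun g x => by
        rw [Finset.sum_apply, Finset.sum_apply]
        exact sum_congr rfl fun φ hφ => by
          rw [Pi.smul_apply, Pi.smul_apply, isIrr_isClassFunction (hχ φ (mem_range.1 hφ)).1 g x])
        fun k hk => by
          rw [G.exp (fun k => f (rp F k)) hk, Finset.sum_apply]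
          exact sum_congr rfl fun φ hφ => by rw [Pi.smul_apply, (hχ φ (mem_range.1 hφ)).2 k hk, smul_eq_mul]
    have h4 := classInner_irr_self hf
    nth_rw 1 [h3] at h4
    rw [classInner_sum_left, sum_eq_zero fun φ hφ => by
      rw [classInner_smul_left, classInner_irr_ne (hχ φ (mem_range.1 hφ)).1 hf (h2 φ (mem_range.1 hφ)), mul_zero]] at h4
    exact zero_ne_one h4

end Cfsg.Agent.MO.WT
end

-- part: MO/WT/Act
section
/-!
# MO/WT: the action on the orbit of a fundamental coweight, the reflection character (helper27)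
-/

set_option autoImplicit false
set_option linter.unusedSectionVars false

namespace Cfsg.Agent.MO.WT

open Cfsg CoxeterSystem Cfsg.Agent.Tits.Exchange Cfsg.Agent.Tits.Core Cfsg.Agent.Tits.Roots
  Cfsg.Agent.ChevalleyStructure.CoxeterGeom Cfsg.Agent.LV.T Cfsg.Agent.LV.W Cfsg.Agent.Characters.Core Finset

variable {I W : Type} [Fintype I] [DecidableEq I] [Group W] [Fintype W] {M : CoxeterMatrix I}
  (cs : CoxeterSystem M W) {A : I → I → ℤ} (h : IsCartan M A)

/-- the coefficient of the simple root `j` in `u⁻¹ α_i` -/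
def vc (em : ℕ → I) (j : ℕ) (u : W) (i : ℕ) : ℤ := rep cs h u⁻¹ (sr (em i)) (em j)

theorem vc_le (em : ℕ → I) (j : ℕ) (u : W) (i : ℕ) : |vc cs h em j u i| ≤ |vv cs h em u i| := by
  rcases nonneg_or_nonpos cs h u⁻¹ (em i) with h1 | h1
  · have h2 : vc cs h em j u i ≤ vv cs h em u i := single_le_sum (fun k _ => h1 k) (mem_univ (em j))
    rw [abs_of_nonneg (show 0 ≤ vc cs h em j u i from h1 _)]
    exact h2.trans (le_abs_self _)
  · have h2 : -vc cs h em j u i ≤ ∑ k, -rep cs h u⁻¹ (sr (em i)) k :=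
      single_le_sum (f := fun k => -rep cs h u⁻¹ (sr (em i)) k) (fun k _ => neg_nonneg.2 (h1 k)) (mem_univ (em j))
    rw [abs_of_nonpos (show vc cs h em j u i ≤ 0 from h1 _)]
    rw [sum_neg_distrib] at h2
    exact h2.trans (neg_le_abs _)

/-- the code of the image of the coweight `j` -/
def cw (t : Ty) (em : ℕ → I) (j : ℕ) (u : W) : ℕ := pk t.r (vc cs h em j u)

variable {cs h} {ψ : MulAut W} {t : Ty} {em : ℕ → I} {J : Set I} {w : W}

theorem vc_step (F : Fit cs h ψ t em J w) (j : ℕ) (u : W) {a : ℕ} (ha : a < t.r) {i : ℕ} (hi : i < t.r) :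
    vc cs h em j (cs.simple (em a) * u) i = vc cs h em j u i - ga t.AL a i * vc cs h em j u a := by
  rw [vc, mul_inv_rev, cs.inv_simple, rep_mul_apply, rep_simple_eq, map_sub, map_zsmul, sr, pairing_single,
    F.car a ha i hi, mul_one]
  rfl

theorem vc_lt (F : Fit cs h ψ t em J w) (ht : t.ok = true) (j : ℕ) {u : W} (hu : u ∈ WJ cs J) :
    ∀ i < t.r, |vc cs h em j u i| < 64 := fun i hi =>
  (vc_le cs h em j u i).trans_lt (F.bound (Ty.ok_iff ht).2.2.2.1 hu i hi)

theorem step_cw (F : Fit cs h ψ t em J w) (ht : t.ok = true) (j : ℕ) {m : ℕ} {sg : ℕ → ℕ} {tab : ℕ} (hm : m ≤ 16)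
    (hb : tabOK m t.r t.AL sg tab = true) {d : ℕ} (hd : d < 16) {u : W} (hu : u ∈ WJ cs J) :
    step tab d (cw cs h t em j u) = cw cs h t em j (sl cs em m sg d * u) := by
  have hr := (Ty.ok_iff ht).1
  unfold sl
  split_ifs with h1
  · have h2 := tabOK_lt hm hb h1
    exact step_pk hr hb h1 hd (vc_lt F ht j hu) (vc_lt F ht j (mul_mem (simple_mem_WJ cs (F.em_mem h2)) hu))
      fun a ha => vc_step F j u h2 ha
  · rw [one_mul]
    exact step_out hb h1 hd (pk_lt hr (vc_lt F ht j hu))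

theorem runF_cw (F : Fit cs h ψ t em J w) (ht : t.ok = true) (j : ℕ) {m : ℕ} {sg : ℕ → ℕ} {tab : ℕ} (hm : m ≤ 16)
    (hb : tabOK m t.r t.AL sg tab = true) (f n : ℕ) {u : W} (hu : u ∈ WJ cs J) :
    runF tab f n (cw cs h t em j u) = cw cs h t em j (wdF cs em m sg f n * u) := by
  have hs := fun i (hi : i < m) => tabOK_lt hm hb hi
  induction f generalizing n u with
  | zero => exact congrArg (cw cs h t em j) (one_mul u).symm
  | succ f ih =>
    show cond (Nat.ble n 1) _ (runF tab f (n >>> 4) (step tab (n % 16) _)) =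
      cw cs h t em j ((if n ≤ 1 then 1 else wdF cs em m sg f (n / 16) * sl cs em m sg (n % 16)) * u)
    by_cases h1 : n ≤ 1
    · rw [Nat.ble_eq_true_of_le h1, if_pos h1, one_mul]; rfl
    · have h2 : Nat.ble n 1 = false := Bool.eq_false_iff.2 fun h3 => h1 (Nat.le_of_ble_eq_true h3)
      rw [h2, if_neg h1, step_cw F ht j hm hb (Nat.mod_lt _ (by norm_num)) hu, Nat.shiftRight_eq_div_pow, mul_assoc]
      exact ih _ (mul_mem (F.sl_mem hs _) hu)

theorem run_cw (F : Fit cs h ψ t em J w) (ht : t.ok = true) (j n : ℕ) {u : W} (hu : u ∈ WJ cs J) :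
    run t.tab n (cw cs h t em j u) = cw cs h t em j (wd cs em t.r n * u) :=
  runF_cw F ht j (Ty.ok_iff ht).1 (Ty.ok_iff ht).2.1 _ n hu

theorem step_cw' (F : Fit cs h ψ t em J w) (ht : t.ok = true) (j : ℕ) {a : ℕ} (ha : a < t.r) {u : W}
    (hu : u ∈ WJ cs J) : step t.tab a (cw cs h t em j u) = cw cs h t em j (cs.simple (em a) * u) := by
  rw [step_cw F ht j (Ty.ok_iff ht).1 (Ty.ok_iff ht).2.1 (lt_of_lt_of_le ha (Ty.ok_iff ht).1) hu, sl, if_pos ha]
  rfl

theorem cw_congr (F : Fit cs h ψ t em J w) (ht : t.ok = true) (j : ℕ) {x g g' : W} (hx : x ∈ WJ cs J)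
    (hg : g ∈ WJ cs J) (hg' : g' ∈ WJ cs J) (e : cw cs h t em j g = cw cs h t em j g') :
    cw cs h t em j (x * g) = cw cs h t em j (x * g') := by
  refine WJ_ind (P := fun x => cw cs h t em j (x * g) = cw cs h t em j (x * g')) (by simpa using e) ?_ hx
  intro i hi u hu ih
  obtain ⟨a, ha, rfl⟩ := (F.mem i).1 hi
  rw [mul_assoc, mul_assoc, ← step_cw' F ht j ha (mul_mem hu hg), ← step_cw' F ht j ha (mul_mem hu hg'), ih]

/-- the letters are different -/
def injOK (t : Ty) : Bool := allLt t.r fun a => allLt t.r fun b => Nat.beq a b || decide (ga t.AL a b ≠ 2)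

theorem em_inj (F : Fit cs h ψ t em J w) (hi : injOK t = true) {a b : ℕ} (ha : a < t.r) (hb : b < t.r)
    (e : em a = em b) : a = b := by
  have h1 := allLt_iff.1 (allLt_iff.1 hi a ha) b hb
  rw [Bool.or_eq_true, Nat.beq_eq, decide_eq_true_eq, ← F.car a ha b hb, e, h.diag] at h1
  exact h1.resolve_right fun h2 => h2 rfl

/-- the code of the coweight -/
def st (r j : ℕ) : ℕ := pk r fun a => if a = j then 1 else 0

/-- the same, for the kernel -/
def st' (r j : ℕ) : ℕ := Nat.rec 0 (fun a ih => Nat.add ih (Nat.shiftLeft (cond (Nat.beq a j) 65 64) (Nat.mul 8 a))) r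

theorem st_eq (r j : ℕ) : st' r j = st r j := by
  induction r with
  | zero => rfl
  | succ r ih =>
    show st' r j + (cond (Nat.beq r j) 65 64) <<< (8 * r) = _
    rw [ih, st, st, pk, pk, sum_range_succ, Nat.shiftLeft_eq, pow_mul]
    by_cases e : r = j
    · rw [if_pos e, e, Nat.beq_refl]; rfl
    · rw [if_neg e, Bool.eq_false_iff.2 fun h1 => e (Nat.eq_of_beq_eq_true h1)]; rfl

theorem cw_one (F : Fit cs h ψ t em J w) (hi : injOK t = true) {j : ℕ} (hj : j < t.r) :
    cw cs h t em j 1 = st' t.r j := by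
  rw [st_eq, cw, st, pk, pk]
  refine sum_congr rfl fun a ha => ?_
  rw [vc, inv_one, map_one, Module.End.one_apply]
  by_cases e : a = j
  · rw [if_pos e, e, sr_self]
  · rw [if_neg e, sr_ne fun h1 => e (em_inj F hi hj (mem_range.1 ha) h1).symm]

/-- membership -/
def mem (N : ℕ) (L : List ℕ) : Bool := List.rec false (fun a _ ih => cond (Nat.beq a N) true ih) L

theorem mem_iff {N : ℕ} {L : List ℕ} : mem N L = true ↔ N ∈ L := by
  induction L with
  | nil => simp [mem]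
  | cons a L ih =>
    show cond (Nat.beq a N) true (mem N L) = true ↔ _
    rw [List.mem_cons, ← ih]
    by_cases e : a = N
    · simp [e]
    · rw [Bool.eq_false_iff.2 fun h1 => e (Nat.eq_of_beq_eq_true h1)]
      simp [Ne.symm e]

/-- no repetition -/
def ndp (L : List ℕ) : Bool := List.rec true (fun a l ih => cond (mem a l) false ih) L

theorem ndp_spec {L : List ℕ} (hL : ndp L = true) : L.Nodup := by
  induction L with
  | nil => exact List.nodup_nil
  | cons a L ih =>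
    have h1 : cond (mem a L) false (ndp L) = true := hL
    cases e : mem a L
    · rw [e] at h1
      exact List.nodup_cons.2 ⟨fun h2 => by simp [mem_iff.2 h2] at e, ih h1⟩
    · rw [e] at h1; exact absurd h1 Bool.false_ne_true

/-- number of fixed points -/
def fixN (f : ℕ → ℕ) (L : List ℕ) : ℕ := List.rec 0 (fun a _ ih => cond (Nat.beq (f a) a) (Nat.succ ih) ih) L

theorem fixN_eq (f : ℕ → ℕ) (L : List ℕ) : fixN f L = L.countP fun a => Nat.beq (f a) a := by
  induction L with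
  | nil => rfl
  | cons a L ih =>
    show cond (Nat.beq (f a) a) (fixN f L + 1) (fixN f L) = _
    rw [List.countP_cons, ih]
    cases Nat.beq (f a) a <;> rfl

/-- `L` is the orbit of the coweight `j`, `ws` are the words -/
def orbOK (t : Ty) (j : ℕ) (ws L : List ℕ) : Bool :=
  injOK t && Nat.blt j t.r && all2 (fun n N => Nat.beq (run t.tab n (st' t.r j)) N) ws L && mem (st' t.r j) L && ndp L &&
    L.all fun N => allLt t.r fun a => mem (step t.tab a N) L

/-- the permutation character -/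
theorem orb_char (F : Fit cs h ψ t em J w) (ht : t.ok = true) {j : ℕ} {ws L : List ℕ} (H : orbOK t j ws L = true) :
    ∃ π, IsCharacter (WJ cs J) π ∧ ∀ (x : WJ cs J) (f : ℕ → ℕ),
      (∀ u ∈ WJ cs J, f (cw cs h t em j u) = cw cs h t em j (x * u)) → π x = (fixN f L : ℕ) := by
  simp only [orbOK, Bool.and_eq_true, all2_iff, Nat.blt_eq, Nat.beq_eq, mem_iff, List.all_eq_true, allLt_iff] at H
  obtain ⟨⟨⟨⟨⟨h1, h2⟩, h3⟩, h4⟩, h5⟩, h6⟩ := H
  rw [← cw_one F h1 h2] at h3 h4
  obtain ⟨π, h7, h8⟩ := perm_char (G := WJ cs J) (fun g => cw cs h t em j g)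
    (fun x g g' e => cw_congr F ht j x.2 g.2 g'.2 e) (ndp_spec h5) fun N => ⟨fun hN => by
      obtain ⟨n, -, e⟩ := forall₂_mem_right h3 hN
      exact ⟨⟨_, mul_mem (F.wd_mem n) (one_mem _)⟩, (run_cw F ht j n (one_mem _)).symm.trans e⟩, by
      rintro ⟨g, rfl⟩
      refine WJ_ind (P := fun g => cw cs h t em j g ∈ L) h4 (fun i hi u hu ih => ?_) g.2
      obtain ⟨a, ha, rfl⟩ := (F.mem i).1 hi
      rw [← step_cw' F ht j ha hu]
      exact h6 _ ih a ha⟩
  refine ⟨π, h7, fun x f hf => ?_⟩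
  rw [fixN_eq]
  exact h8 x _ fun g => by rw [Nat.beq_eq, hf g g.2]; rfl

/-- the trace of `f` -/
def trN (r : ℕ) (f : ℕ → ℕ) : ℤ := sumLt r fun a => (dg (f (st' r a)) a : ℤ) - 64

/-- the reflection character -/
theorem refl_char (F : Fit cs h ψ t em J w) (ht : t.ok = true) (hi : injOK t = true) :
    ∃ π, IsGeneralizedCharacter (WJ cs J) π ∧ ∀ (x : WJ cs J) (f : ℕ → ℕ),
      (∀ j, ∀ u ∈ WJ cs J, f (cw cs h t em j u) = cw cs h t em j (x * u)) → π x = (trN t.r f : ℤ) := by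
  classical
  let m : W →* Matrix I I ℂ := ((Int.castRingHom ℂ).mapMatrix.toMonoidHom.comp
    (LinearMap.toMatrixAlgEquiv' (R := ℤ) (n := I)).toRingEquiv.toRingHom.toMonoidHom).comp (rep cs h)
  let ρ : Representation ℂ (WJ cs J) (I → ℂ) :=
    (Matrix.toLinAlgEquiv' (R := ℂ) (n := I)).toRingEquiv.toRingHom.toMonoidHom.comp (m.comp (WJ cs J).subtype)
  have h1 : ∀ x : WJ cs J, ρ.character x = ((∑ i, rep cs h x (sr i) i : ℤ) : ℂ) := fun x => by
    show LinearMap.trace ℂ _ (Matrix.toLin' (m x)) = _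
    rw [Matrix.trace_toLin'_eq, Int.cast_sum]
    refine sum_congr rfl fun i _ => ?_
    show ((LinearMap.toMatrix' (rep cs h x) i i : ℤ) : ℂ) = _
    rw [LinearMap.toMatrix'_apply]
    rfl
  have h2 : ∀ i, i ∉ J → ∀ u ∈ WJ cs J, rep cs h u (sr i) i = 1 := fun i hi u hu =>
    WJ_ind (P := fun u => rep cs h u (sr i) i = 1) (by rw [map_one, Module.End.one_apply, sr_self])
      (fun a ha u _ ih => by rw [rep_mul_apply, rep_simple_apply cs h a _ i fun e => hi (e ▸ ha), ih]) hu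
  refine ⟨(fun x => ρ.character x⁻¹) + (-((univ.filter fun i => ¬ i ∈ J).card : ℤ)) • 1,
    gen_add (gen_of_char (isCharacter_inv (isCharacter_of_rep ρ))) (gen_zsmul (gen_of_char isCharacter_one) _),
    fun x f hf => ?_⟩
  have h3 : ∑ i, rep cs h (x⁻¹ : WJ cs J) (sr i) i = trN t.r f + (univ.filter fun i => ¬ i ∈ J).card := by
    rw [← sum_filter_add_sum_filter_not univ (fun i => i ∈ J), trN, sumLt_eq]
    congr 1
    · refine (sum_bij (fun a _ => em a) (fun a ha => mem_filter.2 ⟨mem_univ _, F.em_mem (mem_range.1 ha)⟩)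
        (fun a ha b hb => em_inj F hi (mem_range.1 ha) (mem_range.1 hb)) (fun i hi => ?_) fun a ha => ?_).symm
      · obtain ⟨a, ha, e⟩ := (F.mem i).1 (mem_filter.1 hi).2
        exact ⟨a, mem_range.2 ha, e⟩
      · rw [← cw_one F hi (mem_range.1 ha), hf a 1 (one_mem _), mul_one, cw,
          pk_dig (vc_lt F ht a x.2) (mem_range.1 ha), add_sub_cancel_right]
        rfl
    · rw [sum_congr rfl fun i hi => h2 i (mem_filter.1 hi).2 _ (x⁻¹).2]
      simp only [_root_.Finset.sum_const, _root_.Int.nsmul_eq_mul, _root_.mul_one]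
  rw [Pi.add_apply, h1, h3]
  simp only [_root_.Int.cast_add, _root_.Int.cast_natCast, _root_.Pi.smul_apply, _root_.Pi.one_apply, _root_.neg_smul, _root_.zsmul_eq_mul, _root_.mul_one, _root_.add_neg_cancel_right]

end Cfsg.Agent.MO.WT
end

-- part: MO/WT/Chk
section
/-!
# MO/WT: the checker (helper27)

`IrrT nd` : for every Coxeter system which fits the untwisted node `nd` the columns of `nd` are the irreducible characters.
-/

set_option autoImplicit false
set_option maxHeartbeats 400000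
set_option linter.unusedSectionVars false

namespace Cfsg.Agent.MO.WT

open Cfsg CoxeterSystem Cfsg.Agent.Tits.Exchange Cfsg.Agent.Tits.Core
  Cfsg.Agent.ChevalleyStructure.CoxeterGeom Cfsg.Agent.LV.T Cfsg.Agent.LV.W Cfsg.Agent.Characters.Core Finset

def idx (l : List ℤ) : ℕ → List (ℤ × ℕ) := List.rec (fun _ => []) (fun a _ ih m => (a, m) :: ih (Nat.succ m)) l

theorem idx_sum (g : ℕ → ℤ) {l : List ℤ} {m n : ℕ} (hl : ∀ p ∈ idx l m, p.2 < m + n) :
    ((idx l m).map fun p => p.1 * g p.2).sum = ∑ k ∈ range n, nth 0 l k * g (m + k) := by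
  induction l generalizing m n with
  | nil => simp [idx, nth_nil]
  | cons a l ih =>
    have e : idx (a :: l) m = (a, m) :: idx l (m + 1) := rfl
    rw [e] at hl ⊢
    cases n with
    | zero => exact absurd (hl _ List.mem_cons_self) (lt_irrefl m)
    | succ n =>
      rw [List.map_cons, List.sum_cons, ih (n := n) fun p hp => by
        have := hl p (List.mem_cons_of_mem _ hp); omega, sum_range_succ', add_comm]
      exact congrArg (· + a * g m) (sum_congr rfl fun k _ => by rw [nth_succ, add_assoc, add_comm 1 k, ← add_assoc])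

def zm (a : List ℤ) : List ℤ → List ℤ :=
  List.rec (fun _ => []) (fun x _ ih b => List.casesOn b [] fun y b' => x * y :: ih b') a

theorem nth_zm (a b : List ℤ) (i : ℕ) : nth 0 (zm a b) i = nth 0 a i * nth 0 b i := by
  induction a generalizing b i with
  | nil => exact (zero_mul _).symm
  | cons x a ih =>
    cases b with
    | nil => exact (mul_zero _).symm
    | cons y b =>
      cases i with
      | zero => rfl
      | succ i => exact ih b i

/-- the function with the values `v` has the coordinates `a` -/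
def valOK (nd : Nd) (XP v a : List ℤ) : Bool := nd.lin XP (idx (zm nd.nW v) 0) (zm nd.nu a)

theorem valOK_spec {nd : Nd} (G : nd.Good) {v a : List ℤ} (H : valOK nd nd.XP v a = true) {φ : ℕ} (hφ : φ < nd.K) :
    ∑ k ∈ range nd.K, nd.n k * nth 0 v k * nd.X φ k = nd.ν φ * nth 0 a φ := by
  obtain ⟨h1, h2⟩ := G.lin H
  have h3 := h2 φ hφ
  rw [idx_sum (nd.X φ) (n := nd.K) fun p hp => by rw [zero_add]; exact h1 p hp, nth_zm] at h3
  simp only [nth_zm, zero_add] at h3
  exact h3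

/-- instructions -/
inductive Ins where
  | orb (j : ℕ) (ws L : List ℕ) (out : List ℤ)
  | ref (out : List ℤ)
  | prod (a b : ℕ) (out : List ℤ)
  | unit (φ : ℕ) (cf : List (ℤ × ℕ))

def same (l : List Cs) (φ φ' : ℕ) : Bool := l.all fun c => decide (nth 0 c.lev φ' = nth 0 c.lev φ)

def unitOK (nd : Nd) (P : List (List ℤ)) (kn φ : ℕ) (cf : List (ℤ × ℕ)) : Bool :=
  Nat.blt φ nd.K && (cf.all fun p => Nat.blt p.2 P.length) && allLt nd.K fun φ' => Nat.testBit kn φ' || !same nd.cas φ φ' ||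
    decide (dotP cf (fun j => nth 0 (nth [] P j) φ') = cond (Nat.beq φ' φ) 1 0)

def go (nd : Nd) (XP : List ℤ) (pr : List Ins) : List (List ℤ) → ℕ → Bool :=
  List.rec (fun _ kn => allLt nd.K fun φ => Nat.testBit kn φ && decide (nd.ν φ = nd.ν 0) && decide (0 < nd.X φ 0))
    (fun i _ ih P kn => Ins.casesOn i
      (fun j ws L out => orbOK nd.toTy j ws L &&
        valOK nd XP ((List.range nd.K).map fun k => Int.ofNat (fixN (run nd.tab (nd.e k)) L)) out && ih (out :: P) kn)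
      (fun out => injOK nd.toTy &&
        valOK nd XP ((List.range nd.K).map fun k => trN nd.r (run nd.tab (nd.e k))) out && ih (out :: P) kn)
      (fun a b out => Nat.testBit kn a && Nat.testBit kn b &&
        valOK nd XP (nd.XC.map fun c => nth 0 c a * nth 0 c b) out && ih (out :: P) kn)
      (fun φ cf => unitOK nd P kn φ cf && ih P (Nat.lor kn (Nat.shiftLeft 1 φ)))) pr

variable {I W : Type} [Fintype I] [DecidableEq I] [Group W] [Fintype W] {M : CoxeterMatrix I}
  {cs : CoxeterSystem M W} {A : I → I → ℤ} {h : IsCartan M A} {nd : Nd} {em : ℕ → I} {J : Set I}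
  {F : Fit cs h 1 nd.toTy em J 1}

theorem VC.same (G : nd.Good) {a : ℕ → ℤ} (H : VC F a) (φ : ℕ) {l : List Cs} (hl : ∀ c ∈ l, c ∈ nd.cas) :
    VC F fun φ' => if same l φ φ' = true then a φ' else 0 := by
  induction l with
  | nil => exact H
  | cons c l ih =>
    refine ((ih fun z hz => hl z (List.mem_cons_of_mem _ hz)).lev G (hl c List.mem_cons_self)
      (nth 0 c.lev φ)).congr fun φ' _ => ?_
    have e : WT.same (c :: l) φ φ' = (decide (nth 0 c.lev φ' = nth 0 c.lev φ) && WT.same l φ φ') := rfl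
    rw [e]
    by_cases h1 : nth 0 c.lev φ' = nth 0 c.lev φ <;> simp [h1]

theorem unit_spec (G : nd.Good) {P : List (List ℤ)} (hP : ∀ l ∈ P, VC F (nth 0 l)) {kn : ℕ}
    (hk : ∀ φ, Nat.testBit kn φ = true → φ < nd.K ∧ UC F φ) {φ : ℕ} {cf : List (ℤ × ℕ)}
    (H : unitOK nd P kn φ cf = true) : φ < nd.K ∧ UC F φ := by
  simp only [unitOK, Bool.and_eq_true, Nat.blt_eq, List.all_eq_true, allLt_iff, Bool.or_eq_true, Bool.not_eq_true',
    decide_eq_true_eq] at H
  obtain ⟨⟨h1, h2⟩, h3⟩ := H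
  by_cases h4 : Nat.testBit kn φ = true
  · exact hk φ h4
  have h5 : VC F fun φ' => dotP cf fun j => nth 0 (nth [] P j) φ' := by
    clear h3
    induction cf with
    | nil => exact VC.zero
    | cons p cf ih =>
      refine VC.add (VC.smul (hP _ ?_) p.1) (ih fun q hq => h2 q (List.mem_cons_of_mem _ hq))
      rw [nth_eq, List.getD_eq_getElem _ _ (h2 p List.mem_cons_self)]
      exact List.getElem_mem _
  have h6 := h5.same G φ fun _ hc => hc
  generalize hb : (fun φ' => if same nd.cas φ φ' = true then dotP cf fun j => nth 0 (nth [] P j) φ' else 0) = b at h6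
  have h7 := VC.sum (F := F) ((range nd.K).filter fun i => Nat.testBit kn i = true)
    (a := fun i φ' => -b i * if φ' = i then 1 else 0) fun i hi =>
      ((uc_iff (mem_range.1 (mem_filter.1 hi).1)).1 (hk i (mem_filter.1 hi).2).2).smul _
  refine ⟨h1, (uc_iff h1).2 ((h6.add h7).congr fun φ' hφ' => ?_)⟩
  simp only [mul_ite, mul_one, mul_zero, sum_ite_eq, mem_filter, mem_range, hφ', true_and]
  by_cases h8 : Nat.testBit kn φ' = true
  · rw [if_pos h8, add_neg_cancel, if_neg fun e : φ' = φ => h4 (e ▸ h8)]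
  · rw [if_neg h8, add_zero, ← hb]
    rcases h3 φ' hφ' with (h9 | h9) | h9
    · exact absurd h9 h8
    · have h10 : φ' ≠ φ := by
        rintro rfl
        simp only [same, _root_.decide_true, _root_.List.all_eq_false, _root_.not_true_eq_false, _root_.and_false, _root_.exists_false] at h9
      simp [h9, h10]
    · by_cases e : φ' = φ
      · subst e
        have h10 : same nd.cas φ' φ' = true := by simp [same]
        simp [h9, h10]
      · rw [Bool.eq_false_iff.2 fun h10 => e (Nat.eq_of_beq_eq_true h10)] at h9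
        simp [h9, e]

theorem go_spec (G : nd.Good) (pr : List Ins) {P : List (List ℤ)} (hP : ∀ l ∈ P, VC F (nth 0 l)) {kn : ℕ}
    (hk : ∀ φ, Nat.testBit kn φ = true → φ < nd.K ∧ UC F φ) (H : go nd nd.XP pr P kn = true) :
    ∀ φ < nd.K, UC F φ ∧ nd.ν φ = nd.ν 0 ∧ 0 < nd.X φ 0 := by
  induction pr generalizing P kn with
  | nil =>
    intro φ hφ
    have h1 := allLt_iff.1 H φ hφ
    simp only [Bool.and_eq_true, decide_eq_true_eq] at h1
    exact ⟨(hk φ h1.1.1).2, h1.1.2, h1.2⟩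
  | cons i pr ih =>
    cases i with
    | orb j ws L out =>
      have h1 : (orbOK nd.toTy j ws L && valOK nd nd.XP ((List.range nd.K).map fun k =>
        Int.ofNat (fixN (run nd.tab (nd.e k)) L)) out && go nd nd.XP pr (out :: P) kn) = true := H
      simp only [Bool.and_eq_true] at h1
      obtain ⟨π, h2, h3⟩ := orb_char F G.ok h1.1.1
      refine ih (List.forall_mem_cons.2 ⟨VC.ofVal G (gen_of_char h2) (fun k hk => ?_)
        fun φ hφ => valOK_spec G h1.1.2 hφ, hP⟩) hk h1.2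
      rw [h3 (rp F k) (run nd.tab (nd.e k)) fun u hu => run_cw F G.ok j (nd.e k) hu, nth_eq, List.getD_eq_getElem _ _ (by simpa using hk)]
      simp
    | ref out =>
      have h1 : (injOK nd.toTy && valOK nd nd.XP ((List.range nd.K).map fun k => trN nd.r (run nd.tab (nd.e k)))
        out && go nd nd.XP pr (out :: P) kn) = true := H
      simp only [Bool.and_eq_true] at h1
      obtain ⟨π, h2, h3⟩ := refl_char F G.ok h1.1.1
      refine ih (List.forall_mem_cons.2 ⟨VC.ofVal G h2 (fun k hk => ?_)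
        fun φ hφ => valOK_spec G h1.1.2 hφ, hP⟩) hk h1.2
      rw [h3 (rp F k) (run nd.tab (nd.e k)) fun j u hu => run_cw F G.ok j (nd.e k) hu, nth_eq, List.getD_eq_getElem _ _ (by simpa using hk)]
      simp
    | prod a b out =>
      have h1 : (Nat.testBit kn a && Nat.testBit kn b && valOK nd nd.XP (nd.XC.map fun c => nth 0 c a * nth 0 c b) out &&
        go nd nd.XP pr (out :: P) kn) = true := H
      simp only [Bool.and_eq_true] at h1
      obtain ⟨f, h2, h3⟩ := (hk a h1.1.1.1).2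
      obtain ⟨g, h4, h5⟩ := (hk b h1.1.1.2).2
      refine ih (List.forall_mem_cons.2 ⟨VC.ofVal G (gen_mul h2 h4) (fun k hk => ?_)
        fun φ hφ => valOK_spec G h1.1.2 hφ, hP⟩) hk h1.2
      have h6 : k < nd.XC.length := G.spec.2.2.2.2.1 ▸ hk
      rw [Pi.mul_apply, h3 k hk, h5 k hk, nth_eq, List.getD_eq_getElem _ _ (by simpa using h6), List.getElem_map,
        Nd.X, Nd.X, ga, ga, nth_eq [], List.getD_eq_getElem _ _ h6, Int.cast_mul]
    | unit φ cf =>
      have h1 : (unitOK nd P kn φ cf && go nd nd.XP pr P (kn ||| 1 <<< φ)) = true := H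
      rw [Bool.and_eq_true] at h1
      refine ih hP (fun i hi => ?_) h1.2
      rw [Nat.testBit_or, Bool.or_eq_true, Nat.one_shiftLeft, Nat.testBit_two_pow, decide_eq_true_eq] at hi
      rcases hi with hi | rfl
      exacts [hk i hi, unit_spec G hP hk h1.1]

/-- **the columns of the node are the irreducible characters** -/
def IrrT (nd : Nd) : Prop :=
  ∀ {I W : Type} [Fintype I] [DecidableEq I] [Group W] [Fintype W] {M : CoxeterMatrix I} {cs : CoxeterSystem M W}
    {A : I → I → ℤ} {h : IsCartan M A} {em : ℕ → I} {J : Set I} (F : Fit cs h 1 nd.toTy em J 1), ∃ χ, Tab F χ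

theorem irrT_of (G : nd.Good) (pr : List Ins) (H : go nd nd.XP pr [] 1 = true) : IrrT nd := fun F =>
  exists_tab G (go_spec G pr (fun _ hl => absurd hl List.not_mem_nil) (fun φ hφ => by
    obtain rfl : φ = 0 := by
      rw [← pow_zero 2, Nat.testBit_two_pow, decide_eq_true_eq] at hφ
      exact hφ.symm
    exact ⟨G.spec.2.1, uc_zero G⟩) H)

end Cfsg.Agent.MO.WT
end

private theorem dce_8d16b93e9a2c : _root_.True := by
  try have : _root_.True := by simp only [_root_.Cfsg.Agent.MO.WT.st.eq_1]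
  try have : _root_.True := by simp only [_root_.Cfsg.Agent.MO.WT.cw.congr_simp]
  try have : _root_.True := by simp only [_root_.Cfsg.Agent.MO.UD.st.eq_1]
  try have : _root_.True := by simp only [_root_.Cfsg.Agent.MO.WT.orbOK.eq_1]
  try have : _root_.True := by simp only [_root_.Cfsg.Agent.LV.Cl.sw.eq_1]
  try have : _root_.True := by simp only [_root_.Cfsg.Agent.MO.J.cst.eq_2]
  try have : _root_.True := by simp only [_root_.Cfsg.Agent.MO.J.Cas.ad.eq_1]
  try have : _root_.True := by simp only [_root_.Cfsg.Agent.MO.J.vc.eq_1]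
  try have : _root_.True := by simp only [_root_.Cfsg.Agent.MO.J.sty.eq_1]
  try have : _root_.True := by simp only [_root_.Cfsg.Agent.MO.J.Cas.Sys.mk.congr_simp]
  try have : _root_.True := by simp only [_root_.Cfsg.Agent.MO.J.kr.eq_1]
  try have : _root_.True := by simp only [_root_.Cfsg.Agent.MO.UD.st.eq_2]
  try have : _root_.True := by simp only [_root_.Cfsg.Agent.MO.WT.rp.congr_simp]
  try have : _root_.True := by simp only [_root_.Cfsg.Agent.MO.WT.idx.eq_1]
  try have : _root_.True := by simp only [_root_.Cfsg.Agent.MO.WT.unitOK.eq_1]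
  try have : _root_.True := by simp only [_root_.Cfsg.Agent.MO.J.Cas.SA.eq_1]
  try have : _root_.True := by simp only [_root_.Cfsg.Agent.MO.UD.st._sparseCasesOn_1.else_eq]
  try have : _root_.True := by simp only [_root_.Cfsg.Agent.MO.J.lev.eq_1]
  try have : _root_.True := by simp only [_root_.Cfsg.Agent.MO.J.Cas.cy.eq_1]
  try have : _root_.True := by simp only [_root_.Cfsg.Agent.MO.WT.mem.eq_1]
  try have : _root_.True := by simp only [_root_.Cfsg.Agent.MO.WT.trN.eq_1]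
  try have : _root_.True := by simp only [_root_.Cfsg.Agent.MO.WT.cw.eq_1]
  try have : _root_.True := by simp only [_root_.Cfsg.Agent.MO.J.pr.eq_1]
  try have : _root_.True := by simp only [_root_.Cfsg.Agent.LV.W.Nd.lv.eq_1]
  try have : _root_.True := by simp only [_root_.Cfsg.Agent.LV.W.derOK'.eq_1]
  try have : _root_.True := by simp only [_root_.Cfsg.Agent.MO.WT.vc.eq_1]
  try have : _root_.True := by simp only [_root_.Cfsg.Agent.MO.J.Cas.SB.eq_1]
  try have : _root_.True := by simp only [_root_.Cfsg.Agent.MO.J.pr.congr_simp]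
  try have : _root_.True := by simp only [_root_.Cfsg.Agent.MO.J.cst.eq_1]
  try have : _root_.True := by simp only [_root_.Cfsg.Agent.MO.J.Kr.es.eq_1]
  try have : _root_.True := by simp only [_root_.Cfsg.Agent.MO.J.cst.eq_3]
  try have : _root_.True := by simp only [_root_.Cfsg.Agent.MO.WT.same.eq_1]
  try have : _root_.True := by simp only [_root_.Cfsg.Agent.MO.J.Kr.sI.eq_1]
  exact _root_.True.intro
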